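import Groth.Agent.SerreDual.HomLinear
import Groth.Agent.SerreDual.Curve
import Groth.Agent.DualMod3.Apps
import Groth.Agent.DualMod3.Vanish
import Groth.Agent.Surf15.HomShIso
import Groth.Agent.RefHullLib.Reflexive
import Groth.Agent.RefHullLib.Coh
import Groth.Agent.RefHullLib.ClassLaw
import Groth.Agent.ThetaLib.Scalar
import Groth.Agent.OmegaLib.StalkCompat
import Groth.Agent.Thick15.OmegaPullback
import Groth.Agent.ZClosLib.Descent

/-!
# Comparing top degree cohomology along a dominant morphism by Serre duality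
-/

set_option autoImplicit false
set_option linter.style.haveILetI false
set_option backward.isDefEq.respectTransparency false
set_option backward.isDefEq.respectTransparency.types false
set_option maxHeartbeats 1000000

universe u

open CategoryTheory CategoryTheory.Limits AlgebraicGeometry Opposite TopologicalSpace TensorProduct
open Groth.Agent.Coherent Groth.Agent.PicLib Groth.Agent.AmpleLib Groth.Agent.EulerLib Groth.Agent.CurveRR24
  Groth.Agent.OmegaLib

namespace Groth.Agent.TFPush7

/-- A closed subset of an irreducible space missing a point has smaller dimension. -/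
theorem topologicalKrullDim_lt_of_ne_univ {T : Type u} [TopologicalSpace T] [IrreducibleSpace T] {d : ℕ}
    (hd : topologicalKrullDim T = d) {Z : Set T} (hZ : IsClosed Z) (hne : Z ≠ Set.univ) :
    topologicalKrullDim Z < (d : WithBot ℕ∞) := by
  by_contra h
  obtain ⟨l, hl⟩ := Order.le_krullDim_iff.1 (not_lt.1 h)
  let m : IrreducibleCloseds Z → IrreducibleCloseds T := IrreducibleCloseds.map (Subtype.val : Z → T) continuous_subtype_val
  have hm : StrictMono m := IrreducibleCloseds.map_strictMono_of_isInducing hZ.isClosedEmbedding_subtypeVal.isInducing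
  let top : IrreducibleCloseds T := ⟨Set.univ, IrreducibleSpace.isIrreducible_univ T, isClosed_univ⟩
  have hlt : (l.map m hm).last < top := by
    refine lt_of_le_of_ne (fun x _ => Set.mem_univ x) fun e => hne ?_
    refine Set.eq_univ_of_univ_subset ?_
    have : closure ((Subtype.val : Z → T) '' (l.last : Set Z)) = Set.univ := congrArg (fun C : IrreducibleCloseds T => (C : Set T)) e
    rw [← this]
    exact closure_minimal (Set.image_subset_iff.2 fun z _ => z.2) hZ
  have : (((l.map m hm).snoc top hlt).length : WithBot ℕ∞) ≤ topologicalKrullDim T :=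
    le_sSup ⟨_, rfl⟩
  rw [RelSeries.snoc_length, LTSeries.map_length, hl] at this
  have h2 : ((d + 1 : ℕ) : WithBot ℕ∞) ≤ (d : WithBot ℕ∞) := le_trans this (hd.le)
  have : d + 1 ≤ d := by exact_mod_cast h2
  omega

section Small

variable {k : Type u} [Field k] {X : Scheme.{u}} [X.Over (Spec (CommRingCat.of k))]
  [IsProper (X ↘ Spec (CommRingCat.of k))] [IsIntegral X]
  {d : ℕ} {ω : X.Modules} {t : Coh.HH X ω d →ₗ[k] k}

/-- A map into a dualizing module which vanishes at the generic stalk is zero. -/
theorem hom_eq_zero_of_stalk (hrep : ∀ F : X.Modules, Coh.IsQCoh F → SerreDual.Rep t F)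
    (hd : topologicalKrullDim X = d) (hω : Coh.IsCoh ω) {F : X.Modules} (hF : Coh.IsCoh F) (φ : F ⟶ ω)
    (h : ∀ a, RefHull.stalkMapₗ φ (genericPoint X) a = 0) : φ = 0 := by
  haveI := hω.1
  haveI := hF.1
  haveI := EulerLib.isNoetherian_of_proper k (X := X)
  haveI : X.IsSeparated := ⟨by rw [← terminal.comp_from (X ↘ Spec (CommRingCat.of k))]; infer_instance⟩
  have hq : Coh.IsCoh (Abelian.image φ) := isCoh_image φ hF hω
  have hT : IsClosed (CohB1.support (Abelian.image φ)) := Coherent.isClosed_support _ (RefHullLib.locallyFinGen_of_isFP (Coherent.isFP_of_isCoh hq))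
  have hη : genericPoint X ∉ CohB1.support (Abelian.image φ) := by
    intro hz
    refine hz (subsingleton_of_forall_eq 0 fun a => ?_)
    obtain ⟨w, rfl⟩ := (ModuleCat.epi_iff_surjective
      ((DerSch.stalkFunctor X (genericPoint X)).map (Abelian.factorThruImage φ))).1 inferInstance a
    apply (ModuleCat.mono_iff_injective ((DerSch.stalkFunctor X (genericPoint X)).map (Abelian.image.ι φ))).1 inferInstance
    refine Eq.trans ?_ (map_zero ((DerSch.stalkFunctor X (genericPoint X)).map (Abelian.image.ι φ)).hom).symm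
    rw [← ConcreteCategory.comp_apply, ← CategoryTheory.Functor.map_comp, Abelian.image.fac]
    exact h w
  have hne : CohB1.support (Abelian.image φ) ≠ Set.univ := fun e => hη (e ▸ trivial)
  haveI := subsingleton_HH_of_support (X := X) ⟨_, hT⟩ (Abelian.image φ) hq.1 subset_rfl d
    (topologicalKrullDim_lt_of_ne_univ hd hT hne)
  have h0 : Abelian.image.ι φ = 0 := (hrep _ hq.1).1 <| LinearMap.ext fun x => by
    rw [Subsingleton.elim x 0, map_zero, map_zero]
  rw [← Abelian.image.fac φ, h0, comp_zero]

end Small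

section Pull

variable {k : Type u} [Field k] {X Y : Scheme.{u}} [X.Over (Spec (CommRingCat.of k))] [Y.Over (Spec (CommRingCat.of k))]

/-- Pullback along a morphism over `k` is `k`-linear on morphisms. -/
theorem pullback_map_smul (f : Y ⟶ X) (hf : f ≫ (X ↘ Spec (CommRingCat.of k)) = Y ↘ Spec (CommRingCat.of k))
    {M N : X.Modules} (c : k) (g : M ⟶ N) :
    (Scheme.Modules.pullback f).map (c • g) = c • (Scheme.Modules.pullback f).map g := by
  rw [KLin.smul_def, KLin.smul_def, Functor.map_comp]
  refine congrArg (· ≫ (Scheme.Modules.pullback f).map g) ?_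
  refine (ThetaLib.pullback_map_smulMod f M (Coh.toGlobal (X ↘ Spec (CommRingCat.of k)) c)).trans ?_
  show EulerLib.smulMod _ _ = EulerLib.smulMod _ (Coh.toGlobal (Y ↘ Spec (CommRingCat.of k)) c)
  refine congrArg (EulerLib.smulMod _) ?_
  rw [← hf]
  rfl

variable [IsIntegral X] [IsIntegral Y]

/-- Nonzero vectors stay nonzero after pullback to the generic point. -/
theorem germ_pullSect_ne_zero (f : Y ⟶ X) (hη : f (genericPoint Y) = genericPoint X) (M : X.Modules)
    (U : X.Opens) (hU : f (genericPoint Y) ∈ U) (s : Γ(M, U))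
    (hs : gm M U (f (genericPoint Y)) hU s ≠ 0) :
    gm _ (f ⁻¹ᵁ U) (genericPoint Y) hU (OmegaSh.pullSect f M U s) ≠ 0 := by
  letI := (f.stalkMap (genericPoint Y)).hom.toAlgebra
  haveI : IsDomain (X.presheaf.stalk (f (genericPoint Y))) := by rw [hη]; infer_instance
  have hfld : IsField (X.presheaf.stalk (f (genericPoint Y))) := by
    rw [hη]; exact Field.toIsField _
  letI := hfld.toField
  obtain ⟨E, hE⟩ := exists_pullback_stalk_equiv f M (genericPoint Y)
  rw [← hE U hU s, ne_eq, LinearEquiv.map_eq_zero_iff]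
  exact fun h => hs ((Module.FaithfullyFlat.one_tmul_eq_zero_iff _ _ _).1 h)

end Pull

section Compare

variable {k : Type u} [Field k] {X Y : Scheme.{u}} [X.Over (Spec (CommRingCat.of k))] [Y.Over (Spec (CommRingCat.of k))]
  [IsProper (X ↘ Spec (CommRingCat.of k))] [IsProper (Y ↘ Spec (CommRingCat.of k))] [IsIntegral X] [IsIntegral Y]

/-- The comparison of top cohomology along a dominant morphism, by duality. -/
theorem exists_surjective_of_rep (f : Y ⟶ X) (hf : f ≫ (X ↘ Spec (CommRingCat.of k)) = Y ↘ Spec (CommRingCat.of k))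
    (hη : f (genericPoint Y) = genericPoint X) {d : ℕ} (hdX : topologicalKrullDim X = d)
    {ωX : X.Modules} {tX : Coh.HH X ωX d →ₗ[k] k} (hX : ∀ F : X.Modules, Coh.IsQCoh F → SerreDual.Rep tX F)
    (hωX : Coh.IsCoh ωX)
    {ωY : Y.Modules} {tY : Coh.HH Y ωY d →ₗ[k] k} (hY : ∀ F : Y.Modules, Coh.IsQCoh F → SerreDual.Rep tY F)
    (hωY : Coh.IsCoh ωY) (hnt : Nontrivial (ωY.presheaf.stalk (genericPoint Y)))
    (F : X.Modules) (hF : Coh.IsCoh F) :
    ∃ φ : Coh.HH Y (CohB1.tensorMod (RefHull.homSh ((Scheme.Modules.pullback f).obj ωX) ωY)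
          ((Scheme.Modules.pullback f).obj F)) d →ₗ[k] Coh.HH X F d,
      Function.Surjective φ := by
  haveI := isLocallyNoetherian_of_proper k (X := X)
  haveI := isLocallyNoetherian_of_proper k (X := Y)
  let H := RefHull.homSh ((Scheme.Modules.pullback f).obj ωX) ωY
  have hP := ZClosLib.isCoh_pullback f ωX hωX
  have hG : Coh.IsCoh (CohB1.tensorMod H ((Scheme.Modules.pullback f).obj F)) :=
    RefHullLib.isCoh_tensorMod (RefHullLib.isCoh_homSh hP hωY) (ZClosLib.isCoh_pullback f F hF)
  haveI := finite_HH_of_isCoh k hF d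
  haveI := finite_HH_of_isCoh k hG d
  let ev : CohB1.tensorMod ((Scheme.Modules.pullback f).obj ωX) H ⟶ ωY := Surf15.evalBilin.desc
  let ψ : (F ⟶ ωX) →ₗ[k] (CohB1.tensorMod H ((Scheme.Modules.pullback f).obj F) ⟶ ωY) :=
    { toFun := fun g => (tensorComm H ((Scheme.Modules.pullback f).obj F)).hom ≫
        tensorMap ((Scheme.Modules.pullback f).map g) (𝟙 H) ≫ ev
      map_add' := fun g g' => by
        show _ ≫ SerreDual.tensorRightHom k _ _ H ((Scheme.Modules.pullback f).map (g + g')) ≫ _ = _
        rw [Functor.map_add, map_add, Preadditive.add_comp, Preadditive.comp_add]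
        rfl
      map_smul' := fun c g => by
        show _ ≫ SerreDual.tensorRightHom k _ _ H ((Scheme.Modules.pullback f).map (c • g)) ≫ _ = _
        rw [pullback_map_smul f hf, map_smul, Linear.smul_comp, Linear.comp_smul]
        rfl }
  have hψ : Function.Injective ψ := by
    refine (injective_iff_map_eq_zero ψ).2 fun g hg => hom_eq_zero_of_stalk hX hdX hωX hF g fun v => ?_
    by_contra hv
    obtain ⟨U, hU, s, rfl⟩ := F.presheaf.exists_germ_eq v
    rw [RefHull.stalkMapₗ_germ] at hv
    have hU' : f (genericPoint Y) ∈ U := hη ▸ hU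
    have hw : gm ωX U (f (genericPoint Y)) hU' (g.app U s) ≠ 0 := by
      have key : ∀ (x : X) (hx : x ∈ U), x = genericPoint X → gm ωX U x hx (g.app U s) ≠ 0 := by
        rintro x hx rfl
        exact hv
      exact key _ hU' hη
    let w' := OmegaSh.pullSect f ωX U (g.app U s)
    have ht := germ_pullSect_ne_zero f hη ωX U hU' (g.app U s) hw
    obtain ⟨y₀, hy₀⟩ := exists_ne (0 : ωY.presheaf.stalk (genericPoint Y))
    obtain ⟨ℓ, hℓ⟩ := Module.Projective.exists_dual_ne_zero (Y.presheaf.stalk (genericPoint Y))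
      (V := ((Scheme.Modules.pullback f).obj ωX).presheaf.stalk (genericPoint Y)) ht
    obtain ⟨θ, hθ⟩ := (RefHullLib.evalStalk_bijective_of_isCoh (G := ωY) hP (genericPoint Y)).2
      (ℓ.smulRight y₀)
    obtain ⟨W, hW, θ₀, rfl⟩ := H.presheaf.exists_germ_eq θ
    let V : Y.Opens := W ⊓ f ⁻¹ᵁ U
    let θ' : Γ(H, V) := H.presheaf.map (homOfLE (inf_le_left : V ≤ W)).op θ₀
    let s' : Γ((Scheme.Modules.pullback f).obj F, V) :=
      ((Scheme.Modules.pullback f).obj F).presheaf.map (homOfLE (inf_le_right : V ≤ f ⁻¹ᵁ U)).op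
        (OmegaSh.pullSect f F U s)
    let t' : Γ((Scheme.Modules.pullback f).obj ωX, V) :=
      ((Scheme.Modules.pullback f).obj ωX).presheaf.map (homOfLE (inf_le_right : V ≤ f ⁻¹ᵁ U)).op w'
    have hst : ((Scheme.Modules.pullback f).map g).app V s' = t' := by
      refine (app_resM _ _ _).trans ?_
      exact congrArg _ (Thick15.pullSect_naturality f g U s)
    have h0 : (ψ g).app V (tmul θ' s') = Surf15.evalBilin.app V t' θ' := by
      show ev.app V ((tensorMap ((Scheme.Modules.pullback f).map g) (𝟙 H)).app V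
        ((tensorComm H ((Scheme.Modules.pullback f).obj F)).hom.app V (tmul θ' s'))) = _
      rw [show (tensorComm H ((Scheme.Modules.pullback f).obj F)).hom.app V (tmul θ' s') = tmul s' θ' from Bilin.desc_tmul _ _ _ _, tensorMap_tmul, hst]
      exact Bilin.desc_tmul _ _ _ _
    rw [hg] at h0
    have h1 : ωY.presheaf.germ V (genericPoint Y) ⟨hW, hU'⟩ (Surf15.evalSec θ' t') = 0 :=
      (congrArg _ h0.symm).trans (map_zero _)
    rw [Surf15.germ_evalSec] at h1
    refine smul_ne_zero hℓ hy₀ ?_
    refine Eq.trans ?_ h1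
    rw [← RefHull.evalStalk_germ, TopCat.Presheaf.germ_res_apply, TopCat.Presheaf.germ_res_apply, hθ]
    rfl
  let eX := SerreDual.dualEquiv tX (hX F hF.1)
  let eY := SerreDual.dualEquiv tY (hY _ hG.1)
  have hrk : Module.finrank k (Coh.HH X F d) ≤
      Module.finrank k (Coh.HH Y (CohB1.tensorMod H ((Scheme.Modules.pullback f).obj F)) d) := by
    haveI := Module.Finite.equiv eY.symm
    have := LinearMap.finrank_le_finrank_of_injective hψ
    rwa [eX.finrank_eq, eY.finrank_eq, Subspace.dual_finrank_eq, Subspace.dual_finrank_eq] at this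
  let b := Module.finBasis k (Coh.HH Y (CohB1.tensorMod H ((Scheme.Modules.pullback f).obj F)) d)
  let c := Module.finBasis k (Coh.HH X F d)
  refine ⟨b.constr k fun i => if h : i.1 < Module.finrank k (Coh.HH X F d) then c ⟨i.1, h⟩ else 0, ?_⟩
  rw [← LinearMap.range_eq_top, eq_top_iff, ← c.span_eq, Submodule.span_le]
  rintro _ ⟨i, rfl⟩
  exact ⟨b ⟨i.1, i.2.trans_le hrk⟩, by rw [Module.Basis.constr_basis, dif_pos i.2]⟩

end Compare

end Groth.Agent.TFPush7
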