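import Groth.Agent.AssSch12.Primary
import Groth.Agent.RefHullLib.Reflexive
import Groth.Agent.Coherent.FiniteType
import Groth.Agent.OmegaLib.StalkCompat

/-!
# Subsheaves and supersheaves of a coherent module with prescribed stalks at finitely many closed points
-/

set_option autoImplicit false
set_option linter.style.haveILetI false
set_option backward.isDefEq.respectTransparency false
set_option maxHeartbeats 1000000

universe u

open CategoryTheory CategoryTheory.Limits AlgebraicGeometry Opposite TopologicalSpace IsLocalRing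
open Groth.Agent.Coherent Groth.Agent.ModStalk

namespace Groth.Agent.TFPush7

variable {X : Scheme.{u}}

theorem stalkMap_comp {A B C : X.Modules} (f : A ⟶ B) (g : B ⟶ C) (x : X) :
    RefHull.stalkMapₗ (f ≫ g) x = RefHull.stalkMapₗ g x ∘ₗ RefHull.stalkMapₗ f x := by
  refine LinearMap.ext fun v => ?_
  obtain ⟨W, hW, m, rfl⟩ := A.presheaf.exists_germ_eq v
  rw [LinearMap.comp_apply, RefHull.stalkMapₗ_germ, RefHull.stalkMapₗ_germ, RefHull.stalkMapₗ_germ]
  rfl

theorem stalkMap_injective_of_mono {A B : X.Modules} (f : A ⟶ B) [Mono f] (x : X) :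
    Function.Injective (RefHull.stalkMapₗ f x) :=
  (ModuleCat.mono_iff_injective ((DerSch.stalkFunctor X x).map f)).1 inferInstance

theorem mem_range_kernel_iff {A B : X.Modules} (f : A ⟶ B) (x : X) (z : A.presheaf.stalk x) :
    z ∈ LinearMap.range (RefHull.stalkMapₗ (kernel.ι f) x) ↔ RefHull.stalkMapₗ f x z = 0 := by
  let S := ShortComplex.mk (kernel.ι f) f (kernel.condition f)
  have hS : S.Exact := S.exact_of_f_is_kernel (kernelIsKernel f)
  have hex := (ShortComplex.ShortExact.moduleCat_exact_iff_function_exact _).1 (hS.map (DerSch.stalkFunctor X x))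
  exact (hex z).symm

theorem isZero_sky_stalk {x : X} (hx : IsClosed ({x} : Set X)) (A : ModuleCat.{u} (X.presheaf.stalk x))
    {y : X} (hy : y ≠ x) (v : ((sky x).obj A).presheaf.stalk y) : v = 0 := by
  obtain ⟨W, hW, s, rfl⟩ := ((sky x).obj A).presheaf.exists_germ_eq v
  let O : X.Opens := W ⊓ ⟨({x} : Set X)ᶜ, hx.isOpen_compl⟩
  have hs : ((sky x).obj A).presheaf.map (homOfLE (inf_le_left : O ≤ W)).op s = 0 :=
    sval_ext (A := A) (U := O) fun h => absurd rfl h.2
  rw [← TopCat.Presheaf.germ_res_apply _ (homOfLE (inf_le_left : O ≤ W)) y ⟨hW, hy⟩ s, hs, map_zero]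

variable [IsLocallyNoetherian X]

/-- A subsheaf with prescribed stalk at a closed point, unchanged elsewhere. -/
theorem exists_sub_one {G : X.Modules} (hG : Coh.IsCoh G) {x : X} (hx : IsClosed ({x} : Set X))
    (L : Submodule (X.presheaf.stalk x) (G.presheaf.stalk x)) (k : ℕ)
    (hk : (maximalIdeal (X.presheaf.stalk x)) ^ k • (⊤ : Submodule (X.presheaf.stalk x) (G.presheaf.stalk x)) ≤ L) :
    ∃ (E : X.Modules) (i : E ⟶ G), Coh.IsCoh E ∧ Mono i ∧ LinearMap.range (RefHull.stalkMapₗ i x) = L ∧
      ∀ y, y ≠ x → Function.Bijective (RefHull.stalkMapₗ i y) := by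
  let A : ModuleCat.{u} (X.presheaf.stalk x) := ModuleCat.of _ (G.presheaf.stalk x ⧸ L)
  let φ : G ⟶ (sky x).obj A := ⟨liftSky (P := G.val) (ModuleCat.ofHom (Submodule.mkQ _))⟩
  haveI := hG.1
  haveI : Coh.IsQCoh ((sky x).obj A) := AssSch12.isQCoh_sky A k fun r hr a => by
    obtain ⟨z, rfl⟩ := Submodule.mkQ_surjective _ a
    rw [← map_smul]
    exact (Submodule.Quotient.mk_eq_zero _).2 (hk (Submodule.smul_mem_smul (Ideal.pow_mem_pow hr _) trivial))
  have hker : ∀ z : G.presheaf.stalk x, RefHull.stalkMapₗ φ x z = 0 ↔ z ∈ L := by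
    intro z
    obtain ⟨W, hW, s, rfl⟩ := G.presheaf.exists_germ_eq z
    rw [RefHull.stalkMapₗ_germ]
    constructor
    · intro h
      obtain ⟨W', hW', i, j, e⟩ := ((sky x).obj A).presheaf.germ_eq x hW hW _ 0 (h.trans (map_zero _).symm)
      rw [map_zero] at e
      have e' : φ.app W' (G.presheaf.map i.op s) = 0 :=
        (ConcreteCategory.congr_hom (φ.mapPresheaf.naturality i.op) s).trans e
      rw [← TopCat.Presheaf.germ_res_apply G.presheaf i x hW' s]
      exact (Submodule.Quotient.mk_eq_zero _).1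
        (congrArg (fun t => sval (A := A) (U := W') t hW') e')
    · intro h
      have e : φ.app W s = 0 := sval_ext (A := A) (U := W) fun h' => (Submodule.Quotient.mk_eq_zero _).2 h
      rw [e, map_zero]
  refine ⟨kernel φ, kernel.ι φ, Coherent.isCoh_of_mono (kernel.ι φ) hG (isQCoh_kernel φ), inferInstance,
    Submodule.ext fun z => (mem_range_kernel_iff φ x z).trans (hker z), fun y hy => ?_⟩
  exact ⟨stalkMap_injective_of_mono _ y,
    fun z => (mem_range_kernel_iff φ y z).2 (isZero_sky_stalk hx A hy _)⟩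

/-- A subsheaf with prescribed stalks at finitely many closed points. -/
theorem exists_sub {G : X.Modules} (hG : Coh.IsCoh G) (S : Finset X) (hS : ∀ x ∈ S, IsClosed ({x} : Set X))
    (L : ∀ x, Submodule (X.presheaf.stalk x) (G.presheaf.stalk x))
    (hL : ∀ x ∈ S, ∃ k : ℕ,
      (maximalIdeal (X.presheaf.stalk x)) ^ k • (⊤ : Submodule (X.presheaf.stalk x) (G.presheaf.stalk x)) ≤ L x) :
    ∃ (E : X.Modules) (i : E ⟶ G), Coh.IsCoh E ∧ Mono i ∧
      (∀ x ∈ S, LinearMap.range (RefHull.stalkMapₗ i x) = L x) ∧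
      ∀ y, y ∉ S → Function.Bijective (RefHull.stalkMapₗ i y) := by
  classical
  induction S using Finset.induction_on with
  | empty =>
    refine ⟨G, 𝟙 G, hG, inferInstance, fun x hx => absurd hx (Finset.notMem_empty x), fun y _ => ?_⟩
    exact ConcreteCategory.bijective_of_isIso ((DerSch.stalkFunctor X y).map (𝟙 G))
  | @insert x S hxS ih =>
    obtain ⟨E₀, i₀, hE₀, hm₀, hr₀, hb₀⟩ := ih (fun y hy => hS y (Finset.mem_insert_of_mem hy))
      (fun y hy => hL y (Finset.mem_insert_of_mem hy))
    obtain ⟨k, hk⟩ := hL x (Finset.mem_insert_self x S)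
    obtain ⟨E, i, hE, hm, hr, hb⟩ := exists_sub_one hE₀ (hS x (Finset.mem_insert_self x S))
      ((L x).comap (RefHull.stalkMapₗ i₀ x)) k (by
        rw [← Submodule.map_le_iff_le_comap, Submodule.map_smul'']
        exact (Submodule.smul_mono le_rfl le_top).trans hk)
    refine ⟨E, i ≫ i₀, hE, mono_comp i i₀, fun y hy => ?_, fun y hy => ?_⟩
    · rw [stalkMap_comp, LinearMap.range_comp]
      rcases Finset.mem_insert.1 hy with rfl | hy
      · rw [hr, Submodule.map_comap_eq_of_surjective (hb₀ _ hxS).2]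
      · rw [LinearMap.range_eq_top.2 (hb y (fun h => hxS (h ▸ hy))).2, Submodule.map_top, hr₀ y hy]
    · rw [Finset.mem_insert, not_or] at hy
      rw [stalkMap_comp, LinearMap.coe_comp]
      exact (hb₀ y hy.2).comp (hb y hy.1)

/-- The stalk of the dual is the dual of the stalk. -/
noncomputable def dualEquiv {F : X.Modules} (hF : Coh.IsCoh F) (x : X) :
    (RefHull.dual F).presheaf.stalk x ≃ₗ[X.presheaf.stalk x] Module.Dual (X.presheaf.stalk x) (F.presheaf.stalk x) :=
  (LinearEquiv.ofBijective (RefHull.evalStalk F (Coh.structureModule X) x)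
    (RefHullLib.evalStalk_bijective_of_isCoh hF x)).trans
    (LinearEquiv.arrowCongr (LinearEquiv.refl _ _) (SDiv28.unitStalkEquiv x).symm)

/-- Precomposition on duals. -/
noncomputable def dualPre {E F : X.Modules} (i : E ⟶ F) : RefHull.dual F ⟶ RefHull.dual E :=
  ⟨PresheafOfModules.homMk
    { app := fun U => AddCommGrpCat.ofHom
        { toFun := fun g => (⟨fun y => ((g : Γ(RefHull.dual F, U.unop)).1 y).comp (RefHull.stalkMapₗ i y.1),
            fun V e m y => by
              obtain ⟨W, hW, j, n, w⟩ := RefHull.isLocSect_of_mem g V e (i.app V m) y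
              refine ⟨W, hW, j, n, fun z => ?_⟩
              rw [LinearMap.comp_apply, RefHull.stalkMapₗ_germ]
              exact w z⟩ : Γ(RefHull.dual E, U.unop))
          map_zero' := Subtype.ext (funext fun _ => rfl)
          map_add' := fun _ _ => Subtype.ext (funext fun _ => rfl) }
      naturality := fun _ _ _ => rfl }
    (fun _ _ _ => Subtype.ext (funext fun _ => rfl))⟩

theorem evalStalk_dualPre {E F : X.Modules} (i : E ⟶ F) (x : X) (θ : (RefHull.dual F).presheaf.stalk x) :
    RefHull.evalStalk E (Coh.structureModule X) x (RefHull.stalkMapₗ (dualPre i) x θ) =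
      (RefHull.evalStalk F (Coh.structureModule X) x θ).comp (RefHull.stalkMapₗ i x) := by
  obtain ⟨W, hW, g, rfl⟩ := (RefHull.dual F).presheaf.exists_germ_eq θ
  rw [RefHull.stalkMapₗ_germ, RefHull.evalStalk_germ, RefHull.evalStalk_germ]
  rfl

theorem dualEquiv_dualPre {E F : X.Modules} (hE : Coh.IsCoh E) (hF : Coh.IsCoh F) (i : E ⟶ F) (x : X)
    (θ : (RefHull.dual F).presheaf.stalk x) (w : E.presheaf.stalk x) :
    dualEquiv hE x (RefHull.stalkMapₗ (dualPre i) x θ) w = dualEquiv hF x θ (RefHull.stalkMapₗ i x w) := by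
  simp only [dualEquiv, LinearEquiv.trans_apply, LinearEquiv.ofBijective_apply, evalStalk_dualPre,
    LinearEquiv.arrowCongr_apply, LinearEquiv.refl_symm, LinearEquiv.refl_apply, LinearMap.comp_apply]

theorem dualEquiv_bidual {F : X.Modules} (hF : Coh.IsCoh F) (x : X) (v : F.presheaf.stalk x)
    (θ : (RefHull.dual F).presheaf.stalk x) :
    dualEquiv (RefHullLib.isCoh_dual hF (isCoh_structureModule X)) x (RefHull.stalkMapₗ (RefHull.bidualMap F) x v) θ =
      dualEquiv hF x θ v := by
  simp only [dualEquiv, LinearEquiv.trans_apply, LinearEquiv.ofBijective_apply,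
    RefHullLib.evalStalk_bidualMap, RefHull.bidualAt_apply,
    LinearEquiv.arrowCongr_apply, LinearEquiv.refl_symm, LinearEquiv.refl_apply]

/-- The supersheaf dual to prescribed submodules of the duals of the stalks. -/
theorem exists_dual_over {F : X.Modules} (hF : Coh.IsCoh F) (S : Finset X) (hS : ∀ x ∈ S, IsClosed ({x} : Set X))
    (hfree : ∀ x, x ∉ S → Module.Free (X.presheaf.stalk x) (F.presheaf.stalk x))
    (L : ∀ x, Submodule (X.presheaf.stalk x) (Module.Dual (X.presheaf.stalk x) (F.presheaf.stalk x)))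
    (hL : ∀ x ∈ S, ∃ k : ℕ,
      (maximalIdeal (X.presheaf.stalk x)) ^ k •
        (⊤ : Submodule (X.presheaf.stalk x) (Module.Dual (X.presheaf.stalk x) (F.presheaf.stalk x))) ≤ L x) :
    ∃ (G : X.Modules) (j : F ⟶ G), Coh.IsCoh G ∧
      (∀ x ∈ S, ∃ e : G.presheaf.stalk x ≃ₗ[X.presheaf.stalk x] Module.Dual (X.presheaf.stalk x) (L x),
        ∀ (v : F.presheaf.stalk x) (θ : L x), e (RefHull.stalkMapₗ j x v) θ = θ.1 v) ∧
      ∀ x, x ∉ S → Function.Bijective (RefHull.stalkMapₗ j x) := by
  have hO := isCoh_structureModule X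
  have hd := RefHullLib.isCoh_dual hF hO
  obtain ⟨E, i, hE, hm, hr, hb⟩ := exists_sub hd S hS (fun x => (L x).comap (dualEquiv hF x).toLinearMap)
    (fun x hx => by
      obtain ⟨k, hk⟩ := hL x hx
      refine ⟨k, ?_⟩
      rw [← Submodule.map_le_iff_le_comap, Submodule.map_smul'']
      exact (Submodule.smul_mono le_rfl le_top).trans hk)
  refine ⟨RefHull.dual E, RefHull.bidualMap F ≫ dualPre i, RefHullLib.isCoh_dual hE hO, fun x hx => ?_,
    fun x hx => ?_⟩
  · let q : E.presheaf.stalk x ≃ₗ[X.presheaf.stalk x] L x := LinearEquiv.ofBijective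
      (((dualEquiv hF x).toLinearMap ∘ₗ RefHull.stalkMapₗ i x).codRestrict (L x) fun w => by
        have h : RefHull.stalkMapₗ i x w ∈ (L x).comap (dualEquiv hF x).toLinearMap :=
          (hr x hx) ▸ LinearMap.mem_range_self _ w
        exact h)
      ⟨fun a b h => stalkMap_injective_of_mono i x ((dualEquiv hF x).injective (congrArg Subtype.val h)),
        fun θ => by
          have h : (dualEquiv hF x).symm θ.1 ∈ LinearMap.range (RefHull.stalkMapₗ i x) := by
            rw [hr x hx, Submodule.mem_comap]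
            simp
          obtain ⟨w, hw⟩ := h
          exact ⟨w, Subtype.ext (by simp [hw])⟩⟩
    refine ⟨(dualEquiv hE x).trans q.symm.dualMap, fun v θ => ?_⟩
    obtain ⟨w, rfl⟩ := q.surjective θ
    rw [LinearEquiv.trans_apply, LinearEquiv.dualMap_apply, LinearEquiv.symm_apply_apply, stalkMap_comp,
      LinearMap.comp_apply, dualEquiv_dualPre hE hd, dualEquiv_bidual hF]
    rfl
  · have h1 : Function.Bijective (RefHull.stalkMapₗ (RefHull.bidualMap F) x) := by
      rw [RefHullLib.bijective_stalk_bidualMap_iff hF]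
      haveI := hfree x hx
      haveI := AssSch12.finite_stalk hF x
      show Module.IsReflexive _ _
      infer_instance
    rw [stalkMap_comp, LinearMap.coe_comp]
    refine Function.Bijective.comp ?_ h1
    let e : E.presheaf.stalk x ≃ₗ[X.presheaf.stalk x] (RefHull.dual F).presheaf.stalk x :=
      LinearEquiv.ofBijective _ (hb x hx)
    have : ⇑(RefHull.stalkMapₗ (dualPre i) x) =
        (dualEquiv hE x).symm ∘ e.dualMap ∘ dualEquiv hd x := by
      funext θ
      refine ((dualEquiv hE x).eq_symm_apply).2 (LinearMap.ext fun w => ?_)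
      exact dualEquiv_dualPre hE hd i x θ w
    rw [this]
    exact (dualEquiv hE x).symm.bijective.comp (e.dualMap.bijective.comp (dualEquiv hd x).bijective)

end Groth.Agent.TFPush7
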