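import Groth.Agent.EulerLib.StabBasic
import Groth.Agent.VarietyLib.PushEuler
import Groth.Agent.Coherent.FinitePres
import Groth.Agent.Coherent.ProperFinite
import Groth.Agent.Coherent.Existence.SysKernel
import Groth.Agent.AmpleLib.Ample
import Groth.Agent.CurveRR24.Vanish
import Groth.Agent.Coherent.SupportPullback

/-!
# Semistability and direct image along a finite morphism which is an isomorphism over a dense open of a curve
-/

set_option autoImplicit false
set_option linter.style.haveILetI false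
set_option backward.isDefEq.respectTransparency.types false
set_option maxHeartbeats 1000000

universe u

open CategoryTheory CategoryTheory.Limits AlgebraicGeometry Opposite TopologicalSpace StabCat Polynomial
open Groth.Agent.Coherent Groth.Agent.PicLib Groth.Agent.AmpleLib Groth.Agent.EulerLib

namespace Groth.Agent.TFPush7

variable {X Y : Scheme.{u}} (f : Y ⟶ X) [IsFinite f]

theorem preservesMono_push {F G : Y.Modules} (φ : F ⟶ G) [Mono φ] : Mono ((Coh.push f).map φ) := by
  haveI : (Coh.push f).IsRightAdjoint :=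
    (Scheme.Modules.pullbackPushforwardAdjunction f).isRightAdjoint
  infer_instance

theorem isZero_of_isZero_push {M : Y.Modules} (hM : Coh.IsQCoh M) (h : IsZero ((Coh.push f).obj M)) :
    IsZero M := by
  refine isZero_of_sections_cover hM (fun W : X.affineOpens => f ⁻¹ᵁ W.1) (fun W => W.2.preimage f) ?_ ?_
  · intro y
    obtain ⟨W, hW, hyW, -⟩ := exists_isAffineOpen_mem_and_subset (x := f y) (U := ⊤) trivial
    exact ⟨⟨W, hW⟩, hyW⟩
  · exact fun W => subsingleton_of_forall_eq 0 fun s =>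
      congrArg (fun φ : (Coh.push f).obj M ⟶ (Coh.push f).obj M => φ.app W.1 s)
        ((IsZero.iff_id_eq_zero _).1 h)

theorem isZero_push {M : Y.Modules} (h : IsZero M) : IsZero ((Coh.push f).obj M) :=
  (IsZero.iff_id_eq_zero _).2 (by
    rw [← (Coh.push f).map_id, (IsZero.iff_id_eq_zero _).1 h]
    exact Functor.map_zero _ _ _)

variable (k : Type u) [Field k] [X.Over (Spec (CommRingCat.of k))] [Y.Over (Spec (CommRingCat.of k))]
  [IsProper (X ↘ Spec (CommRingCat.of k))] [IsProper (Y ↘ Spec (CommRingCat.of k))]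

omit [IsProper (X ↘ Spec (CommRingCat.of k))] [IsProper (Y ↘ Spec (CommRingCat.of k))] in
/-- Hilbert polynomials along a finite morphism. -/
theorem isHilbPoly_push_iff (hf : f ≫ (X ↘ Spec (CommRingCat.of k)) = Y ↘ Spec (CommRingCat.of k))
    {L : X.Modules} (hL : PicF.IsInvertible L) {F : Y.Modules} (hF : Coh.IsQCoh F) (P : ℚ[X]) :
    ShStab.IsHilbPoly k X L ((Coh.push f).obj F) P ↔
      ShStab.IsHilbPoly k Y ((Scheme.Modules.pullback f).obj L) F P := by
  refine forall_congr' fun m => ?_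
  haveI := hF
  have hLm : FlatMod.IsFinLocFree (CohB1.tensorPow L m) := fun x =>
    let ⟨U, hx, e⟩ := isFinLocFreeOfRank_one (isInvertible_tensorPow hL m) x; ⟨U, 1, hx, e⟩
  obtain ⟨e, -⟩ := exists_pullPowIso f hL m
  have hLY := isInvertible_tensorPow (PicLoc.isInvertible_pullback f hL) m
  let G := CohB1.tensorMod ((Scheme.Modules.pullback f).obj (CohB1.tensorPow L m)) F
  haveI : Coh.IsQCoh G := isQCoh_of_iso
    (AmpleLib.tensorComm F _ ≪≫ AmpleLib.tensorIso e.symm (Iso.refl F))
    (h := isQCoh_tensor_invertible F hLY)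
  have h1 : Curv2.euler k X (ShStab.twist X L ((Coh.push f).obj F) m) =
      Curv2.euler k Y (ShStab.twist Y ((Scheme.Modules.pullback f).obj L) F m) := by
    rw [euler_congr k X (show ShStab.twist X L ((Coh.push f).obj F) m ≅ _ from
        AmpleLib.tensorComm _ _ ≪≫ (projIso (f := f) hLm).app F),
      euler_congr k Y (show ShStab.twist Y ((Scheme.Modules.pullback f).obj L) F m ≅ G from
        AmpleLib.tensorIso (Iso.refl F) e.symm ≪≫ AmpleLib.tensorComm _ _)]
    exact (VarietyLib.euler_push_of_acyclic f k hf G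
      (fun _ hV n => subsingleton_H'_qcoh G (hV.preimage f) n)).symm
  rw [h1]

variable (hf : f ≫ (X ↘ Spec (CommRingCat.of k)) = Y ↘ Spec (CommRingCat.of k))
  (hX : topologicalKrullDim X ≤ 1) (hY : topologicalKrullDim Y ≤ 1)
  {L : X.Modules} (hL : CohB1.IsAmple L)

omit [X.Over (Spec (CommRingCat.of k))] [Y.Over (Spec (CommRingCat.of k))]
  [IsProper (X ↘ Spec (CommRingCat.of k))] [IsProper (Y ↘ Spec (CommRingCat.of k))] k [IsFinite f] in
theorem dim_subset_le (h : topologicalKrullDim X ≤ 1) (T : Set X) : topologicalKrullDim T ≤ ((1 : ℕ) : WithBot ℕ∞) :=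
  (Topology.IsInducing.subtypeVal.topologicalKrullDim_le).trans (by exact_mod_cast h)

include hf hL in
theorem exists_hp_push {F : Y.Modules} (hF : Coh.IsCoh F) :
    ∃ P, ShStab.IsHilbPoly k X L ((Coh.push f).obj F) P ∧
      ShStab.IsHilbPoly k Y ((Scheme.Modules.pullback f).obj L) F P :=
  ⟨_, (isHilbPoly_push_iff f k hf hL.1 hF.1 _).2 (isHilbPoly_hp k (isAmple_pullback_of_isAffineHom f hL) F hF),
    isHilbPoly_hp k (isAmple_pullback_of_isAffineHom f hL) F hF⟩

include hf hY hL in
theorem isPure_of_push {E : Y.Modules} (h : ShStab.IsPure X ((Coh.push f).obj E) 1) : ShStab.IsPure Y E 1 := by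
  intro F ι hι hF hz
  haveI := hι
  haveI := preservesMono_push f ι
  haveI := isNoetherian_of_proper (X := X) k
  have hFX : Coh.IsCoh ((Coh.push f).obj F) := isCoh_push_finite f hF
  have h1 := h _ ((Coh.push f).map ι) inferInstance hFX (fun h0 => hz (isZero_of_isZero_push f hF.1 h0))
  obtain ⟨P, hPX, hPY⟩ := exists_hp_push f k hf hL hF
  have hpos := alpha_pos k hL hFX hPX h1
  rcases (dim_subset_le hY (CohB1.support F)).lt_or_eq with h2 | h2
  · rw [alpha_eq_zero_of_dim_lt k (isAmple_pullback_of_isAffineHom f hL).1 hF hPY h2] at hpos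
    exact absurd hpos (lt_irrefl _)
  · exact h2

section Image

variable [IsIntegral X] (U : X.Opens) [IsIso (f ∣_ U)] (hU : genericPoint X ∈ U) {E : Y.Modules} (hE : Coh.IsCoh E)
  {F : X.Modules} (ι : F ⟶ (Coh.push f).obj E) [Mono ι] (hF : Coh.IsCoh F)

/-- The submodule generated upstairs. -/
noncomputable abbrev adjunct : (Scheme.Modules.pullback f).obj F ⟶ E :=
  ((Scheme.Modules.pullbackPushforwardAdjunction f).homEquiv F E).symm ι

/-- The map to the direct image of the submodule generated upstairs. -/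
noncomputable abbrev toImg : F ⟶ (Coh.push f).obj (image (adjunct f ι)) :=
  ((Scheme.Modules.pullbackPushforwardAdjunction f).homEquiv F _) (factorThruImage (adjunct f ι))

omit [IsFinite f] [Mono ι] in
theorem toImg_ι : toImg f ι ≫ (Coh.push f).map (image.ι (adjunct f ι)) = ι := by
  rw [← Adjunction.homEquiv_naturality_right, image.fac, Equiv.apply_symm_apply]

instance mono_toImg : Mono (toImg f ι) := mono_of_mono_fac (toImg_ι f ι)

include k hU hX hE hF in
/-- The two submodules differ in dimension zero. -/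
theorem dim_cokernel_lt : topologicalKrullDim (CohB1.support (cokernel (toImg f ι))) < ((1 : ℕ) : WithBot ℕ∞) := by
  haveI := isNoetherian_of_proper (X := X) k
  haveI : IsLocallyNoetherian Y := LocallyOfFiniteType.isLocallyNoetherian f
  let p := factorThruImage (adjunct f ι)
  let Q := cokernel (toImg f ι)
  haveI := hF.1
  haveI hpb : Coh.IsQCoh ((Scheme.Modules.pullback f).obj F) := EGA43.InjFibre.isQCoh_pullback f F
  have hI : Coh.IsCoh (image (adjunct f ι)) := isCoh_iso (Abelian.imageIsoImage (adjunct f ι))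
    (isCoh_image _ ⟨hpb, Coherent.isFT_pullback_qcoh f hF.1 hF.2⟩ hE)
  haveI := hI.1
  have hI' : Coh.IsCoh ((Coh.push f).obj (image (adjunct f ι))) := isCoh_push_finite f hI
  haveI := hI'.1
  have hQ : Coh.IsCoh Q := isCoh_cokernel _ hF.1 hI'
  haveI := hQ.1
  have hzero : ∀ W : X.Opens, IsAffineOpen W → W ≤ U → Subsingleton Γ(Q, W) := by
    intro W hW hWU
    refine subsingleton_of_forall_eq 0 fun z => ?_
    obtain ⟨s, rfl⟩ := Existence.app_surjective_of_epi (cokernel.π (toImg f ι)) hW z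
    obtain ⟨w, hw⟩ := Existence.app_surjective_of_epi p (hW.preimage f) s
    -- sections upstairs come from downstairs
    letI := (f.appLE W (f ⁻¹ᵁ W) le_rfl).hom.toAlgebra
    letI := Module.compHom Γ((Scheme.Modules.pullback f).obj F, f ⁻¹ᵁ W) (f.appLE W (f ⁻¹ᵁ W) le_rfl).hom
    haveI : IsScalarTower Γ(X, W) Γ(Y, f ⁻¹ᵁ W) Γ((Scheme.Modules.pullback f).obj F, f ⁻¹ᵁ W) :=
      IsScalarTower.of_algebraMap_smul fun _ _ => rfl
    obtain ⟨μ, hμ, hμe⟩ := EGA43.InjFibre.pullMap_isBaseChange f hW (hW.preimage f) le_rfl (M := F)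
    have hbij : Function.Surjective (f.app W) := by
      haveI : IsIso (f.app (U.ι ''ᵁ (U.ι ⁻¹ᵁ W))) := by
        have := (inferInstance : IsIso ((f ∣_ U).app (U.ι ⁻¹ᵁ W)))
        rw [morphismRestrict_app f U (U.ι ⁻¹ᵁ W)] at this
        exact @IsIso.of_isIso_comp_right _ _ _ _ _ _ _ (Functor.map_isIso Y.presheaf _) this
      have e0 : U.ι ''ᵁ (U.ι ⁻¹ᵁ W) = W := by
        rw [Scheme.Hom.image_preimage_eq_opensRange_inf, Scheme.Opens.opensRange_ι]
        exact inf_eq_right.2 hWU
      haveI : IsIso (f.app W) := e0 ▸ inferInstance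
      exact (ConcreteCategory.bijective_of_isIso (f.app W)).2
    have hsur : ∀ w', ∃ x : Γ(F, W), μ x = w' := by
      intro w'
      refine hμ.inductionOn w' _ ⟨0, map_zero μ⟩ (fun x => ⟨x, rfl⟩) (fun r y ⟨x, hx⟩ => ?_)
        (fun y y' ⟨x, hx⟩ ⟨x', hx'⟩ => ⟨x + x', by rw [map_add, hx, hx']⟩)
      obtain ⟨a, rfl⟩ := hbij r
      refine ⟨a • x, ?_⟩
      rw [map_smul, hx]
      show f.appLE W (f ⁻¹ᵁ W) le_rfl a • y = f.app W a • y
      rw [Scheme.Hom.app_eq_appLE]
    obtain ⟨x, hx⟩ := hsur w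
    have e : (toImg f ι).app W x = s := by
      rw [← hw, ← hx, hμe, pullMap_eq_resM_pullSec, resM_self]
      rfl
    rw [← e]
    exact congrArg (fun φ : F ⟶ Q => φ.app W x) (cokernel.condition (toImg f ι))
  have hsupp : CohB1.support Q ⊆ (U : Set X)ᶜ := by
    intro x hx hxU
    refine hx (subsingleton_of_forall_eq 0 fun t => ?_)
    obtain ⟨V, hxV, s, rfl⟩ := TopCat.Presheaf.exists_germ_eq Q.presheaf t
    obtain ⟨W, hW, hxW, hWle⟩ := exists_isAffineOpen_mem_and_subset (x := x) (U := V ⊓ U) ⟨hxV, hxU⟩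
    have hWle' : W ≤ V ⊓ U := hWle
    rw [← TopCat.Presheaf.germ_res_apply Q.presheaf (homOfLE (hWle'.trans inf_le_left)) x hxW s]
    exact (congrArg _ ((hzero W hW (hWle'.trans inf_le_right)).elim _ 0)).trans (map_zero _)
  exact lt_of_le_of_lt (Topology.IsEmbedding.inclusion hsupp).toIsInducing.topologicalKrullDim_le
    (CurveRR24.closed_small k hX U.2.isClosed_compl fun h => h hU).2.2

include hf hX hY hL hU hE hF in
/-- Compare with the submodule generated upstairs. -/
theorem exists_compare (hz : ¬ IsZero F) :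
    ∃ (P P' : ℚ[X]), ShStab.IsHilbPoly k X L F P ∧
      ShStab.IsHilbPoly k Y ((Scheme.Modules.pullback f).obj L) (image (adjunct f ι)) P' ∧
      PolyLE P P' ∧ alpha 1 P' = alpha 1 P ∧ ¬ IsZero (image (adjunct f ι)) ∧
      Coh.IsCoh (image (adjunct f ι)) ∧ (¬ IsIso ι → IsIso (image.ι (adjunct f ι)) → PolyLT P P') := by
  haveI := isNoetherian_of_proper (X := X) k
  haveI : IsLocallyNoetherian Y := LocallyOfFiniteType.isLocallyNoetherian f
  haveI := hF.1
  have hpb : Coh.IsCoh ((Scheme.Modules.pullback f).obj F) :=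
    ⟨EGA43.InjFibre.isQCoh_pullback f F, Coherent.isFT_pullback_qcoh f hF.1 hF.2⟩
  have hI : Coh.IsCoh (image (adjunct f ι)) := isCoh_iso (Abelian.imageIsoImage (adjunct f ι)) (isCoh_image _ hpb hE)
  have hI' : Coh.IsCoh ((Coh.push f).obj (image (adjunct f ι))) := isCoh_push_finite f hI
  obtain ⟨P', hP'X, hP'Y⟩ := exists_hp_push f k hf hL hI
  obtain ⟨R, hR, hsum⟩ := hilb_mono k hL (toImg f ι) hF hI' (isHilbPoly_hp k hL F hF) hP'X
  have hQ : Coh.IsCoh (cokernel (toImg f ι)) := isCoh_cokernel _ hF.1 hI'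
  have hz' : ¬ IsZero (image (adjunct f ι)) := fun h0 =>
    hz (IsZero.of_mono (toImg f ι) (isZero_push f h0))
  refine ⟨_, P', isHilbPoly_hp k hL F hF, hP'Y, ?_, ?_, hz', hI, fun hne hiso => ?_⟩
  · rw [hsum]
    have h0 := polyLE_zero k hL hQ hR
    have := (polyLE_add_right (R := hp k hL F hF)).2 h0
    rwa [zero_add, add_comm R] at this
  · rw [hsum, alpha_add, alpha_eq_zero_of_dim_lt k hL.1 hQ hR
      (dim_cokernel_lt f k hX U hU hE ι hF), add_zero]
  · have hne' : ¬ IsZero (cokernel (toImg f ι)) := fun h0 => hne (by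
      haveI : Epi (toImg f ι) := Preadditive.epi_of_isZero_cokernel _ h0
      haveI : IsIso (toImg f ι) := isIso_of_mono_of_epi _
      rw [← toImg_ι f ι]
      infer_instance)
    have hpos := hilb_leadingCoeff_pos k hL hQ hne' hR
    rw [polyLT_iff, hsum, add_sub_cancel_left]
    exact hpos

end Image

variable [IsIntegral X] (U : X.Opens) [IsIso (f ∣_ U)] (hU : genericPoint X ∈ U) {E : Y.Modules}

include hf hX hY hL hU in
theorem isPure_push (hE : Coh.IsCoh E) (h : ShStab.IsPure Y E 1) : ShStab.IsPure X ((Coh.push f).obj E) 1 := by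
  intro F ι hι hF hz
  haveI := hι
  obtain ⟨P, P', hP, hP', -, hα, hz', hI, -⟩ := exists_compare f k hf hX hY hL U hU hE ι hF hz
  have hpos := alpha_pos k (isAmple_pullback_of_isAffineHom f hL) hI hP' (h _ (image.ι _) inferInstance hI hz')
  rw [hα] at hpos
  rcases (dim_subset_le hX (CohB1.support F)).lt_or_eq with h2 | h2
  · rw [alpha_eq_zero_of_dim_lt k hL.1 hF hP h2] at hpos
    exact absurd hpos (lt_irrefl _)
  · exact h2

theorem polyLT_of_le_of_lt {P Q S : ℚ[X]} (h : PolyLE P Q) (h' : PolyLT Q S) : PolyLT P S := by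
  obtain ⟨N, hN⟩ := h
  obtain ⟨N', hN'⟩ := h'
  exact ⟨max N N', fun m hm => (hN m (le_of_max_le_left hm)).trans_lt (hN' m (le_of_max_le_right hm))⟩

include hf hX hY hL hU in
theorem isSemistable_iff (hE : Coh.IsCoh E) :
    ShStab.IsSemistable k Y ((Scheme.Modules.pullback f).obj L) E 1 ↔
      ShStab.IsSemistable k X L ((Coh.push f).obj E) 1 := by
  haveI := isNoetherian_of_proper (X := X) k
  have hLY := isAmple_pullback_of_isAffineHom f hL
  have hpE : Coh.IsCoh ((Coh.push f).obj E) := isCoh_push_finite f hE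
  constructor
  · rintro ⟨-, hnz, hp, hss⟩
    refine ⟨hpE, fun h => hnz (isZero_of_isZero_push f hE.1 h), isPure_push f k hf hX hY hL U hU hE hp,
      fun F ι hι hF hz hni pF pE hpF hpE' => ?_⟩
    haveI := hι
    obtain ⟨P, P', hP, hP', hle, hα, hz', hI, -⟩ := exists_compare f k hf hX hY hL U hU hE ι hF hz
    have hEY := (isHilbPoly_push_iff f k hf hL.1 hE.1 pE).1 hpE'
    obtain rfl := isHilbPoly_unique k hpF hP
    have hpos : 0 < alpha 1 pE := alpha_pos k hLY hE hEY (hp E (𝟙 E) inferInstance hE hnz)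
    have hred : RedLE 1 P' pE := by
      by_cases hiso : IsIso (image.ι (adjunct f ι))
      · rw [isHilbPoly_unique k hP' (isHilbPoly_iso k (asIso (image.ι (adjunct f ι))).symm hEY)]
        exact redLE_refl _
      · exact hss _ _ inferInstance hI hz' hiso _ _ hP' hEY
    show PolyLE (alpha 1 pE • pF) (alpha 1 pF • pE)
    rw [← hα]
    exact polyLE_trans ((polyLE_smul hpos).2 hle) hred
  · rintro ⟨-, hnz, hp, hss⟩
    refine ⟨hE, fun h => hnz (isZero_push f h), isPure_of_push f k hf hY hL hp,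
      fun F ι hι hF hz hni pF pE hpF hpE' => ?_⟩
    haveI := hι
    haveI := preservesMono_push f ι
    have hFX := (isHilbPoly_push_iff f k hf hL.1 hF.1 pF).2 hpF
    have hEX := (isHilbPoly_push_iff f k hf hL.1 hE.1 pE).2 hpE'
    refine hss _ ((Coh.push f).map ι) inferInstance (isCoh_push_finite f hF)
      (fun h => hz (isZero_of_isZero_push f hF.1 h)) (fun h => hni ?_) _ _ hFX hEX
    obtain ⟨R, hR, hsum⟩ := hilb_mono k hLY ι hF hE hpF hpE'
    have e : pE = pF := isHilbPoly_unique k hEX (isHilbPoly_iso k (asIso ((Coh.push f).map ι)) hFX)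
    have h0 : IsZero (cokernel ι) := (hilb_eq_zero_iff k hLY (isCoh_cokernel ι hF.1 hE) hR).1 (by
      rw [e] at hsum; exact (add_eq_left.1 hsum.symm))
    haveI : Epi ι := Preadditive.epi_of_isZero_cokernel _ h0
    exact isIso_of_mono_of_epi ι

include hf hX hY hL hU in
theorem isStable_iff (hE : Coh.IsCoh E) :
    ShStab.IsStable k Y ((Scheme.Modules.pullback f).obj L) E 1 ↔
      ShStab.IsStable k X L ((Coh.push f).obj E) 1 := by
  haveI := isNoetherian_of_proper (X := X) k
  have hLY := isAmple_pullback_of_isAffineHom f hL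
  have hpE : Coh.IsCoh ((Coh.push f).obj E) := isCoh_push_finite f hE
  constructor
  · rintro ⟨-, hnz, hp, hss⟩
    refine ⟨hpE, fun h => hnz (isZero_of_isZero_push f hE.1 h), isPure_push f k hf hX hY hL U hU hE hp,
      fun F ι hι hF hz hni pF pE hpF hpE' => ?_⟩
    haveI := hι
    obtain ⟨P, P', hP, hP', hle, hα, hz', hI, hstrict⟩ := exists_compare f k hf hX hY hL U hU hE ι hF hz
    have hEY := (isHilbPoly_push_iff f k hf hL.1 hE.1 pE).1 hpE'
    obtain rfl := isHilbPoly_unique k hpF hP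
    have hpos : 0 < alpha 1 pE := alpha_pos k hLY hE hEY (hp E (𝟙 E) inferInstance hE hnz)
    show PolyLT (alpha 1 pE • pF) (alpha 1 pF • pE)
    rw [← hα]
    by_cases hiso : IsIso (image.ι (adjunct f ι))
    · rw [← isHilbPoly_unique k hP' (isHilbPoly_iso k (asIso (image.ι (adjunct f ι))).symm hEY)]
      rw [← isHilbPoly_unique k hP' (isHilbPoly_iso k (asIso (image.ι (adjunct f ι))).symm hEY)] at hpos
      exact (polyLT_smul hpos).2 (hstrict hni hiso)
    · exact polyLT_of_le_of_lt ((polyLE_smul hpos).2 hle) (hss _ _ inferInstance hI hz' hiso _ _ hP' hEY)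
  · rintro ⟨-, hnz, hp, hss⟩
    refine ⟨hE, fun h => hnz (isZero_push f h), isPure_of_push f k hf hY hL hp,
      fun F ι hι hF hz hni pF pE hpF hpE' => ?_⟩
    haveI := hι
    haveI := preservesMono_push f ι
    have hFX := (isHilbPoly_push_iff f k hf hL.1 hF.1 pF).2 hpF
    have hEX := (isHilbPoly_push_iff f k hf hL.1 hE.1 pE).2 hpE'
    refine hss _ ((Coh.push f).map ι) inferInstance (isCoh_push_finite f hF)
      (fun h => hz (isZero_of_isZero_push f hF.1 h)) (fun h => hni ?_) _ _ hFX hEX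
    obtain ⟨R, hR, hsum⟩ := hilb_mono k hLY ι hF hE hpF hpE'
    have e : pE = pF := isHilbPoly_unique k hEX (isHilbPoly_iso k (asIso ((Coh.push f).map ι)) hFX)
    have h0 : IsZero (cokernel ι) := (hilb_eq_zero_iff k hLY (isCoh_cokernel ι hF.1 hE) hR).1 (by
      rw [e] at hsum; exact (add_eq_left.1 hsum.symm))
    haveI : Epi ι := Preadditive.epi_of_isZero_cokernel _ h0
    exact isIso_of_mono_of_epi ι


end Groth.Agent.TFPush7
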