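import Groth.Agent.CycLib28.StalkLocal
import Groth.Agent.AlgSpLib.OnePointFlat
import Groth.Agent.MeroLib.Extend
import Groth.Agent.SplitP1.Split
import Groth.Agent.EulerLib.Twist
import Groth.Agent.AmpleLib.FTIdeal
import Groth.Prelude.Def_RefHull
import Groth.Agent.CurveRR24.Sky

/-!
# Stalk facts for torsion-free modules of rank one
-/

set_option autoImplicit false
set_option linter.style.haveILetI false
set_option backward.isDefEq.respectTransparency false
set_option backward.isDefEq.respectTransparency.types false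
set_option maxHeartbeats 1000000

universe u

open CategoryTheory AlgebraicGeometry IsLocalRing Opposite TopologicalSpace

namespace Groth.Agent.TFPush7

variable {X : Scheme.{u}}

/-- A module free near a point has a stalk with a basis. -/
theorem basis_of_restrict_iso {M : X.Modules} [Coh.IsQCoh M] {n : ℕ} {W₀ : X.Opens} {x : X} (hxW₀ : x ∈ W₀)
    (e : M.restrict W₀.ι ≅ FlatMod.freeMod (↑W₀) n) :
    Nonempty (Module.Basis (Fin n) (X.presheaf.stalk x) (M.presheaf.stalk x)) := by
  obtain ⟨W, hW, hxW, hWU⟩ := Opens.isBasis_iff_nbhd.mp X.isBasis_affineOpens hxW₀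
  obtain ⟨c⟩ := Props12.exists_basis_sections e hWU
  let _ := (X.presheaf.germ W x hxW).hom.toAlgebra
  let _ := Module.compHom (M.presheaf.stalk x) (X.presheaf.germ W x hxW).hom
  have : IsScalarTower Γ(X, W) (X.presheaf.stalk x) (M.presheaf.stalk x) :=
    IsScalarTower.of_algebraMap_smul fun _ _ => rfl
  let φ : Γ(M, W) →ₗ[Γ(X, W)] M.presheaf.stalk x :=
    { toFun := M.presheaf.germ W x hxW
      map_add' := map_add _
      map_smul' := QCohLoc.germ_smul' (M := M) hxW }
  have := EGA43.QcohFP.isLocalizedModule_germ M hW hxW φ fun _ => rfl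
  have := hW.isLocalization_stalk ⟨x, hxW⟩
  exact ⟨c.ofIsLocalizedModule (X.presheaf.stalk x) (hW.primeIdealOf ⟨x, hxW⟩).asIdeal.primeCompl φ⟩

/-- The stalk of a module of rank one at the generic points, in the form used by `exists_embedding`. -/
theorem exists_rankOne_loc [IsReduced X] (L : X.Modules) (hL : Coh.IsQCoh L)
    (hrk : ∀ η : X, closure ({η} : Set X) ∈ irreducibleComponents (X : Type u) →
      Module.finrank (X.presheaf.stalk η) (L.presheaf.stalk η) = 1) (x : X) :
    ∀ P ∈ minimalPrimes (X.presheaf.stalk x), ∃ (K V : Type u) (_ : Field K) (_ : AddCommGroup V) (_ : Module K V)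
      (f : X.presheaf.stalk x →+* K) (ρ : L.presheaf.stalk x →+ V), Module.finrank K V = 1 ∧
        (∀ a v, ρ (a • v) = f a • ρ v) ∧ (∀ a, f a = 0 → a ∈ P) ∧
        (∀ z : K, ∃ (b s : X.presheaf.stalk x), s ∉ P ∧ f s * z = f b) ∧
        (∀ z : V, ∃ (v : L.presheaf.stalk x) (s : X.presheaf.stalk x), s ∉ P ∧ f s • z = ρ v) ∧
        (∀ v, ρ v = 0 → ∃ s, s ∉ P ∧ s • v = 0) := by
  intro P hP
  let P' : PrimeSpectrum (X.presheaf.stalk x) := ⟨P, hP.1.1⟩
  let y := X.fromSpecStalk x P'
  have h : y ⤳ x := CycLim28.fromSpecStalk_specializes x P'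
  have hy : ∀ z, z ⤳ y → z = y := fun z hz => by
    obtain ⟨Q, rfl⟩ : z ∈ Set.range (X.fromSpecStalk x) := by rw [Scheme.range_fromSpecStalk]; exact hz.trans h
    have hQ : Q ⤳ P' := (X.fromSpecStalk x).isEmbedding.isInducing.specializes_iff.1 hz
    have hle : Q.asIdeal ≤ P := (PrimeSpectrum.le_iff_specializes Q P').2 hQ
    exact congrArg _ (PrimeSpectrum.ext (le_antisymm hle (hP.2 ⟨Q.2, bot_le⟩ hle)))
  letI : Field (X.presheaf.stalk y) := (AlgSpLib.isField_stalk_of_maximal y hy).toField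
  let f := (X.presheaf.stalkSpecializes h).hom
  haveI : P'.asIdeal.IsPrime := P'.2
  letI := f.toAlgebra
  obtain ⟨ρ, -, hloc⟩ := CycLib28.isLocalizedModule_stalkSpecializes hL x P'
  have hr := hrk y (MeroLib.closure_mem_irreducibleComponents hy)
  haveI : Nontrivial (L.presheaf.stalk y) :=
    Module.nontrivial_of_finrank_pos (R := X.presheaf.stalk y) (by rw [hr]; exact one_pos)
  letI := Module.compHom (L.presheaf.stalk y) f
  haveI := hloc
  have hker : ∀ a, f a = 0 → a ∈ P := fun a ha => by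
    by_contra haP
    obtain ⟨v, hv⟩ := exists_ne (0 : L.presheaf.stalk y)
    have hu := (Module.End.isUnit_iff _).1 (IsLocalizedModule.map_units ρ (⟨a, haP⟩ : P'.asIdeal.primeCompl))
    refine hv (hu.1 ?_)
    show f a • v = f a • (0 : L.presheaf.stalk y)
    rw [ha, zero_smul, zero_smul]
  have hker' : ∀ a ∈ P, f a = 0 := fun a ha => by
    have hle : RingHom.ker f ≤ P := fun b hb => hker b hb
    exact (hP.2 ⟨RingHom.ker_isPrime f, bot_le⟩ hle) ha
  refine ⟨X.presheaf.stalk y, L.presheaf.stalk y, inferInstance, inferInstance, inferInstance, f,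
    ρ.toAddMonoidHom, hr, fun a v => ρ.map_smul a v, hker, fun z => ?_, fun z => ?_, fun v hv => ?_⟩
  · haveI := Misc15.isLocalization_stalkSpecializes h
    obtain ⟨⟨b, s⟩, hbs⟩ :=
      IsLocalization.surj ((IsUnit.submonoid (X.presheaf.stalk y)).comap f) z
    exact ⟨b, s.1, fun hs => not_isUnit_zero (M₀ := X.presheaf.stalk y) (by
      have hu : IsUnit (f s.1) := s.2
      rwa [hker' _ hs] at hu), (mul_comm _ _).trans hbs⟩
  · obtain ⟨⟨v, s⟩, hvs⟩ := IsLocalizedModule.surj P'.asIdeal.primeCompl ρ z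
    exact ⟨v, s.1, s.2, hvs⟩
  · obtain ⟨c, hc⟩ := IsLocalizedModule.exists_of_eq (S := P'.asIdeal.primeCompl) (f := ρ) (x₁ := v) (x₂ := 0)
      (hv.trans ρ.map_zero.symm)
    exact ⟨c.1, c.2, hc.trans (smul_zero _)⟩

section Twist

open Coherent PicLib AmpleLib

variable (I : X.IdealSheafData) (G : X.Modules)

theorem stalk_twistMul_germ (W : X.Opens) {y : X} (hy : y ∈ W) (k : Γ(ClSub.idealMod I, W)) (l : Γ(G, W)) :
    RefHull.stalkMapₗ (twistMul I G) y ((CohB1.tensorMod (ClSub.idealMod I) G).presheaf.germ W y hy (tmul k l)) =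
      X.presheaf.germ W y hy (show Γ(X, W) from (ClSub.idealModι I).app W k) • G.presheaf.germ W y hy l := by
  refine (TopCat.Presheaf.stalkFunctor_map_germ_apply W y hy (twistMul I G).mapPresheaf _).trans ?_
  refine (congrArg (G.presheaf.germ W y hy) (twistMul_tmul I W k l)).trans ?_
  exact QCohLoc.germ_smul' (M := G) hy _ _

/-- On the support, the image of `I ⊗ G → G` lies in `m_y G_y`. -/
theorem range_twistMul_le (hG : PicF.IsInvertible G) {y : X} (hy : y ∈ I.support) :
    LinearMap.range (RefHull.stalkMapₗ (twistMul I G) y) ≤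
      maximalIdeal (X.presheaf.stalk y) • (⊤ : Submodule (X.presheaf.stalk y) (G.presheaf.stalk y)) := by
  rintro _ ⟨v, rfl⟩
  obtain ⟨W, hyW, g, hg⟩ := exists_isGen hG y
  obtain ⟨u, rfl⟩ := EulerLib.twistStalk_surjective hyW hg (ClSub.idealMod I) v
  obtain ⟨V, hV, k, rfl⟩ := (ClSub.idealMod I).presheaf.exists_germ_eq u
  rw [EulerLib.twistStalk_germ, stalk_twistMul_germ]
  refine Submodule.smul_mem_smul ?_ Submodule.mem_top
  rw [mem_maximalIdeal, mem_nonunits_iff]
  intro hu
  exact basicOpen_idealModι_le I (V ⊓ W) _ ((X.mem_basicOpen _ y (show y ∈ V ⊓ W from ⟨hV, hyW⟩)).2 hu) hy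

/-- Off the support, `I ⊗ G → G` is surjective on stalks. -/
theorem range_twistMul_eq_top {y : X} (hy : y ∉ I.support) :
    LinearMap.range (RefHull.stalkMapₗ (twistMul I G) y) = ⊤ := by
  refine eq_top_iff.2 fun v _ => ?_
  obtain ⟨V, hV, l, rfl⟩ := G.presheaf.exists_germ_eq v
  obtain ⟨k, hk⟩ := exists_idealModι_eq_one I
  let O : X.Opens := ⟨(I.support : Set X)ᶜ, I.support.2.isOpen_compl⟩
  have hy' : y ∈ V ⊓ O := ⟨hV, hy⟩
  refine ⟨(CohB1.tensorMod (ClSub.idealMod I) G).presheaf.germ (V ⊓ O) y hy'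
    (tmul (resM _ inf_le_right k) (resM G inf_le_left l)), ?_⟩
  rw [stalk_twistMul_germ, show (show Γ(X, V ⊓ O) from (ClSub.idealModι I).app (V ⊓ O) (resM _ inf_le_right k)) = 1 from
    (app_resM _ _ _).trans ((congrArg _ hk).trans (map_one (X.presheaf.map (homOfLE (inf_le_right : V ⊓ O ≤ O)).op).hom))]
  rw [map_one, one_smul]
  exact TopCat.Presheaf.germ_res_apply G.presheaf (homOfLE inf_le_left) y hy' l

/-- At an isolated point of the support of a reduced ideal, the image of `I ⊗ G → G` is all of `m_y G_y`. -/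
theorem le_range_twistMul {Z : Closeds X} {y : X} {N : X.Opens} (hyN : y ∈ N)
    (hN : ∀ z ∈ N, z ∈ Z → z = y) :
    maximalIdeal (X.presheaf.stalk y) • (⊤ : Submodule (X.presheaf.stalk y) (G.presheaf.stalk y)) ≤
      LinearMap.range (RefHull.stalkMapₗ (twistMul (Scheme.IdealSheafData.vanishingIdeal Z) G) y) := by
  let I := Scheme.IdealSheafData.vanishingIdeal Z
  obtain ⟨V, hV, hyV, hVN⟩ := Opens.isBasis_iff_nbhd.mp X.isBasis_affineOpens hyN
  letI := (X.presheaf.germ V y hyV).hom.toAlgebra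
  haveI := hV.isLocalization_stalk ⟨y, hyV⟩
  refine Submodule.smul_le.2 fun c hc v _ => ?_
  obtain ⟨⟨a, s⟩, has⟩ := IsLocalization.surj (hV.primeIdealOf ⟨y, hyV⟩).asIdeal.primeCompl c
  have hs : IsUnit (X.presheaf.germ V y hyV s.1) := IsLocalization.map_units (X.presheaf.stalk y) s
  have ha : a ∈ (hV.primeIdealOf ⟨y, hyV⟩).asIdeal := by
    by_contra h
    have h1 : IsUnit (algebraMap Γ(X, V) (X.presheaf.stalk y) a) :=
      IsLocalization.map_units (X.presheaf.stalk y) (⟨a, h⟩ : (hV.primeIdealOf ⟨y, hyV⟩).asIdeal.primeCompl)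
    rw [← has] at h1
    exact (mem_maximalIdeal c).1 hc (isUnit_of_mul_isUnit_left h1)
  have haI : a ∈ I.ideal ⟨V, hV⟩ := by
    rw [Scheme.IdealSheafData.vanishingIdeal_ideal, PrimeSpectrum.mem_vanishingIdeal]
    intro q hq
    have hqy : hV.fromSpec q = y := hN _ (hVN (hV.range_fromSpec.subset ⟨q, rfl⟩)) hq
    rwa [hV.fromSpec.isOpenEmbedding.injective (hqy.trans (hV.fromSpec_primeIdealOf ⟨y, hyV⟩).symm)]
  obtain ⟨k, hk⟩ := (mem_range_idealModι I V a).2 (RingHom.mem_ker.1 ((I.ker_subschemeι_app ⟨V, hV⟩).symm ▸ haI))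
  obtain ⟨O, hyO, l, rfl⟩ := G.presheaf.exists_germ_eq v
  have hy' : y ∈ V ⊓ O := ⟨hyV, hyO⟩
  have hmem : X.presheaf.germ V y hyV a • G.presheaf.germ O y hyO l ∈
      LinearMap.range (RefHull.stalkMapₗ (twistMul I G) y) := by
    refine ⟨(CohB1.tensorMod (ClSub.idealMod I) G).presheaf.germ (V ⊓ O) y hy'
      (tmul (resM _ inf_le_left k) (resM G inf_le_right l)), ?_⟩
    rw [stalk_twistMul_germ, app_resM, hk]
    exact congrArg₂ (· • ·) (TopCat.Presheaf.germ_res_apply X.presheaf (homOfLE inf_le_left) y hy' a)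
      (TopCat.Presheaf.germ_res_apply G.presheaf (homOfLE inf_le_right) y hy' l)
  have hc' : c = hs.unit⁻¹.1 * X.presheaf.germ V y hyV a := by
    rw [show X.presheaf.germ V y hyV a = c * X.presheaf.germ V y hyV s.1 from has.symm, mul_comm c, ← mul_assoc]
    show c = hs.unit⁻¹.1 * hs.unit.1 * c
    rw [Units.inv_mul, one_mul]
  rw [hc', mul_smul]
  exact Submodule.smul_mem _ _ hmem

end Twist

end Groth.Agent.TFPush7
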