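import Groth.Agent.S12640
import Groth.Agent.DualMod3.AdjDeg
import Groth.Agent.DualMod3.Apps
import Groth.Agent.PicPn22.Main
import Groth.Agent.SplitP1.Basic
import Groth.Agent.DCat.PullTensor
import Groth.Agent.CI14.DivSeq
import Groth.Agent.CurveRR24.GG
import Groth.Agent.Clifford24.Lipman.ClosedSub
import Groth.Agent.Desc19b.AmpleFamily
import Groth.Prelude.Def_ClSub2

/-!
# Ribbons on the projective line
-/

set_option autoImplicit false
set_option linter.style.haveILetI false
set_option backward.isDefEq.respectTransparency false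
set_option backward.isDefEq.respectTransparency.types false
set_option maxHeartbeats 1000000

universe u

open CategoryTheory CategoryTheory.Limits AlgebraicGeometry Opposite TopologicalSpace
open Groth.Agent.Coherent Groth.Agent.PicLib Groth.Agent.AmpleLib Groth.Agent.EulerLib Groth.Agent.CurveRR24

namespace Groth.Agent.TFPush7.Ribbon

variable (k : Type u) [Field k] {C : Scheme.{u}} [C.Over (Spec (CommRingCat.of k))]
  [IsProper (C ↘ Spec (CommRingCat.of k))]
  (I : C.IdealSheafData) (e : I.subscheme ≅ CohB1.ProjSpace 1 k)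
  (he : e.hom ≫ CohB1.ProjSpace.toSpec 1 k = I.subschemeι ≫ (C ↘ Spec (CommRingCat.of k)))

theorem euler_P1 (a : ℤ) :
    Curv2.euler k (CohB1.ProjSpace 1 k) (Twist.twistProjSpace 1 k a) = a + 1 := by
  rw [S12640.euler_twist k 1 a (fun h => absurd h one_ne_zero), Ring.choose_one_right, Nat.cast_one]

include he in
/-- Cohomology of a module pushed forward from the reduced line. -/
theorem finrank_push {M : C.Modules} {N : I.subscheme.Modules} {a : ℤ}
    (eM : M ≅ (Coh.push I.subschemeι).obj N)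
    (eN : N ≅ (Scheme.Modules.pullback e.hom).obj (Twist.twistProjSpace 1 k a)) (q : ℕ) :
    Module.finrank k (Coh.HH C M q) =
      Module.finrank k (Coh.HH (CohB1.ProjSpace 1 k) (Twist.twistProjSpace 1 k a) q) := by
  haveI : C.IsSeparated := EulerLib.isSeparated_of_proper (X := C) k
  letI : I.subscheme.Over (Spec (CommRingCat.of k)) := ⟨I.subschemeι ≫ (C ↘ Spec (CommRingCat.of k))⟩
  have hT := SplitP1.inv_twist k a
  haveI := isQCoh_of_isInvertible hT
  have hTi := PicLoc.isInvertible_pullback e.hom hT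
  haveI := isQCoh_of_isInvertible hTi
  haveI : Coh.IsQCoh N := isQCoh_of_iso eN.symm
  rw [finrank_HH_congr k eM q, ← (SerreDual.hpush I.subschemeι k rfl N q).finrank_eq,
    finrank_HH_congr k eN q, (SerreDual.hpush e.hom k he _ q).finrank_eq]
  haveI := CI14.isIso_clUnit_of_isIso e.hom (Twist.twistProjSpace 1 k a)
  exact (finrank_HH_congr k (asIso (clUnit e.hom (Twist.twistProjSpace 1 k a))) q).symm

include he in
theorem euler_push_eq {M : C.Modules} {N : I.subscheme.Modules} {a : ℤ}
    (eM : M ≅ (Coh.push I.subschemeι).obj N)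
    (eN : N ≅ (Scheme.Modules.pullback e.hom).obj (Twist.twistProjSpace 1 k a)) :
    Curv2.euler k C M = a + 1 := by
  rw [← euler_P1 k a]
  exact finsum_congr fun q => by rw [finrank_push k I e he eM eN q]

theorem gg_P1 (a : ℤ) (ha : 0 ≤ a) : Curv2.IsGloballyGenerated (Twist.twistProjSpace 1 k a) := by
  have hd := DimLib.PN.topologicalKrullDim_projSpace 1 k
  obtain ⟨z⟩ := SplitP1.nonempty_twist_zero k
  have hO := euler_congr k (CohB1.ProjSpace 1 k) z
  rw [euler_P1] at hO
  have h0 : Module.finrank k (Coh.HH (CohB1.ProjSpace 1 k) (Coh.structureModule (CohB1.ProjSpace 1 k)) 0) = 1 := by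
    rw [← finrank_HH_congr k z 0, SplitP1.h0_twist]; rfl
  have hg0 := euler_eq_h0_sub_h1 k (X := CohB1.ProjSpace 1 k) hd.le _ (isCoh_structureModule _).1
  refine globallyGenerated_of_deg k hd h0 (SplitP1.inv_twist k a) ?_
  rw [Curv2.deg, euler_P1, ← hO, Curv2.genus]
  rw [h0, ← hO] at hg0
  push_cast at hg0 ⊢
  omega

variable (hI : I ^ 2 = ⊥)

include hI in
theorem surjective_ι : Function.Surjective I.subschemeι := fun x => by
  have hsupp : (I.support : Set C) = Set.univ := by
    rw [← Scheme.IdealSheafData.support_pow I 2 two_ne_zero, hI, Scheme.IdealSheafData.support_bot]; rfl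
  have : x ∈ Set.range I.subschemeι := by rw [I.range_subschemeι, hsupp]; trivial
  exact this

include e hI in
theorem one_le_h0 : 1 ≤ Module.finrank k (Coh.HH C (Coh.structureModule C) 0) := by
  haveI := isLocallyNoetherian_of_proper k (X := C)
  haveI := finite_HH_of_isCoh k (isCoh_structureModule C) 0
  haveI : Nonempty (CohB1.ProjSpace 1 k) := ⟨genericPoint (CohB1.ProjSpace 1 k)⟩
  haveI : Nonempty (⊤ : C.Opens) := ⟨⟨I.subschemeι (e.inv (Classical.arbitrary _)), trivial⟩⟩
  haveI : Nontrivial (GA (baseHom k C) (Coh.structureModule C)) := inferInstanceAs (Nontrivial Γ(C, ⊤))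
  haveI : Nontrivial (Coh.HH C (Coh.structureModule C) 0) :=
    (hhZero k (Coh.structureModule C)).toEquiv.nontrivial
  exact Module.finrank_pos


include hI in
theorem killed_idealMod : ClSub.KilledByIdeal I.subschemeι.ker (ClSub.idealMod I) := by
  rw [Scheme.IdealSheafData.ker_subschemeι]
  intro U a ha m
  haveI : Mono (ClSub.idealModι I) := inferInstanceAs (Mono (kernel.ι (ClSub.toSubscheme I)))
  refine app_injective_of_mono (ClSub.idealModι I) U.1 ?_
  have hr : (ClSub.idealModι I).app U.1 m ∈ I.ideal U :=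
    (DualMod3.toSub_affine_eq_zero_iff I U _).1 (kernel_ι_app_zero (ClSub.toSubscheme I) U.1 m)
  refine (Scheme.Modules.Hom.app_smul (ClSub.idealModι I) a m).trans (Eq.trans ?_ (map_zero _).symm)
  have h0 : (I ^ 2).ideal U = ⊥ := by rw [hI]; rfl
  rw [Scheme.IdealSheafData.ideal_pow] at h0
  let r : Γ(C, U.1) := (ClSub.idealModι I).app U.1 m
  have : a * r ∈ (I.ideal U) ^ 2 := by
    rw [pow_two]; exact Ideal.mul_mem_mul ha hr
  rw [Pi.pow_apply] at h0
  rw [h0] at this
  exact this

variable {g : ℕ} (hc : Nonempty ((Scheme.Modules.pullback I.subschemeι).obj (ClSub.idealMod I) ≅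
      (Scheme.Modules.pullback e.hom).obj (Twist.twistProjSpace 1 k (-((g : ℤ) + 1)))))

/-- The sequence `0 → I ⊗ W → W → O_D ⊗ W → 0`. -/
noncomputable def seq (W : C.Modules) : ShortComplex C.Modules :=
  twistSeq (ShortComplex.mk (ClSub.idealModι I) (ClSub.toSubscheme I) (kernel.condition _)) W

theorem shortExact_seq {W : C.Modules} (hW : PicF.IsInvertible W) : (seq I W).ShortExact :=
  twistSeq_shortExact hW (shortExact_ideal I)

theorem nonempty_X₃_iso {W : C.Modules} (hW : PicF.IsInvertible W) :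
    Nonempty ((seq I W).X₃ ≅ (Coh.push I.subschemeι).obj ((Scheme.Modules.pullback I.subschemeι).obj W)) := by
  have hF : FlatMod.IsFinLocFree W := fun x => let ⟨U, hx, e⟩ := isFinLocFreeOfRank_one hW x; ⟨U, 1, hx, e⟩
  exact ⟨(tensorComm _ _ ≪≫ ((projIso (f := I.subschemeι) hF).app (Coh.structureModule I.subscheme))) ≪≫
    (Scheme.Modules.pushforward I.subschemeι).mapIso (tensorComm _ _ ≪≫ unitTensorIso _)⟩

include hI hc in
theorem nonempty_X₁_iso {W : C.Modules} (hW : PicF.IsInvertible W) {a : ℤ}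
    (hWD : Nonempty ((Scheme.Modules.pullback I.subschemeι).obj W ≅
      (Scheme.Modules.pullback e.hom).obj (Twist.twistProjSpace 1 k a))) :
    ∃ N : I.subscheme.Modules, Nonempty ((seq I W).X₁ ≅ (Coh.push I.subschemeι).obj N) ∧
      Nonempty (N ≅ (Scheme.Modules.pullback e.hom).obj (Twist.twistProjSpace 1 k (a - g - 1))) := by
  obtain ⟨eI⟩ := hc
  obtain ⟨eW⟩ := hWD
  obtain ⟨eT⟩ := SplitP1.nonempty_twist_add k (show -((g : ℤ) + 1) + a = a - g - 1 by ring)
  have hF : FlatMod.IsFinLocFree W := fun x => let ⟨U, hx, e⟩ := isFinLocFreeOfRank_one hW x; ⟨U, 1, hx, e⟩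
  refine ⟨CohB1.tensorMod ((Scheme.Modules.pullback I.subschemeι).obj W)
    ((Scheme.Modules.pullback I.subschemeι).obj (ClSub.idealMod I)), ⟨?_⟩, ⟨?_⟩⟩
  · exact AmpleLib.tensorIso (clIso I.subschemeι (killed_idealMod I hI)) (Iso.refl W) ≪≫ tensorComm _ _ ≪≫
      (projIso (f := I.subschemeι) hF).app _
  · exact tensorComm _ _ ≪≫ AmpleLib.tensorIso eI eW ≪≫ (DCat.PullTensor.pullTensorIso e.hom _ _).symm ≪≫
      (Scheme.Modules.pullback e.hom).mapIso eT

include e in
theorem exists_twist {W : C.Modules} (hW : PicF.IsInvertible W) :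
    ∃ a : ℤ, Nonempty ((Scheme.Modules.pullback I.subschemeι).obj W ≅
      (Scheme.Modules.pullback e.hom).obj (Twist.twistProjSpace 1 k a)) := by
  obtain ⟨a, ⟨ea⟩⟩ := PicPn22.exists_iso_twist (n := 1) (R := k) _
    (PicLoc.isInvertible_pullback e.inv (PicLoc.isInvertible_pullback I.subschemeι hW))
  refine ⟨a, ⟨?_⟩⟩
  exact (Scheme.Modules.pullbackId _).symm.app _ ≪≫
    (Scheme.Modules.pullbackCongr e.hom_inv_id).symm.app _ ≪≫
    ((Scheme.Modules.pullbackComp e.hom e.inv).symm.app _) ≪≫ (Scheme.Modules.pullback e.hom).mapIso ea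

variable [IsLocallyNoetherian C]

include he hI hc in
/-- The Euler characteristic of an invertible module on a ribbon. -/
theorem euler_eq {W : C.Modules} (hW : PicF.IsInvertible W) {a : ℤ}
    (hWD : Nonempty ((Scheme.Modules.pullback I.subschemeι).obj W ≅
      (Scheme.Modules.pullback e.hom).obj (Twist.twistProjSpace 1 k a))) :
    Curv2.euler k C W = 2 * a + 1 - g := by
  obtain ⟨N, ⟨e1⟩, ⟨e1'⟩⟩ := nonempty_X₁_iso k I e hI hc hW hWD
  obtain ⟨e3⟩ := nonempty_X₃_iso I hW
  obtain ⟨eW⟩ := hWD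
  have cW := CurveRR24.isCoh_of_isInvertible k hW
  have h := euler_additive k C _ (shortExact_seq I hW) (isCoh_twist hW (isCoh_idealMod' I))
    (isCoh_twist hW (isCoh_structureModule C)) (isCoh_twist hW (isCoh_quotMod I))
  rw [euler_push_eq k I e he e1 e1', euler_push_eq k I e he e3 eW] at h
  rw [← euler_congr k C (unitTensorIso W)]
  exact h.trans (by ring)

include he hI hc in
theorem euler_structure : Curv2.euler k C (Coh.structureModule C) = 1 - g := by
  obtain ⟨p⟩ := exists_pullStructureIso (X := C) I.subschemeι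
  obtain ⟨q⟩ := exists_pullStructureIso (X := CohB1.ProjSpace 1 k) e.hom
  obtain ⟨z⟩ := SplitP1.nonempty_twist_zero k
  have h := euler_eq k I e he hI hc (W := Coh.structureModule C) isInvertible_structureModule (a := 0)
    ⟨p ≪≫ q.symm ≪≫ (Scheme.Modules.pullback e.hom).mapIso z.symm⟩
  rw [h]; ring

include e hI in
theorem dim_le_one : topologicalKrullDim C = 1 := by
  have hs := surjective_ι I hI
  have h1 := (I.subschemeι.isClosedEmbedding.isEmbedding.toHomeomorphOfSurjective hs).isHomeomorph.topologicalKrullDim_eq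
  rw [← h1, (Scheme.homeoOfIso e).isHomeomorph.topologicalKrullDim_eq]
  exact DimLib.PN.topologicalKrullDim_projSpace 1 k

variable [DCoh.HasRpush (C ↘ Spec (CommRingCat.of k))]
  (h : DCoh.RpushPreservesQCoh (C ↘ Spec (CommRingCat.of k))) [DCoh.HasShriek (C ↘ Spec (CommRingCat.of k)) h]
  (OY : DCoh.DQCoh (Spec (CommRingCat.of k)))
  (hOY : Nonempty (OY.obj ≅ DCoh.inD (Spec (CommRingCat.of k)) (Coh.structureModule (Spec (CommRingCat.of k)))))

local notation "ω" => DCoh.dualizingMod (C ↘ Spec (CommRingCat.of k)) h OY 1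

include hOY e hI in
/-- Duality in degree zero and one for an invertible dualizing module. -/
theorem duality (hω : PicF.IsInvertible ω) :
    Module.finrank k (Coh.HH C ω 0) = Module.finrank k (Coh.HH C (Coh.structureModule C) 1) ∧
      Curv2.euler k C ω = - Curv2.euler k C (Coh.structureModule C) := by
  have hd := dim_le_one k I e hI
  obtain ⟨t, hrep⟩ := DualMod3.exists_rep k C h OY hOY (d := 1) hd.le
  obtain ⟨hf0, h0⟩ := SerreDual.h0_omega_eq hrep
  obtain ⟨hf1, h1⟩ := SerreDual.finrank_hom_eq_h1 hrep (CurveRR24.isCoh_of_isInvertible k hω)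
  obtain ⟨N, ⟨eN'⟩⟩ := VarietyLib.exists_isInverseOf hω
  let eN : CohB1.tensorMod ω N ≅ Coh.structureModule C := eN'
  have hN : PicF.IsInvertible N := MorProj.isInvertible_of_tensor_iso (tensorComm N _ ≪≫ eN)
  haveI := hf1
  obtain ⟨-, h2⟩ := SerreDual.finrank_hom_eq k ω hω hN eN
  rw [finrank_HH_congr k eN 0, h1] at h2
  refine ⟨h0, ?_⟩
  rw [euler_eq_h0_sub_h1 k hd.le _ (isQCoh_of_isInvertible hω), euler_eq_h0_sub_h1 k hd.le _ (isCoh_structureModule C).1, h0, ← h2]
  ring

include he hI hc hOY in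
theorem twist_omega (hω : PicF.IsInvertible ω) :
    Nonempty ((Scheme.Modules.pullback I.subschemeι).obj ω ≅
      (Scheme.Modules.pullback e.hom).obj (Twist.twistProjSpace 1 k ((g : ℤ) - 1))) := by
  obtain ⟨a, ha⟩ := exists_twist k I e hω
  obtain ⟨-, hx⟩ := duality k I e hI h OY hOY hω
  rw [euler_eq k I e he hI hc hω ha, euler_structure k I e he hI hc] at hx
  rwa [show (g : ℤ) - 1 = a by omega]

include he hI hc hOY in
theorem globallyGenerated_omega (hg : 1 ≤ g) (hω : PicF.IsInvertible ω) : Curv2.IsGloballyGenerated ω := by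
  haveI : C.IsSeparated := EulerLib.isSeparated_of_proper (X := C) k
  have hd := dim_le_one k I e hI
  have hωD := twist_omega k I e he hI hc h OY hOY hω
  obtain ⟨N, ⟨e1⟩, ⟨e1'⟩⟩ := nonempty_X₁_iso k I e hI hc hω hωD
  obtain ⟨eW⟩ := hωD
  obtain ⟨e3⟩ := nonempty_X₃_iso I hω
  obtain ⟨h0, -⟩ := duality k I e hI h OY hOY hω
  have hO := euler_structure k I e he hI hc
  rw [euler_eq_h0_sub_h1 k hd.le _ (isCoh_structureModule C).1, ← h0] at hO
  let B := (Coh.push I.subschemeι).obj ((Scheme.Modules.pullback I.subschemeι).obj ω)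
  have hA : Module.finrank k (Coh.HH C (seq I ω).X₁ 0) = 0 := by
    rw [finrank_push k I e he e1 e1', SplitP1.h0_twist]; omega
  have hB : Module.finrank k (Coh.HH C B 0) = g := by
    rw [finrank_push k I e he (Iso.refl B) eW, SplitP1.h0_twist]; omega
  -- restriction to the line is injective on global sections
  let φ : (Coh.structureModule C ⟶ ω) →ₗ[k] (Coh.structureModule C ⟶ B) :=
    Linear.rightComp k _ (clUnit I.subschemeι ω)
  have hφ : Function.Injective φ := by
    refine (injective_iff_map_eq_zero φ).2 fun v hv => ?_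
    have hS := shortExact_seq I hω
    let q : ω ⟶ B := (unitTensorIso ω).inv ≫ (seq I ω).g ≫ e3.hom
    have hq : q = clUnit I.subschemeι ω ≫ (Coh.push I.subschemeι).map
        (((Scheme.Modules.pullbackPushforwardAdjunction I.subschemeι).homEquiv ω _).symm q) :=
      (((Scheme.Modules.pullbackPushforwardAdjunction I.subschemeι).homEquiv ω _).apply_symm_apply q).symm.trans
        (Adjunction.homEquiv_unit _ _ _ _)
    have hv' : v ≫ q = 0 := by
      rw [hq, ← Category.assoc, show v ≫ clUnit I.subschemeι ω = 0 from hv, zero_comp]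
    have hv2 : (v ≫ (unitTensorIso ω).inv) ≫ (seq I ω).g = 0 := by
      rw [← cancel_mono e3.hom, zero_comp, Category.assoc, Category.assoc]; exact hv'
    haveI := hS.mono_f
    let l := hS.fIsKernel.lift (KernelFork.ofι _ hv2)
    have hl : l ≫ (seq I ω).f = v ≫ (unitTensorIso ω).inv := Fork.IsLimit.lift_ι hS.fIsKernel
    haveI : Module.Finite k (Coh.HH C (seq I ω).X₁ 0) :=
      finite_HH_of_isCoh k (isCoh_twist hω (isCoh_idealMod' I) : Coh.IsCoh (seq I ω).X₁) 0
    haveI : Subsingleton (Coh.HH C (seq I ω).X₁ 0) := Module.finrank_zero_iff.1 hA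
    have hl0 : l = 0 := (SerreDual.homUnitHH k (seq I ω).X₁).injective
      (@Subsingleton.elim (Coh.HH C (seq I ω).X₁ 0) _ _ _)
    rw [hl0, zero_comp] at hl
    exact (cancel_mono (unitTensorIso ω).inv).1 (hl.symm.trans zero_comp.symm)
  letI : I.subscheme.Over (Spec (CommRingCat.of k)) := ⟨I.subschemeι ≫ (C ↘ Spec (CommRingCat.of k))⟩
  haveI : IsProper (I.subscheme ↘ Spec (CommRingCat.of k)) :=
    inferInstanceAs (IsProper (I.subschemeι ≫ (C ↘ Spec (CommRingCat.of k))))
  haveI : IsLocallyNoetherian I.subscheme := LocallyOfFiniteType.isLocallyNoetherian I.subschemeι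
  have hfin : Coh.IsCoh B := isCoh_push_finite I.subschemeι
    (CurveRR24.isCoh_of_isInvertible (X := I.subscheme) k (PicLoc.isInvertible_pullback I.subschemeι hω))
  haveI := finite_HH_of_isCoh k hfin 0
  haveI := finite_HH_of_isCoh k (CurveRR24.isCoh_of_isInvertible k hω) 0
  haveI := Module.Finite.equiv (SerreDual.homUnitHH k ω).symm
  haveI := Module.Finite.equiv (SerreDual.homUnitHH k B).symm
  have hsurj : Function.Surjective φ := by
    refine (LinearMap.injective_iff_surjective_of_finrank_eq_finrank ?_).1 hφ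
    rw [(SerreDual.homUnitHH k ω).finrank_eq, (SerreDual.homUnitHH k B).finrank_eq, hB]
    have := LinearMap.finrank_le_finrank_of_injective hφ
    rw [(SerreDual.homUnitHH k ω).finrank_eq, (SerreDual.homUnitHH k B).finrank_eq, hB] at this
    haveI := finite_HH_of_isCoh k (isCoh_structureModule C) 0
    have := one_le_h0 k I e hI
    omega
  have hps : Function.Surjective (pullSec I.subschemeι (L := ω) (U := ⊤)) := fun b => by
    obtain ⟨u, hu⟩ := hsurj (unitDesc B b)
    refine ⟨u.app ⊤ (1 : Γ(C, ⊤)), ?_⟩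
    exact (congrArg (fun z : Coh.structureModule C ⟶ B => z.app ⊤ (1 : Γ(C, ⊤))) hu).trans
      (SerreDual.unitDesc_one_app (M := B) b)
  refine globallyGenerated_of_glocus hω fun x => ?_
  obtain ⟨z, rfl⟩ := surjective_ι I hI x
  refine Lipman24.exists_mem_glocus_of_pullback I.subschemeι hω hps ?_ z
  have hT := SplitP1.inv_twist k ((g : ℤ) - 1)
  have hgg : Curv2.IsGloballyGenerated (Twist.twistProjSpace 1 k ((g : ℤ) - 1)) :=
    gg_P1 k _ (by omega)
  have hG : Lipman24.Gl (Twist.twistProjSpace 1 k ((g : ℤ) - 1)) :=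
    fun y => Desc19b.exists_mem_glocus_of_gg hT hgg y
  exact (hG.pullback e.hom hT).of_iso eW.symm

end Groth.Agent.TFPush7.Ribbon
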