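import Groth.Agent.DualMod3.Apps
import Groth.Agent.DualMod3.AdjDeg
import Groth.Agent.Dual22Lib.AdjGeom
import Groth.Agent.DCat.PullPush
import Groth.Agent.Clifford24.Subcurves.Main
import Groth.Agent.CurveRR24.Degree
import Groth.Agent.AlgSpLib.OnePointFlat
import Groth.Agent.SerreDual.Curve
import Groth.Agent.TFPush7.StalkSub
import Groth.Agent.Coherent.Existence.PullSys
import Groth.Agent.DCat.RelEquivBC
import Groth.Agent.CycLib28.SecOrd

/-!
# Nonvanishing of `H¹` on a reduced curve forces a subcurve of small degree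
-/

set_option autoImplicit false
set_option linter.style.haveILetI false
set_option linter.unusedSectionVars false
set_option backward.isDefEq.respectTransparency false
set_option backward.isDefEq.respectTransparency.types false
set_option maxHeartbeats 1000000

universe u

open CategoryTheory CategoryTheory.Limits AlgebraicGeometry Opposite TopologicalSpace
open Groth.Agent.Coherent Groth.Agent.PicLib Groth.Agent.AmpleLib Groth.Agent.EulerLib Groth.Agent.CurveRR24
  Groth.Agent.Subcurves24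

namespace Groth.Agent.TFPush7.CFHR

attribute [local instance] HasDerivedCategory.standard

/-- A dualizing pair exists on every proper scheme of dimension at most one. -/
theorem exists_pair (k : Type u) [Field k] (X : Scheme.{u}) [X.Over (Spec (CommRingCat.of k))]
    [IsProper (X ↘ Spec (CommRingCat.of k))] (hd : topologicalKrullDim X ≤ 1) :
    ∃ (ω : X.Modules) (t : Coh.HH X ω 1 →ₗ[k] k),
      Coh.IsCoh ω ∧ ∀ F : X.Modules, Coh.IsQCoh F → SerreDual.Rep t F := by
  let f := X ↘ Spec (CommRingCat.of k)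
  haveI : CompactSpace X := QuasiCompact.compactSpace_of_compactSpace f
  haveI : QuasiSeparatedSpace X := quasiSeparatedSpace_of_quasiSeparated f
  haveI : DCoh.HasRpush f := DCat.hasRpush f
  have h : DCoh.RpushPreservesQCoh f := fun K hK => DQCoh.isQCohD_Rpush f K hK
  haveI : DCoh.HasShriek f h := Dual22Lib.AdjGeom.isLeftAdjoint_RpushQ f h
  let O := Coh.structureModule (Spec (CommRingCat.of k))
  have hO : DCoh.IsQCohD (DCoh.inD (Spec (CommRingCat.of k)) O) := DCat.RelEquivBC.isQCohD_inD_structure _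
  obtain ⟨t, ht⟩ := DualMod3.exists_rep k X h ⟨_, hO⟩ ⟨Iso.refl _⟩ (d := 1) hd
  exact ⟨_, t, DualMod3.isCoh k X h ⟨_, hO⟩ ⟨Iso.refl _⟩ 1, ht⟩

variable {X : Scheme.{u}}

/-- `ψ` vanishes on the stalk at `x`. -/
def VanAt {A B : X.Modules} (ψ : A ⟶ B) (x : X) : Prop := ∀ v, RefHull.stalkMapₗ ψ x v = 0

theorem stalkMap_comp {A B C : X.Modules} (φ : A ⟶ B) (ψ : B ⟶ C) (x : X) (v : A.presheaf.stalk x) :
    RefHull.stalkMapₗ (φ ≫ ψ) x v = RefHull.stalkMapₗ ψ x (RefHull.stalkMapₗ φ x v) := by
  obtain ⟨U, hU, s, rfl⟩ := A.presheaf.exists_germ_eq v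
  simp only [RefHull.stalkMapₗ_germ]
  rfl

theorem stalkMap_eq {A B : X.Modules} (φ : A ⟶ B) (x : X) (v : A.presheaf.stalk x) :
    ((DerSch.stalkFunctor X x).map φ).hom v = RefHull.stalkMapₗ φ x v := rfl

theorem stalk_injective_of_mono {A B : X.Modules} (φ : A ⟶ B) [Mono φ] (x : X) :
    Function.Injective (RefHull.stalkMapₗ φ x) :=
  (ModuleCat.mono_iff_injective ((DerSch.stalkFunctor X x).map φ)).1 inferInstance

theorem stalk_surjective_of_epi {A B : X.Modules} (φ : A ⟶ B) [Epi φ] (x : X) :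
    Function.Surjective (RefHull.stalkMapₗ φ x) :=
  (ModuleCat.epi_iff_surjective ((DerSch.stalkFunctor X x).map φ)).1 inferInstance

theorem notMem_support_image {A B : X.Modules} (φ : A ⟶ B) {x : X} (h : VanAt φ x) :
    x ∉ CohB1.support (Abelian.image φ) := fun hz => hz <| subsingleton_of_forall_eq 0 fun a => by
  obtain ⟨w, rfl⟩ := stalk_surjective_of_epi (Abelian.factorThruImage φ) x a
  refine stalk_injective_of_mono (Abelian.image.ι φ) x ?_
  rw [← stalkMap_comp, Abelian.image.fac, map_zero]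
  exact h w

/-- The generic points of the components. -/
def genPts (X : Scheme.{u}) : Set X :=
  {η | ∃ C : Closeds X, (C : Set X) ∈ irreducibleComponents X ∧ IsGenericPoint η (C : Set X)}

theorem finite_genPts [IsNoetherian X] : (genPts X).Finite := by
  classical
  refine Set.Finite.subset ((finite_components (X := X)).toFinset.finite_toSet.biUnion fun C _ =>
    Set.Subsingleton.finite (s := {η : X | IsGenericPoint η (C : Set X)}) fun a ha b hb => ha.eq hb) ?_
  rintro η ⟨C, hC, hη⟩
  exact Set.mem_biUnion ((finite_components (X := X)).mem_toFinset.2 hC) hη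

theorem eq_of_specializes_genPt {η y : X} (hη : η ∈ genPts X) (hy : y ⤳ η) : y = η := by
  obtain ⟨C, hC, hCη⟩ := hη
  obtain ⟨C', hC', hyC'⟩ := exists_component y
  have hsub : (C : Set X) ⊆ C' := hCη.def ▸ closure_minimal
    (Set.singleton_subset_iff.2 (hy.mem_closed C'.isClosed hyC')) C'.isClosed
  have hCC : (C : Set X) = C' := hsub.antisymm (hC.2 hC'.1 hsub)
  exact ((hCη.specializes (hCC ▸ hyC')).antisymm hy).eq.symm

theorem isField_stalk_genPt [IsReduced X] {η : X} (hη : η ∈ genPts X) : IsField (X.presheaf.stalk η) :=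
  AlgSpLib.isField_stalk_of_maximal η fun _ hy => eq_of_specializes_genPt hη hy

/-- Every point specializes from a generic point. -/
theorem exists_genPt_specializes (x : X) : ∃ η ∈ genPts X, η ⤳ x := by
  obtain ⟨C, hC, hxC⟩ := exists_component x
  obtain ⟨η, -, hη⟩ := exists_genericPoint hC
  exact ⟨η, ⟨C, hC, hη⟩, hη.specializes hxC⟩

variable (k : Type u) [Field k] [X.Over (Spec (CommRingCat.of k))] [IsProper (X ↘ Spec (CommRingCat.of k))]
  {ω : X.Modules} {t : Coh.HH X ω 1 →ₗ[k] k} (hrep : ∀ F : X.Modules, Coh.IsQCoh F → SerreDual.Rep t F)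
  (hω : Coh.IsCoh ω)

include hrep hω in
/-- A map into `ω` vanishing at all generic points is zero. -/
theorem eq_zero_of_vanAt (hdim : topologicalKrullDim X ≤ 1) {A : X.Modules} (hA : Coh.IsCoh A) (φ : A ⟶ ω)
    (h : ∀ η ∈ genPts X, VanAt φ η) : φ = 0 := by
  haveI := EulerLib.isNoetherian_of_proper k (X := X)
  haveI : X.IsSeparated := EulerLib.isSeparated_of_proper (X := X) k
  have hq : Coh.IsCoh (Abelian.image φ) := isCoh_image φ hA hω
  have hT : IsClosed (CohB1.support (Abelian.image φ)) :=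
    Coherent.isClosed_support _ (RefHullLib.locallyFinGen_of_isFP (Coherent.isFP_of_isCoh hq))
  haveI := subsingleton_HH_of_support (X := X) ⟨_, hT⟩ (Abelian.image φ) hq.1 subset_rfl 1
    (dim_lt_one_of_noGeneric hdim hT fun C hC η hη => notMem_support_image φ (h η ⟨C, hC, hη⟩))
  have h0 : Abelian.image.ι φ = 0 := (hrep _ hq.1).1 <| LinearMap.ext fun x => by
    rw [Subsingleton.elim x 0, map_zero, map_zero]
  rw [← Abelian.image.fac φ, h0, comp_zero]

section Piece

variable (Z : X.IdealSheafData) (L : X.Modules) (T : Closeds X)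

/-- The image of `I_Z` in the functions of the reduced subscheme on `T`. -/
noncomputable abbrev E : X.Modules := Abelian.image (ClSub.idealModι Z ≫ ClSub.toSubscheme (red T))

/-- The twist of that image. -/
noncomputable abbrev P : X.Modules := CohB1.tensorMod (E Z T) L

/-- The projection from `I_Z ⊗ L`. -/
noncomputable abbrev proj : CohB1.tensorMod (ClSub.idealMod Z) L ⟶ P Z L T :=
  tensorMap (Abelian.factorThruImage (ClSub.idealModι Z ≫ ClSub.toSubscheme (red T))) (𝟙 L)

/-- The inclusion into `O_T ⊗ L`. -/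
noncomputable abbrev incl : P Z L T ⟶ CohB1.tensorMod (ClSub.quotMod (red T)) L :=
  tensorMap (Abelian.image.ι (ClSub.idealModι Z ≫ ClSub.toSubscheme (red T))) (𝟙 L)

theorem proj_incl : proj Z L T ≫ incl Z L T =
    tensorMap (ClSub.idealModι Z) (𝟙 L) ≫ tensorMap (ClSub.toSubscheme (red T)) (𝟙 L) :=
  AmpleLib.hom_ext fun U a b => by
    simp only [Scheme.Modules.Hom.comp_app, ConcreteCategory.comp_apply, tensorMap_tmul]
    congr 1
    rw [← ConcreteCategory.comp_apply, ← Scheme.Modules.Hom.comp_app, Abelian.image.fac,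
      Scheme.Modules.Hom.comp_app, ConcreteCategory.comp_apply]

variable {L} (hL : PicF.IsInvertible L)

omit [X.Over (Spec (CommRingCat.of k))] [IsProper (X ↘ Spec (CommRingCat.of k))] in
include hL in
theorem epi_proj : Epi (proj Z L T) := EulerLib.epi_tensorMap hL _

omit [X.Over (Spec (CommRingCat.of k))] [IsProper (X ↘ Spec (CommRingCat.of k))] in
include hL in
theorem mono_incl : Mono (incl Z L T) := EulerLib.mono_tensorMap hL _

theorem subsingleton_stalk_idealMod_red [IsReduced X] [IsNoetherian X] {C : Closeds X}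
    (hC : (C : Set X) ∈ irreducibleComponents X) (hCT : (C : Set X) ⊆ T) {η : X}
    (hη : IsGenericPoint η (C : Set X)) : Subsingleton ((ClSub.idealMod (red T)).presheaf.stalk η) := by
  refine subsingleton_of_forall_eq 0 fun v => ?_
  obtain ⟨V, hV, m, rfl⟩ := (ClSub.idealMod (red T)).presheaf.exists_germ_eq v
  obtain ⟨U, hU, hηU, hUT⟩ := exists_isAffineOpen_mem_and_subset (x := η)
    (U := V ⊓ ⟨interior (T : Set X), isOpen_interior⟩) ⟨hV, mem_interior_of_subset hC hη hCT⟩
  rw [← TopCat.Presheaf.germ_res_apply _ (homOfLE (fun z hz => (hUT hz).1 : U ≤ V)) η hηU m]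
  refine (congrArg _ ?_).trans (map_zero _)
  haveI : Mono (ClSub.idealModι (red T)) := inferInstanceAs (Mono (kernel.ι (ClSub.toSubscheme (red T))))
  refine app_injective_of_mono (ClSub.idealModι (red T)) U (Eq.trans ?_ (map_zero _).symm)
  have hm := (DualMod3.toSub_affine_eq_zero_iff (red T) ⟨U, hU⟩ _).1
    (kernel_ι_app_zero (ClSub.toSubscheme (red T)) U ((ClSub.idealMod (red T)).presheaf.map
      (homOfLE (fun z hz => (hUT hz).1 : U ≤ V)).op m))
  have hbot : (red T).ideal ⟨U, hU⟩ = ⊥ := by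
    rw [Scheme.IdealSheafData.vanishingIdeal_ideal]
    have : hU.fromSpec ⁻¹' (T : Set X) = Set.univ := Set.eq_univ_of_forall fun p =>
      show hU.fromSpec p ∈ (T : Set X) from
        interior_subset (s := (T : Set X)) (hUT (hU.range_fromSpec.le ⟨p, rfl⟩)).2
    rw [this, PrimeSpectrum.vanishingIdeal_univ, nilradical_eq_zero]
    rfl
  rw [hbot] at hm
  exact hm

include hL in
/-- The projection is injective at the generic points in `T`. -/
theorem proj_injective_at [IsReduced X] [IsNoetherian X] {C : Closeds X}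
    (hC : (C : Set X) ∈ irreducibleComponents X) (hCT : (C : Set X) ⊆ T) {η : X}
    (hη : IsGenericPoint η (C : Set X)) : Function.Injective (RefHull.stalkMapₗ (proj Z L T) η) := by
  have h1 : Function.Injective (RefHull.stalkMapₗ (tensorMap (ClSub.toSubscheme (red T)) (𝟙 L)) η) := by
    have hS := twistSeq_shortExact hL (shortExact_ideal (red T))
    have hsub : Subsingleton ((CohB1.tensorMod (ClSub.idealMod (red T)) L).presheaf.stalk η) := by
      by_contra h
      exact ((support_twist hL (ClSub.idealMod (red T))).le h) (subsingleton_stalk_idealMod_red T hC hCT hη)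
    refine (injective_iff_map_eq_zero _).2 fun v hv => ?_
    have hex := hS.exact.map (DerSch.stalkFunctor X η)
    rw [ShortComplex.moduleCat_exact_iff] at hex
    obtain ⟨w, hw⟩ := hex v hv
    rw [← hw, @Subsingleton.elim _ hsub w 0]
    exact map_zero _
  haveI : Mono (ClSub.idealModι Z) := inferInstanceAs (Mono (kernel.ι (ClSub.toSubscheme Z)))
  haveI := EulerLib.mono_tensorMap hL (ClSub.idealModι Z)
  intro a b hab
  refine stalk_injective_of_mono (tensorMap (ClSub.idealModι Z) (𝟙 L)) η (h1 ?_)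
  rw [← stalkMap_comp, ← stalkMap_comp, ← proj_incl, stalkMap_comp, stalkMap_comp, hab]

include hL in
theorem subsingleton_stalk_P {η : X} (hη : η ∉ T) : Subsingleton ((P Z L T).presheaf.stalk η) := by
  haveI := mono_incl Z T hL
  have : Subsingleton ((CohB1.tensorMod (ClSub.quotMod (red T)) L).presheaf.stalk η) := by
    by_contra h
    have h2 := support_quotMod_subset (red T) ((support_twist hL (ClSub.quotMod (red T))).le h)
    rw [Scheme.IdealSheafData.coe_support_vanishingIdeal] at h2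
    exact hη h2
  exact (stalk_injective_of_mono (incl Z L T) η).subsingleton

end Piece

section Aux

variable {D : Scheme.{u}} {N : D.Modules}

/-- An idempotent function cutting out a clopen subset. -/
theorem exists_idem {A : Set D} (hA : IsClopen A) :
    ∃ σ : Γ(D, ⊤), PicLib.res (le_top : (⟨A, hA.2⟩ : D.Opens) ≤ ⊤) σ = 1 ∧
      PicLib.res (le_top : (⟨Aᶜ, hA.1.isOpen_compl⟩ : D.Opens) ≤ ⊤) σ = 0 := by
  let a : D.Opens := ⟨A, hA.2⟩
  let b : D.Opens := ⟨Aᶜ, hA.1.isOpen_compl⟩
  let U : ULift.{u} Bool → D.Opens := fun i => if i.down then a else b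
  let c : ∀ i, Γ(D, U i) := fun i => if i.down then 1 else 0
  have hcov : ⊤ ≤ iSup U := fun x _ => by
    by_cases hx : x ∈ A
    · exact Opens.mem_iSup.2 ⟨⟨true⟩, by simpa [U, a, b] using hx⟩
    · exact Opens.mem_iSup.2 ⟨⟨false⟩, by simpa [U, a, b] using hx⟩
  have hdis : ∀ V : D.Opens, V ≤ a → V ≤ b → Subsingleton Γ(D, V) := fun V ha hb => by
    have hV : V = ⊥ := Opens.ext (Set.eq_empty_of_forall_notMem fun x hx =>
      (show x ∉ A from hb hx) (show x ∈ A from ha hx))
    rw [hV]
    exact CommRingCat.subsingleton_of_isTerminal D.sheaf.isTerminalOfEmpty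
  have hcompat : TopCat.Presheaf.IsCompatible D.presheaf U c := by
    rintro ⟨i⟩ ⟨j⟩
    cases i <;> cases j
    case false.false => rfl
    case true.true => rfl
    case false.true => exact @Subsingleton.elim _ (hdis _ inf_le_right inf_le_left) _ _
    case true.false => exact @Subsingleton.elim _ (hdis _ inf_le_left inf_le_right) _ _
  obtain ⟨σ, hσ, -⟩ := TopCat.Sheaf.existsUnique_gluing' D.sheaf U ⊤ (fun i => homOfLE le_top) hcov c hcompat
  exact ⟨σ, hσ ⟨true⟩, hσ ⟨false⟩⟩

/-- Multiplication by a global function. -/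
noncomputable def mulN (N : D.Modules) (f : Coh.structureModule D ⟶ Coh.structureModule D) : N ⟶ N :=
  (unitTensorIso N).inv ≫ tensorMap f (𝟙 N) ≫ (unitTensorIso N).hom

theorem mulN_app (f : Coh.structureModule D ⟶ Coh.structureModule D) (W : D.Opens) (n : Γ(N, W)) :
    (mulN N f).app W n =
      PicLib.res (le_top : W ≤ ⊤) (show Γ(D, ⊤) from f.app ⊤ (1 : Γ(D, ⊤))) • n := by
  have e1 : (unitTensorIso N).inv.app W n = tmul (L := Coh.structureModule D) (oneSec W) n := by
    have h : (unitTensorIso N).hom.app W (tmul (L := Coh.structureModule D) (oneSec W) n) = n :=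
      (CurveRR24.unitTensorIso_tmul' W (1 : Γ(D, W)) n).trans (one_smul _ n)
    conv_lhs => rw [← h]
    rw [← ConcreteCategory.comp_apply, ← Scheme.Modules.Hom.comp_app, Iso.hom_inv_id]
    rfl
  show (unitTensorIso N).hom.app W ((tensorMap f (𝟙 N)).app W ((unitTensorIso N).inv.app W n)) = _
  rw [e1, tensorMap_tmul]
  refine (CurveRR24.unitTensorIso_tmul' W _ n).trans ?_
  refine congrArg (· • n) ?_
  refine Eq.trans ?_ (app_resM f (le_top : W ≤ ⊤) (oneSec (⊤ : D.Opens)))
  refine congrArg (f.app W) ?_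
  exact (map_one (D.presheaf.map (homOfLE (le_top : W ≤ ⊤)).op).hom).symm

theorem unit_basicOpen (σ : Γ(D, ⊤)) {W : D.Opens} (hW : W ≤ D.basicOpen σ) :
    IsUnit (PicLib.res (le_top : W ≤ ⊤) σ) := by
  have h := RingedSpace.isUnit_res_basicOpen (X := D.toRingedSpace) σ
  have e : PicLib.res (le_top : W ≤ ⊤) σ = (D.presheaf.map (homOfLE hW).op).hom
      (PicLib.res (D.basicOpen_le σ) σ) := by
    show _ = (D.presheaf.map (homOfLE (D.basicOpen_le σ)).op ≫ D.presheaf.map (homOfLE hW).op) σ
    rw [← Functor.map_comp]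
    rfl
  rw [e]
  exact IsUnit.map _ h

end Aux

section Main

variable [IsReduced X] [ConnectedSpace X] (hdim : topologicalKrullDim X = 1)
  (Z : X.IdealSheafData) {L : X.Modules} (hL : PicF.IsInvertible L)

/-- The generic points where a map does not vanish. -/
def suppGen {A : X.Modules} (ψ : A ⟶ ω) : Set X := {η | η ∈ genPts X ∧ ¬ VanAt ψ η}

theorem killed_push (J : X.IdealSheafData) (N : J.subscheme.Modules) :
    ClSub.KilledByIdeal J.subschemeι.ker ((Coh.push J.subschemeι).obj N) := by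
  rw [Scheme.IdealSheafData.ker_subschemeι]
  intro U a ha m
  have h0 : J.subschemeι.app U.1 a = 0 := (DualMod3.toSub_affine_eq_zero_iff J U a).2 ha
  show J.subschemeι.app U.1 a • (show Γ(N, J.subschemeι ⁻¹ᵁ U.1) from m) = 0
  rw [h0, zero_smul]

theorem killed_of_mono {J : X.IdealSheafData} {A B : X.Modules} (i : A ⟶ B) [Mono i]
    (hB : ClSub.KilledByIdeal J B) : ClSub.KilledByIdeal J A := fun U a ha m =>
  app_injective_of_mono i U.1 ((Scheme.Modules.Hom.app_smul i a m).trans ((hB U a ha _).trans (map_zero _).symm))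

include hrep hω hdim hL in
/-- The subcurve cut out by a minimal functional. -/
theorem exists_piece (h1 : Nontrivial (Coh.HH X (CohB1.tensorMod (ClSub.idealMod Z) L) 1)) :
    ∃ T : Closeds X, ConnectedSpace (red T).subscheme ∧ topologicalKrullDim (red T).subscheme = 1 ∧
      ∃ φ : P Z L T ⟶ ω, Mono φ ∧
        Module.finrank k (Coh.HH X (ClSub.quotMod (red T)) 0) ≤ Module.finrank k (P Z L T ⟶ ω) := by
  classical
  haveI := EulerLib.isNoetherian_of_proper k (X := X)
  haveI : X.IsSeparated := EulerLib.isSeparated_of_proper (X := X) k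
  let A := CohB1.tensorMod (ClSub.idealMod Z) L
  have hA : Coh.IsCoh A := isCoh_twist hL (isCoh_idealMod' Z)
  haveI := finite_HH_of_isCoh k hA 1
  haveI : Nontrivial (A ⟶ ω) := by
    haveI : Nontrivial (Module.Dual k (Coh.HH X A 1)) := Module.nontrivial_of_finrank_pos (R := k) (by
      rw [Subspace.dual_finrank_eq]; exact Module.finrank_pos)
    exact (SerreDual.dualEquiv t (hrep A hA.1)).toEquiv.nontrivial
  have hex : ∃ n, ∃ ψ : A ⟶ ω, ψ ≠ 0 ∧ (suppGen ψ).ncard = n := by
    obtain ⟨ψ, hψ⟩ := exists_ne (0 : A ⟶ ω)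
    exact ⟨_, ψ, hψ, rfl⟩
  obtain ⟨ψ, hψ, hcard⟩ := Nat.find_spec hex
  have hfinS : (suppGen ψ).Finite := finite_genPts.subset fun η h => h.1
  have hSne : (suppGen ψ).Nonempty := by
    by_contra h
    exact hψ (eq_zero_of_vanAt k hrep hω hdim.le hA ψ fun η hη => not_not.1 fun hv => h ⟨η, hη, hv⟩)
  let T : Closeds X := ⟨closure (suppGen ψ), isClosed_closure⟩
  have hT0 : ∀ η ∈ genPts X, η ∉ suppGen ψ → η ∉ T := fun η hη hns hmem => by
    have : closure (suppGen ψ) = ⋃ s ∈ suppGen ψ, closure {s} := by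
      conv_lhs => rw [← Set.biUnion_of_singleton (suppGen ψ)]
      rw [hfinS.closure_biUnion]
    have hmem' : η ∈ closure (suppGen ψ) := hmem
    rw [this, Set.mem_iUnion₂] at hmem'
    obtain ⟨s, hs, hsη⟩ := hmem'
    exact hns (eq_of_specializes_genPt hη (specializes_iff_mem_closure.2 hsη) ▸ hs)
  have hinjS : ∀ η ∈ suppGen ψ, Function.Injective (RefHull.stalkMapₗ (proj Z L T) η) := by
    rintro η ⟨⟨C, hC, hη⟩, hv⟩
    refine proj_injective_at Z T hL hC ?_ hη
    rw [← hη.def]
    exact closure_mono (Set.singleton_subset_iff.2 ⟨⟨C, hC, hη⟩, hv⟩)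
  haveI := epi_proj Z T hL
  haveI := mono_incl Z T hL
  have hqT : Coh.IsCoh (ClSub.quotMod (red T)) := isCoh_quotMod _
  have hPc : Coh.IsCoh (P Z L T) := isCoh_twist hL (isCoh_image _ (isCoh_idealMod' Z) hqT)
  have hker : kernel.ι (proj Z L T) ≫ ψ = 0 := by
    refine eq_zero_of_vanAt k hrep hω hdim.le (isCoh_kernel _ hA hPc.1) _ fun η hη v => ?_
    rw [stalkMap_comp]
    by_cases hs : η ∈ suppGen ψ
    · have : RefHull.stalkMapₗ (kernel.ι (proj Z L T)) η v = 0 := by
        refine hinjS η hs ?_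
        rw [← stalkMap_comp, kernel.condition, map_zero]
        exact DefoSh.stalkMapₗ_zero_apply _ _
      rw [this, map_zero]
    · exact not_not.1 (fun hv => hs ⟨hη, hv⟩) _
  let φ : P Z L T ⟶ ω := Abelian.epiDesc (proj Z L T) ψ hker
  have hφ : proj Z L T ≫ φ = ψ := Abelian.comp_epiDesc _ _ _
  -- the subscheme
  let J := red T
  haveI : IsReduced J.subscheme := Props12.isReduced_subscheme_vanishingIdeal T
  let ι := J.subschemeι
  have hgen : ∀ y : J.subscheme, ∃ z : J.subscheme, z ⤳ y ∧ ι z ∈ suppGen ψ := fun y => by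
    obtain ⟨z, hz, hzy⟩ := exists_genPt_specializes y
    refine ⟨z, hzy, ?_⟩
    have hzT : ι z ∈ closure (suppGen ψ) := (range_red T).subset ⟨z, rfl⟩
    rw [← Set.biUnion_of_singleton (suppGen ψ), hfinS.closure_biUnion, Set.mem_iUnion₂] at hzT
    obtain ⟨s, hs, hsz⟩ := hzT
    obtain ⟨z', hz'⟩ := (range_red T).superset (show s ∈ (T : Set X) from subset_closure hs)
    have : z' ⤳ z := ι.isEmbedding.isInducing.specializes_iff.1 (hz' ▸ specializes_iff_mem_closure.2 hsz)
    rw [eq_of_specializes_genPt hz this] at hz'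
    exact hz' ▸ hs
  let LT := (Scheme.Modules.pullback ι).obj L
  have hLT : PicF.IsInvertible LT := PicLoc.isInvertible_pullback ι hL
  have hLF : FlatMod.IsFinLocFree L := fun x => let ⟨U, hx, e⟩ := isFinLocFreeOfRank_one hL x; ⟨U, 1, hx, e⟩
  let eQ : CohB1.tensorMod (ClSub.quotMod J) L ≅ (Coh.push ι).obj LT :=
    (tensorComm _ _ ≪≫ ((projIso (f := ι) hLF).app (Coh.structureModule J.subscheme))) ≪≫
      (Scheme.Modules.pushforward ι).mapIso (tensorComm _ _ ≪≫ unitTensorIso _)
  let j : P Z L T ⟶ (Coh.push ι).obj LT := incl Z L T ≫ eQ.hom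
  haveI : Mono φ := by
    refine Preadditive.mono_of_kernel_zero ((cancel_mono j).1 ?_)
    refine Scheme.Modules.hom_ext _ _ fun V => ConcreteCategory.hom_ext _ _ fun m => ?_
    rw [zero_comp]
    show j.app V ((kernel.ι φ).app V m) = (0 : Γ((Coh.push ι).obj LT, V))
    let w : Γ(LT, ι ⁻¹ᵁ V) := j.app V ((kernel.ι φ).app V m)
    show w = 0
    refine eq_zero_of_van hLT (T := Set.univ) (fun W hW g hg y _ hy => ?_) (Set.subset_univ _)
    obtain ⟨z, hzy, hzS⟩ := hgen y
    have hzB : z ∈ J.subscheme.basicOpen (hg.coef le_rfl (resM LT hW w)) :=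
      hzy.mem_open (Opens.isOpen _) hy
    have hzV : ι z ∈ V := hW (J.subscheme.basicOpen_le _ hzB)
    have hgerm : (P Z L T).presheaf.germ V (ι z) hzV ((kernel.ι φ).app V m) = 0 := by
      have hinjφ : Function.Injective (RefHull.stalkMapₗ φ (ι z)) := by
        intro a b hab
        obtain ⟨a', rfl⟩ := stalk_surjective_of_epi (proj Z L T) (ι z) a
        obtain ⟨b', rfl⟩ := stalk_surjective_of_epi (proj Z L T) (ι z) b
        rw [← stalkMap_comp, ← stalkMap_comp, hφ] at hab
        refine congrArg _ ?_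
        let R := X.presheaf.stalk (ι z)
        letI := (isField_stalk_genPt hzS.1).toField
        haveI : Mono (ClSub.idealModι Z) := inferInstanceAs (Mono (kernel.ι (ClSub.toSubscheme Z)))
        haveI := EulerLib.mono_tensorMap hL (ClSub.idealModι Z)
        let i : A ⟶ L := tensorMap (ClSub.idealModι Z) (𝟙 L) ≫ (unitTensorIso L).hom
        let l : A.presheaf.stalk (ι z) →ₗ[R] L.presheaf.stalk (ι z) := RefHull.stalkMapₗ i (ι z)
        have hl : Function.Injective l := stalk_injective_of_mono i (ι z)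
        obtain ⟨t₀, ht₀⟩ := CycLib28.exists_gen_stalk hL (ι z)
        by_contra hne
        obtain ⟨v₀, hv₀⟩ := not_forall.1 hzS.2
        obtain ⟨ca, hca⟩ := ht₀.1.2 (l (a' - b'))
        obtain ⟨c₀, hc₀⟩ := ht₀.1.2 (l v₀)
        have hca0 : ca ≠ 0 := fun h0 => hne (sub_eq_zero.1 (hl (by
          rw [← hca, h0, map_zero]; exact zero_smul R t₀)))
        have hv : v₀ = (c₀ / ca) • (a' - b') := hl (by
          rw [map_smul, ← hc₀, ← hca]
          show c₀ • t₀ = (c₀ / ca) • (ca • t₀)
          rw [smul_smul, div_mul_cancel₀ c₀ hca0])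
        exact hv₀ (by rw [hv, map_smul, map_sub, hab, sub_self, smul_zero])
      refine hinjφ ?_
      rw [RefHull.stalkMapₗ_germ, kernel_ι_app_zero φ V m, map_zero, map_zero]
    obtain ⟨V₀, hzV₀, i₁, i₂, hres⟩ := (P Z L T).presheaf.germ_eq (ι z) hzV hzV _ 0 (hgerm.trans (map_zero _).symm)
    rw [map_zero] at hres
    have hwz : resM LT ((Opens.map ι.base).map i₁).le w = 0 := by
      show ((Coh.push ι).obj LT).presheaf.map i₁.op (j.app V _) = 0
      refine (app_resM j i₁.le _).symm.trans ?_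
      exact (congrArg (j.app V₀) hres).trans (map_zero _)
    let W₀ : J.subscheme.Opens := W ⊓ ι ⁻¹ᵁ V₀
    have hg₀ := hg.restrict (inf_le_left : W₀ ≤ W)
    have hspec := hg.coef_spec le_rfl (resM LT hW w)
    rw [resM_self] at hspec
    have h2 : resM LT (inf_le_left : W₀ ≤ W) (resM LT hW w) = 0 := by
      rw [resM_resM]
      refine Eq.trans ?_ ((congrArg (resM LT (inf_le_right : W₀ ≤ ι ⁻¹ᵁ V₀)) hwz).trans (map_zero _))
      rw [resM_resM]
    rw [← hspec, resM_smul] at h2
    have h3 : PicLib.res (inf_le_left : W₀ ≤ W) (hg.coef le_rfl (resM LT hW w)) = 0 := by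
      refine (hg₀ W₀ le_rfl).1 ?_
      show _ • resM LT le_rfl _ = (0 : Γ(J.subscheme, W₀)) • resM LT le_rfl _
      rw [resM_self, zero_smul]
      exact h2
    have : z ∈ J.subscheme.basicOpen (PicLib.res (inf_le_left : W₀ ≤ W) (hg.coef le_rfl (resM LT hW w))) := by
      rw [Scheme.basicOpen_res]
      exact ⟨⟨J.subscheme.basicOpen_le _ hzB, hzV₀⟩, hzB⟩
    rw [h3, Scheme.basicOpen_zero] at this
    exact this
  haveI hjm : Mono j := mono_comp _ _
  have hk : ClSub.KilledByIdeal ι.ker (P Z L T) := killed_of_mono j (killed_push J LT)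
  let N := (Scheme.Modules.pullback ι).obj (P Z L T)
  let eP : P Z L T ≅ (Coh.push ι).obj N := clIso ι hk
  letI : J.subscheme.Over (Spec (CommRingCat.of k)) := ⟨ι ≫ (X ↘ Spec (CommRingCat.of k))⟩
  have pushsmul : ∀ (c : k) (f : N ⟶ N), (Coh.push ι).map (c • f) = c • (Coh.push ι).map f := fun c f => by
    rw [KLin.smul_def, KLin.smul_def, Functor.map_comp]
    exact congrArg (· ≫ _) (Coherent.Existence.push_map_smulMod (p := ι) rfl N c)
  let O := Coh.structureModule J.subscheme
  let μ : (O ⟶ O) →ₗ[k] (P Z L T ⟶ ω) :=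
    { toFun := fun f => eP.hom ≫ (Coh.push ι).map (mulN N f) ≫ eP.inv ≫ φ
      map_add' := fun f f' => by
        have : mulN N (f + f') = mulN N f + mulN N f' := by
          show (unitTensorIso N).inv ≫ SerreDual.tensorRightHom k O O N (f + f') ≫ _ = _
          rw [map_add, Preadditive.add_comp, Preadditive.comp_add]
          rfl
        rw [this, Functor.map_add, Preadditive.add_comp, Preadditive.comp_add]
      map_smul' := fun c f => by
        have : mulN N (c • f) = c • mulN N f := by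
          show (unitTensorIso N).inv ≫ SerreDual.tensorRightHom k O O N (c • f) ≫ _ = _
          rw [map_smul, Linear.smul_comp, Linear.comp_smul]
          rfl
        rw [this, pushsmul, Linear.smul_comp, Linear.comp_smul]
        rfl }
  have hμ : Function.Injective μ := by
    refine (injective_iff_map_eq_zero μ).2 fun f hf => ?_
    have hpf : (Coh.push ι).map (mulN N f) = 0 := by
      rw [← cancel_epi eP.hom, ← cancel_mono eP.inv, ← cancel_mono φ, Category.assoc, Category.assoc,
        comp_zero, zero_comp, zero_comp]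
      exact hf
    let σ : Γ(J.subscheme, ⊤) := f.app ⊤ (1 : Γ(J.subscheme, ⊤))
    have hσ : σ = 0 := by
      refine (basicOpen_eq_bot_iff σ).1 (eq_bot_iff.2 fun y hy => ?_)
      obtain ⟨z, hzy, hzS⟩ := hgen y
      have hzB : z ∈ J.subscheme.basicOpen σ := hzy.mem_open (Opens.isOpen _) hy
      obtain ⟨O₁, hO₁, hO₁'⟩ := ι.isEmbedding.isInducing.isOpen_iff.1 (J.subscheme.basicOpen σ).2
      refine hzS.2 fun v => ?_
      rw [← hφ, stalkMap_comp]
      suffices h : RefHull.stalkMapₗ (proj Z L T) (ι z) v = 0 by rw [h, map_zero]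
      obtain ⟨V, hV, p, hp⟩ := (P Z L T).presheaf.exists_germ_eq (RefHull.stalkMapₗ (proj Z L T) (ι z) v)
      let V₁ : X.Opens := V ⊓ ⟨O₁, hO₁⟩
      have hzV₁ : ι z ∈ V₁ := ⟨hV, show z ∈ ι ⁻¹' O₁ from hO₁'.symm ▸ hzB⟩
      let p₁ : Γ(P Z L T, V₁) := (P Z L T).presheaf.map (homOfLE (inf_le_left : V₁ ≤ V)).op p
      rw [← hp, ← TopCat.Presheaf.germ_res_apply _ (homOfLE (inf_le_left : V₁ ≤ V)) (ι z) hzV₁ p]
      refine (congrArg _ (?_ : p₁ = 0)).trans (map_zero _)
      refine app_injective_of_mono eP.hom V₁ (Eq.trans ?_ (map_zero _).symm)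
      let n : Γ(N, ι ⁻¹ᵁ V₁) := eP.hom.app V₁ p₁
      show n = 0
      have h0 : (mulN N f).app (ι ⁻¹ᵁ V₁) n = 0 :=
        congrArg (fun h : (Coh.push ι).obj N ⟶ (Coh.push ι).obj N => h.app V₁ n) hpf
      rw [mulN_app] at h0
      exact (unit_basicOpen σ (W := ι ⁻¹ᵁ V₁) (fun a ha => hO₁'.le ha.2)).smul_eq_zero.1 h0
    rw [← unitDesc_unitVal f, ← unitDesc_unitVal (0 : O ⟶ O)]
    exact congrArg _ hσ
  refine ⟨T, ?_, ?_, φ, inferInstance, ?_⟩
  · haveI : Nonempty J.subscheme := by
      obtain ⟨s, hs⟩ := hSne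
      obtain ⟨z, -⟩ := (range_red T).superset (show s ∈ (T : Set X) from subset_closure hs)
      exact ⟨z⟩
    rw [connectedSpace_iff_clopen]
    refine ⟨inferInstance, fun B hB => ?_⟩
    by_contra hc
    push Not at hc
    obtain ⟨⟨xa, hxa⟩, hBu⟩ := And.intro hc.1 hc.2
    obtain ⟨xb, hxb⟩ := (Set.ne_univ_iff_exists_notMem B).1 hBu
    obtain ⟨σ, hσ1, hσ0⟩ := exists_idem hB
    let f : O ⟶ O := unitDesc O σ
    have hfσ : f.app ⊤ (1 : Γ(J.subscheme, ⊤)) = σ := SerreDual.unitDesc_one_app (M := O) σ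
    let ψ' : A ⟶ ω := proj Z L T ≫ μ f
    have hf0 : f ≠ 0 := fun h0 => by
      have hz : σ = 0 := by rw [← hfσ, h0]; rfl
      rw [hz, map_zero] at hσ1
      have hb := Scheme.basicOpen_of_isUnit J.subscheme (isUnit_one (M := Γ(J.subscheme, (⟨B, hB.2⟩ : J.subscheme.Opens))))
      rw [← hσ1, Scheme.basicOpen_zero] at hb
      exact (hb.symm.le hxa :)
    have hψ' : ψ' ≠ 0 := fun h0 => hf0 (hμ (by
      rw [map_zero]; exact (cancel_epi (proj Z L T)).1 (h0.trans comp_zero.symm)))
    have hsub : suppGen ψ' ⊂ suppGen ψ := by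
      refine ⟨fun η hη => ⟨hη.1, fun hv => hη.2 fun v => ?_⟩, fun hle => ?_⟩
      · have hnT : η ∉ T := hT0 η hη.1 (fun h => h.2 hv)
        rw [stalkMap_comp, @Subsingleton.elim _ (subsingleton_stalk_P Z T hL hnT) (RefHull.stalkMapₗ (proj Z L T) η v) 0,
          map_zero]
      · obtain ⟨z, hzb, hzS⟩ := hgen xb
        have hzB : z ∉ B := fun h => hxb (hzb.mem_closed hB.1 h)
        refine (hle hzS).2 fun v => ?_
        obtain ⟨O₁, hO₁, hO₁'⟩ := ι.isEmbedding.isInducing.isOpen_iff.1 hB.1.isOpen_compl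
        obtain ⟨V, hV, p, hp⟩ := (P Z L T).presheaf.exists_germ_eq (RefHull.stalkMapₗ (proj Z L T) (ι z) v)
        let V₁ : X.Opens := V ⊓ ⟨O₁, hO₁⟩
        have hzV₁ : ι z ∈ V₁ := ⟨hV, show z ∈ ι ⁻¹' O₁ from hO₁'.symm ▸ hzB⟩
        rw [stalkMap_comp, ← hp, ← TopCat.Presheaf.germ_res_apply _ (homOfLE (inf_le_left : V₁ ≤ V)) (ι z) hzV₁ p,
          RefHull.stalkMapₗ_germ]
        refine (congrArg _ ?_).trans (map_zero _)
        let n : Γ(N, ι ⁻¹ᵁ V₁) :=
          eP.hom.app V₁ ((P Z L T).presheaf.map (homOfLE (inf_le_left : V₁ ≤ V)).op p)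
        show φ.app V₁ (eP.inv.app V₁ ((mulN N f).app (ι ⁻¹ᵁ V₁) n)) = 0
        have hz : PicLib.res (le_top : ι ⁻¹ᵁ V₁ ≤ ⊤) σ = 0 := by
          have hle : ι ⁻¹ᵁ V₁ ≤ (⟨Bᶜ, hB.1.isOpen_compl⟩ : J.subscheme.Opens) := fun a ha => hO₁'.le ha.2
          have := congrArg (J.subscheme.presheaf.map (homOfLE hle).op).hom hσ0
          rw [map_zero] at this
          rw [← this]
          show _ = (J.subscheme.presheaf.map (homOfLE le_top).op ≫ J.subscheme.presheaf.map (homOfLE hle).op) σ
          rw [← Functor.map_comp]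
          rfl
        rw [mulN_app, hfσ, hz, zero_smul]
        exact (congrArg (φ.app V₁) (map_zero _)).trans (map_zero _)
    have hlt := Set.ncard_lt_ncard hsub hfinS
    exact Nat.find_min hex (hcard ▸ hlt) ⟨ψ', hψ', rfl⟩
  · rw [VarietyLib.topologicalKrullDim_vanishingIdeal]
    refine le_antisymm (Topology.IsInducing.subtypeVal.topologicalKrullDim_le.trans hdim.le) ?_
    obtain ⟨s, ⟨C, hC, hCs⟩, hv⟩ := hSne
    refine (one_le_dim_component k hdim hC).trans (dim_mono ?_)
    rw [← hCs.def]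
    exact closure_mono (Set.singleton_subset_iff.2 ⟨⟨C, hC, hCs⟩, hv⟩)
  · haveI := finite_HH_of_isCoh k hPc 1
    haveI := Module.Finite.equiv (SerreDual.dualEquiv t (hrep _ hPc.1)).symm
    refine le_trans (le_of_eq ?_) (LinearMap.finrank_le_finrank_of_injective hμ)
    haveI : Coh.IsQCoh O := isQCoh_structureModule
    exact ((SerreDual.hpush ι k rfl O 0).finrank_eq).symm.trans (SerreDual.homUnitHH k O).finrank_eq.symm

include hrep hω hdim hL in
/-- A subcurve of small degree. -/
theorem exists_subcurve (hZ : topologicalKrullDim (Z.support : Set X) ≤ 0)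
    (h1 : Nontrivial (Coh.HH X (CohB1.tensorMod (ClSub.idealMod Z) L) 1)) :
    ∃ J : X.IdealSheafData, IsReduced J.subscheme ∧ ConnectedSpace J.subscheme ∧ topologicalKrullDim J.subscheme = 1 ∧
      @Curv2.deg k _ J.subscheme ⟨J.subschemeι ≫ (X ↘ Spec (CommRingCat.of k))⟩
          ((Scheme.Modules.pullback J.subschemeι).obj L) 1 ≤
        -2 * @Curv2.euler k _ J.subscheme ⟨J.subschemeι ≫ (X ↘ Spec (CommRingCat.of k))⟩
            (Coh.structureModule J.subscheme) +
          Module.finrank k (Coh.HH X (ClSub.quotMod (Z ⊔ J)) 0) := by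
  haveI := EulerLib.isNoetherian_of_proper k (X := X)
  haveI : X.IsSeparated := EulerLib.isSeparated_of_proper (X := X) k
  obtain ⟨T, hconn, hd1, φ, hφm, hh1⟩ := exists_piece k hrep hω hdim Z hL h1
  let J := red T
  refine ⟨J, Props12.isReduced_subscheme_vanishingIdeal T, hconn, hd1, ?_⟩
  haveI := mono_incl Z T hL
  have hqT : Coh.IsCoh (ClSub.quotMod J) := isCoh_quotMod _
  have hEc : Coh.IsCoh (E Z T) := isCoh_image _ (isCoh_idealMod' Z) hqT
  have hPc : Coh.IsCoh (P Z L T) := isCoh_twist hL hEc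
  haveI := finite_HH_of_isCoh k hPc 0
  haveI := finite_HH_of_isCoh k hqT 1
  -- h⁰
  have h0 : Module.finrank k (Coh.HH X (P Z L T) 0) ≤ Module.finrank k (Coh.HH X (ClSub.quotMod J) 1) := by
    let G := Linear.rightComp k (Coh.structureModule X) φ
    let Q := Linear.leftComp k ω (ClSub.toSubscheme J)
    haveI : Module.Finite k (ClSub.quotMod J ⟶ ω) := Module.Finite.equiv (SerreDual.dualEquiv t (hrep _ hqT.1)).symm
    have hG : Function.Injective G := fun a b e => (cancel_mono φ).1 e
    have hle : LinearMap.range G ≤ LinearMap.range Q := by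
      rintro _ ⟨v, rfl⟩
      have hv : ClSub.idealModι J ≫ v = 0 := by
        refine RelVALib.hom_ext_affine _ _ fun U hU x => ?_
        show v.app U ((ClSub.idealModι J).app U x) = (0 : Γ(P Z L T, U))
        let r : Γ(X, U) := (ClSub.idealModι J).app U x
        have hx : (ClSub.idealModι J).app U x = r • oneSec U := (mul_one r).symm
        rw [hx, Scheme.Modules.Hom.app_smul]
        have hr : r ∈ J.ideal ⟨U, hU⟩ :=
          (DualMod3.toSub_affine_eq_zero_iff J ⟨U, hU⟩ _).1 (kernel_ι_app_zero (ClSub.toSubscheme J) U x)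
        have hLF : FlatMod.IsFinLocFree L := fun x => let ⟨U, hx, e⟩ := isFinLocFreeOfRank_one hL x; ⟨U, 1, hx, e⟩
        let j := incl Z L T ≫ ((tensorComm _ _ ≪≫ ((projIso (f := J.subschemeι) hLF).app (Coh.structureModule J.subscheme)))).hom
        haveI : Mono j := mono_comp _ _
        have hk := killed_of_mono j (killed_push J _)
        rw [Scheme.IdealSheafData.ker_subschemeι] at hk
        exact hk ⟨U, hU⟩ r hr _
      have hz : ClSub.idealModι J ≫ v ≫ φ = 0 := by rw [← Category.assoc, hv, zero_comp]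
      exact ⟨(shortExact_ideal J).gIsCokernel.desc (CokernelCofork.ofπ _ hz),
        Cofork.IsColimit.π_desc (shortExact_ideal J).gIsCokernel⟩
    rw [← (SerreDual.homUnitHH k (P Z L T)).finrank_eq, ← LinearMap.finrank_range_of_inj hG]
    refine (Submodule.finrank_mono hle).trans ((LinearMap.finrank_range_le Q).trans ?_)
    rw [(SerreDual.dualEquiv t (hrep _ hqT.1)).finrank_eq, Subspace.dual_finrank_eq]
  rw [(SerreDual.finrank_hom_eq_h1 hrep hPc).2] at hh1
  have eP := euler_eq_h0_sub_h1 k hdim.le _ hPc.1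
  have eq := euler_eq_h0_sub_h1 k hdim.le _ hqT.1
  -- the cokernel of the restriction
  obtain ⟨q, hq⟩ := DualMod3.exists_toSup Z J
  let θ := ClSub.idealModι Z ≫ ClSub.toSubscheme J
  have hw : Abelian.image.ι θ ≫ q = 0 := by
    rw [← cancel_epi (Abelian.factorThruImage θ), ← Category.assoc, Abelian.image.fac, comp_zero, Category.assoc]
    exact DualMod3.ι_comp_eq_zero q hq _
  haveI : Epi q := by
    haveI : Epi (ClSub.toSubscheme J ≫ q) := by rw [hq]; exact CurveRR24.epi_toSubscheme _
    exact epi_of_epi (ClSub.toSubscheme J) q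
  haveI : Epi (kernel.lift q (Abelian.image.ι θ) hw) := by
    refine Existence.epi_of_affine_surjective _ fun U hU b => ?_
    obtain ⟨α, hα⟩ := J.subschemeι_app_surjective ⟨U, hU⟩ ((kernel.ι q).app U b)
    have hα' : (ClSub.toSubscheme J).app U (show Γ(Coh.structureModule X, U) from α) = (kernel.ι q).app U b := hα
    have hz : (ClSub.toSubscheme (Z ⊔ J)).app U (show Γ(Coh.structureModule X, U) from α) = 0 := by
      rw [← hq, Scheme.Modules.Hom.comp_app, ConcreteCategory.comp_apply, hα']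
      exact kernel_ι_app_zero q U b
    obtain ⟨i₁, hi₁, i₂, hi₂, hsum⟩ := Submodule.mem_sup.1
      (show α ∈ Z.ideal ⟨U, hU⟩ ⊔ J.ideal ⟨U, hU⟩ from (DualMod3.toSub_affine_eq_zero_iff _ ⟨U, hU⟩ _).1 hz)
    obtain ⟨m, hm⟩ := kernel_sections_exact (ClSub.toSubscheme Z) (show Γ(Coh.structureModule X, U) from i₁)
      ((DualMod3.toSub_affine_eq_zero_iff Z ⟨U, hU⟩ _).2 hi₁)
    refine ⟨(Abelian.factorThruImage θ).app U m, app_injective_of_mono (kernel.ι q) U ?_⟩
    rw [← ConcreteCategory.comp_apply, ← Scheme.Modules.Hom.comp_app, kernel.lift_ι,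
      ← ConcreteCategory.comp_apply, ← Scheme.Modules.Hom.comp_app, Abelian.image.fac]
    show (ClSub.toSubscheme J).app U ((kernel.ι (ClSub.toSubscheme Z)).app U m) = _
    rw [hm, ← hα', ← hsum]
    refine Eq.trans ?_ (map_add ((ClSub.toSubscheme J).app U).hom
      (show Γ(Coh.structureModule X, U) from i₁) (show Γ(Coh.structureModule X, U) from i₂)).symm
    rw [(DualMod3.toSub_affine_eq_zero_iff J ⟨U, hU⟩ (show Γ(Coh.structureModule X, U) from i₂)).2 hi₂, add_zero]
  have hS : (ShortComplex.mk (Abelian.image.ι θ) q hw).ShortExact :=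
    { exact := (ShortComplex.exact_iff_epi_kernel_lift (ShortComplex.mk _ q hw)).2
        (inferInstanceAs (Epi (kernel.lift q (Abelian.image.ι θ) hw))) }
  have cQ := isCoh_quotMod (Z ⊔ J)
  have e2 := euler_additive k X _ (twistSeq_shortExact hL hS) (isCoh_twist hL hEc) (isCoh_twist hL hqT) (isCoh_twist hL cQ)
  change Curv2.euler k X (CohB1.tensorMod (ClSub.quotMod J) L) =
    Curv2.euler k X (P Z L T) + Curv2.euler k X (CohB1.tensorMod (ClSub.quotMod (Z ⊔ J)) L) at e2
  have hsupp : CohB1.support (ClSub.quotMod (Z ⊔ J)) ⊆ (Z.support : Set X) :=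
    (support_quotMod_subset _).trans (Scheme.IdealSheafData.support_antitone le_sup_left)
  have hlt : topologicalKrullDim (CohB1.support (ClSub.quotMod (Z ⊔ J))) < ((1 : ℕ) : WithBot ℕ∞) :=
    lt_of_le_of_lt ((dim_mono hsupp).trans hZ) (by exact_mod_cast Nat.zero_lt_one)
  have hsmall : Curv2.euler k X (ClSub.quotMod (Z ⊔ J)) = (Module.finrank k (Coh.HH X (ClSub.quotMod (Z ⊔ J)) 0) : ℤ) := by
    rw [euler_eq_sum k X _ 0 fun q hq' => ?_]
    · simp [Finset.sum_range_succ]
    · exact subsingleton_HH_of_support (X := X) Z.support _ cQ.1 hsupp q (lt_of_le_of_lt hZ (by exact_mod_cast hq'))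
  rw [euler_twist_of_small k cQ hL hlt, hsmall] at e2
  rw [DualMod3.euler_quot k J, Curv2.deg, DualMod3.euler_quot_tensor k J hL, DualMod3.euler_quot k J]
  simp only [J] at *
  push_cast
  omega

end Main

end Groth.Agent.TFPush7.CFHR
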