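import Groth.Agent.TFPush7.StalkSub
import Groth.Agent.AmpleLib.Ample
import Groth.Agent.PrinLib.StalkMod
import Groth.Agent.SDiv28.WeakAssUnit

/-!
# Linear forms on an affine locus extend to morphisms into a power of the invertible module
-/

set_option autoImplicit false
set_option linter.style.haveILetI false
set_option backward.isDefEq.respectTransparency false
set_option backward.isDefEq.respectTransparency.types false
set_option maxHeartbeats 1000000

universe u

open CategoryTheory CategoryTheory.Limits AlgebraicGeometry Opposite TopologicalSpace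
open Groth.Agent.Coherent Groth.Agent.PicLib Groth.Agent.AmpleLib

namespace Groth.Agent.TFPush7

variable {X : Scheme.{u}}

theorem bijective_smul_germ {L : X.Modules} {U : X.Opens} {s : Γ(L, U)} (hs : IsGen L U s) {y : X} (hy : y ∈ U) :
    Function.Bijective (fun a : X.presheaf.stalk y => a • L.presheaf.germ U y hy s) := by
  refine ⟨fun a a' h => ?_, fun v => ?_⟩
  · obtain ⟨W₁, h₁, r₁, rfl⟩ := X.presheaf.exists_germ_eq a
    obtain ⟨W₂, h₂, r₂, rfl⟩ := X.presheaf.exists_germ_eq a'
    let W : X.Opens := W₁ ⊓ W₂ ⊓ U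
    have hyW : y ∈ W := ⟨⟨h₁, h₂⟩, hy⟩
    dsimp only at h
    rw [← TopCat.Presheaf.germ_res_apply X.presheaf (homOfLE (inf_le_left.trans inf_le_left : W ≤ W₁)) y hyW r₁,
      ← TopCat.Presheaf.germ_res_apply X.presheaf (homOfLE (inf_le_left.trans inf_le_right : W ≤ W₂)) y hyW r₂,
      ← TopCat.Presheaf.germ_res_apply L.presheaf (homOfLE (inf_le_right : W ≤ U)) y hyW s,
      ← QCohLoc.germ_smul', ← QCohLoc.germ_smul'] at h
    obtain ⟨W', hyW', i, j, e⟩ := L.presheaf.germ_eq y hyW hyW _ _ h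
    have e' : res i.le (res (inf_le_left.trans inf_le_left : W ≤ W₁) r₁) • resM L (i.le.trans inf_le_right) s =
        res i.le (res (inf_le_left.trans inf_le_right : W ≤ W₂) r₂) • resM L (i.le.trans inf_le_right) s := by
      have := e
      rw [show L.presheaf.map i.op = L.presheaf.map (homOfLE i.le).op from rfl,
        show L.presheaf.map j.op = L.presheaf.map (homOfLE i.le).op from rfl] at this
      change resM L i.le _ = resM L i.le _ at this
      rw [resM_smul, resM_smul] at this
      change _ • resM L i.le (resM L inf_le_right s) = _ • resM L i.le (resM L inf_le_right s) at this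
      rwa [resM_resM] at this
    have := congrArg (X.presheaf.germ W' y hyW') ((hs W' (i.le.trans inf_le_right)).1 e')
    exact (((TopCat.Presheaf.germ_res_apply X.presheaf (homOfLE (inf_le_left.trans inf_le_left : W ≤ W₁)) y hyW r₁).symm.trans
      (TopCat.Presheaf.germ_res_apply X.presheaf (homOfLE i.le) y hyW' _).symm).trans this).trans
      ((TopCat.Presheaf.germ_res_apply X.presheaf (homOfLE i.le) y hyW' _).trans
        (TopCat.Presheaf.germ_res_apply X.presheaf _ y hyW r₂))
  · obtain ⟨W₁, h₁, m, rfl⟩ := L.presheaf.exists_germ_eq v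
    obtain ⟨r, hr⟩ := (hs (W₁ ⊓ U) inf_le_right).2 (resM L inf_le_left m)
    refine ⟨X.presheaf.germ (W₁ ⊓ U) y ⟨h₁, hy⟩ r, ?_⟩
    dsimp only at hr ⊢
    rw [← TopCat.Presheaf.germ_res_apply L.presheaf (homOfLE (inf_le_right : W₁ ⊓ U ≤ U)) y ⟨h₁, hy⟩ s,
      ← QCohLoc.germ_smul', ← TopCat.Presheaf.germ_res_apply L.presheaf (homOfLE (inf_le_left : W₁ ⊓ U ≤ W₁)) y ⟨h₁, hy⟩ m]
    exact congrArg _ hr

/-- The local ring value of an element of the stalk of the structure module. -/
noncomputable def ringVal (x : X) :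
    (Coh.structureModule X).presheaf.stalk x ≃ₗ[X.presheaf.stalk x] X.presheaf.stalk x :=
  (SDiv28.unitStalkEquiv x).symm

theorem ringVal_germ {U : X.Opens} {x : X} (hx : x ∈ U) (s : Γ(X, U)) :
    ringVal x ((Coh.structureModule X).presheaf.germ U x hx (show Γ(Coh.structureModule X, U) from s)) =
      X.presheaf.germ U x hx s := by
  rw [AssSch12.germ_eq_smul_unitOne]
  exact (SDiv28.unitStalkEquiv x).symm_apply_apply _

/-- `θ` and `g` give the morphism `v ↦ θ(v) g`. -/
noncomputable def evalBilin (F B : X.Modules) : Bilin (RefHull.dual F) B (RefHull.homSh F B) where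
  app U θ g := ⟨fun y => ((ringVal y.1).toLinearMap.comp (θ.1 y)).smulRight (B.presheaf.germ U y.1 y.2 g),
    fun V i m x => by
      obtain ⟨W, hW, j, n, w⟩ := RefHull.isLocSect_of_mem θ V i m x
      refine ⟨W, hW, j, (show Γ(X, W) from n) • B.presheaf.map (homOfLE (j ≫ i).le).op g, fun y => ?_⟩
      rw [LinearMap.smulRight_apply, LinearMap.comp_apply, w y, QCohLoc.germ_smul', TopCat.Presheaf.germ_res_apply]
      exact congrArg (· • _) (ringVal_germ y.2 (show Γ(X, W) from n))⟩
  add_left U θ θ' g := Subtype.ext (funext fun y => LinearMap.ext fun v => by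
    show ringVal y.1 ((θ.1 y + θ'.1 y) v) • B.presheaf.germ U y.1 y.2 g =
      ringVal y.1 (θ.1 y v) • B.presheaf.germ U y.1 y.2 g + ringVal y.1 (θ'.1 y v) • B.presheaf.germ U y.1 y.2 g
    rw [LinearMap.add_apply, map_add, add_smul])
  add_right U θ g g' := Subtype.ext (funext fun y => LinearMap.ext fun v => by
    show ringVal y.1 (θ.1 y v) • B.presheaf.germ U y.1 y.2 (g + g') =
      ringVal y.1 (θ.1 y v) • B.presheaf.germ U y.1 y.2 g + ringVal y.1 (θ.1 y v) • B.presheaf.germ U y.1 y.2 g'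
    rw [map_add, smul_add])
  smul_left U r θ g := Subtype.ext (funext fun y => LinearMap.ext fun v => by
    show ringVal y.1 (X.presheaf.germ U y.1 y.2 r • θ.1 y v) • B.presheaf.germ U y.1 y.2 g =
      X.presheaf.germ U y.1 y.2 r • (ringVal y.1 (θ.1 y v) • B.presheaf.germ U y.1 y.2 g)
    rw [map_smul, smul_eq_mul, mul_smul])
  smul_right U r θ g := Subtype.ext (funext fun y => LinearMap.ext fun v => by
    show ringVal y.1 (θ.1 y v) • B.presheaf.germ U y.1 y.2 (r • g) =
      X.presheaf.germ U y.1 y.2 r • (ringVal y.1 (θ.1 y v) • B.presheaf.germ U y.1 y.2 g)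
    rw [QCohLoc.germ_smul', smul_comm])
  res U V h θ g := Subtype.ext (funext fun y => LinearMap.ext fun v => by
    show ringVal y.1 (θ.1 ⟨y.1, h y.2⟩ v) • B.presheaf.germ U y.1 (h y.2) g =
      ringVal y.1 (θ.1 ⟨y.1, h y.2⟩ v) • B.presheaf.germ V y.1 y.2 (B.presheaf.map (homOfLE h).op g)
    rw [TopCat.Presheaf.germ_res_apply])

/-- A global section of the sheaf Hom is a morphism. -/
theorem exists_hom_of_section {F G : X.Modules} (g : Γ(RefHull.homSh F G, ⊤)) :
    ∃ φ : F ⟶ G, ∀ (x : X) v, RefHull.stalkMapₗ φ x v = g.1 ⟨x, trivial⟩ v := by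
  obtain ⟨φ, hφ⟩ := PrinLib.exists_hom_of_stalks (M := F) (N := G) (fun x => g.1 ⟨x, trivial⟩)
    (fun U s x hx => by
      obtain ⟨W, hW, j, n, w⟩ := RefHull.isLocSect_of_mem g U (homOfLE le_top) s ⟨x, hx⟩
      exact ⟨W, j.le, hW, n, fun y hy => w ⟨y, hy⟩⟩)
  refine ⟨φ, fun x v => ?_⟩
  obtain ⟨U, hU, s, rfl⟩ := F.presheaf.exists_germ_eq v
  rw [RefHull.stalkMapₗ_germ]
  exact hφ U s x hU

/-- Tensoring with a global section. -/
noncomputable def tmulRight (M : X.Modules) {N : X.Modules} (c : Γ(N, ⊤)) : M ⟶ CohB1.tensorMod M N :=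
  ⟨PresheafOfModules.homMk
    { app := fun U => AddCommGrpCat.ofHom (AddMonoidHom.mk'
        (fun m : Γ(M, U.unop) => (tmul m (resM N (le_top : U.unop ≤ ⊤) c) : Γ(CohB1.tensorMod M N, U.unop)))
        fun _ _ => tmul_add_left _ _ _)
      naturality := fun U V i => by
        ext m
        show tmul (resM M i.unop.le m) (resM N (le_top : V.unop ≤ ⊤) c) =
          resM _ i.unop.le (tmul m (resM N (le_top : U.unop ≤ ⊤) c))
        rw [resM_tmul, resM_resM] }
    (fun U r m => tmul_smul_left (show Γ(X, U.unop) from r) (show Γ(M, U.unop) from m) _)⟩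

/-- A form on the locus of a section extends, times a power of the section, to a morphism. -/
theorem exists_hom_twist [IsLocallyNoetherian X] [CompactSpace X] [QuasiSeparatedSpace X]
    {F B : X.Modules} (hF : Coh.IsCoh F) (hB : PicF.IsInvertible B) (b : Γ(B, ⊤))
    (θ : Γ(RefHull.dual F, glocus B b)) :
    ∃ n : ℕ, ∀ k : ℕ, ∃ φ : F ⟶ CohB1.tensorPow B (n + k), ∀ (y : X) (hy : y ∈ glocus B b),
      ∃ γ : (CohB1.tensorPow B (n + k)).presheaf.stalk y,
        Function.Bijective (fun a : X.presheaf.stalk y => a • γ) ∧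
          ∀ v, RefHull.stalkMapₗ φ y v = ringVal y (θ.1 ⟨y, hy⟩ v) • γ := by
  haveI := (RefHullLib.isCoh_dual hF (isCoh_structureModule X)).1
  obtain ⟨n, t, ht⟩ := exists_extend (L := B) (F := RefHull.dual F) (a := b) hB θ
  obtain ⟨φ, hφ⟩ := exists_hom_of_section ((evalBilin F (CohB1.tensorPow B n)).desc.app ⊤ t)
  refine ⟨n, fun k => ?_⟩
  obtain ⟨e, he⟩ := exists_powIso hB n k
  refine ⟨φ ≫ tmulRight _ (powSec b k) ≫ e.hom, fun y hy => ?_⟩
  let g := powSec (resM B (le_top : glocus B b ≤ ⊤) b) n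
  refine ⟨(CohB1.tensorPow B (n + k)).presheaf.germ (glocus B b) y hy (powSec (resM B (le_top : glocus B b ≤ ⊤) b) (n + k)),
    bijective_smul_germ (isGen_powSec (isGen_glocus b) (n + k)) hy, fun v => ?_⟩
  have hv : RefHull.stalkMapₗ φ y v = ringVal y (θ.1 ⟨y, hy⟩ v) • (CohB1.tensorPow B n).presheaf.germ _ y hy g := by
    rw [hφ]
    have h1 := congrArg (fun z => (evalBilin F (CohB1.tensorPow B n)).desc.app (glocus B b) z) ht
    simp only [Bilin.desc_tmul, app_resM] at h1
    exact congrArg (fun z : Γ(RefHull.homSh F (CohB1.tensorPow B n), glocus B b) => z.1 ⟨y, hy⟩ v) h1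
  rw [stalkMap_comp, stalkMap_comp, LinearMap.comp_apply, LinearMap.comp_apply, hv, map_smul, map_smul,
    RefHull.stalkMapₗ_germ, RefHull.stalkMapₗ_germ]
  congr 2
  show e.hom.app _ (tmul g (resM _ (le_top : glocus B b ≤ ⊤) (powSec b k))) = _
  rw [resM_powSec, he]

end Groth.Agent.TFPush7
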