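import Groth.Agent.RelVALib.DirImgFull
import Groth.Agent.Coherent.PullUnit
import Groth.Agent.Coherent.Existence.SysKernel
import Groth.Agent.BlowUpLib.FiniteBirational
import Groth.Agent.TorShLib.Basic
import Groth.Agent.CohExch.IsoCrit
import Groth.Agent.AssSch12.Primary
import Groth.Agent.Surf15.MultCurve
import Groth.Agent.RefHullLib.Restrict
import Groth.Agent.CycLib28.InterPull

/-!
# Modules on the source of a finite birational morphism as modules on the target

For a finite dominant `ν : Y ⟶ X` of integral schemes which is an isomorphism over a nonempty open,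
direct image is fully faithful on torsion-free quasi-coherent modules, and a torsion-free coherent
module on `X` on which the fractions in `ν_* O_Y` act is such a direct image.
-/

set_option autoImplicit false
set_option linter.style.haveILetI false
set_option linter.unusedSectionVars false
set_option backward.isDefEq.respectTransparency.types false
set_option maxHeartbeats 1000000

universe u

open CategoryTheory CategoryTheory.Limits AlgebraicGeometry Opposite TopologicalSpace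
open Groth.Agent.Coherent Groth.Agent.PicLib

namespace Groth.Agent.TFPush7

variable {X Y : Scheme.{u}} (ν : Y ⟶ X)

local notation "adj" => Scheme.Modules.pullbackPushforwardAdjunction ν

/-- The adjoint of a map is determined by the pullback of sections. -/
theorem symm_app_pullSec {M : X.Modules} {E : Y.Modules} (α : M ⟶ (Coh.push ν).obj E) (W : X.Opens)
    (m : Γ(M, W)) : (((adj).homEquiv M E).symm α).app (ν ⁻¹ᵁ W) (pullSec ν m) = α.app W m := by
  conv_rhs => rw [← ((adj).homEquiv M E).apply_symm_apply α, Adjunction.homEquiv_unit]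
  rfl

theorem app_pullSec {M : X.Modules} {E : Y.Modules} (e : (Scheme.Modules.pullback ν).obj M ⟶ E)
    (W : X.Opens) (m : Γ(M, W)) :
    ((adj).homEquiv M E e).app W m = e.app (ν ⁻¹ᵁ W) (pullSec ν m) := by
  rw [Adjunction.homEquiv_unit]
  rfl

variable [IsAffineHom ν]

/-- Induction on the sections of a pullback over the preimage of an affine open. -/
theorem pull_induction {W : X.Opens} (hW : IsAffineOpen W) (M : X.Modules) [Coh.IsQCoh M]
    {P : Γ((Scheme.Modules.pullback ν).obj M, ν ⁻¹ᵁ W) → Prop} (h0 : P 0)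
    (hs : ∀ m : Γ(M, W), P (pullSec ν m)) (hsmul : ∀ (b : Γ(Y, ν ⁻¹ᵁ W)) y, P y → P (b • y))
    (hadd : ∀ y₁ y₂, P y₁ → P y₂ → P (y₁ + y₂)) (y) : P y := by
  let _ := (ν.appLE W (ν ⁻¹ᵁ W) le_rfl).hom.toAlgebra
  let _ := Module.compHom Γ((Scheme.Modules.pullback ν).obj M, ν ⁻¹ᵁ W) (ν.appLE W (ν ⁻¹ᵁ W) le_rfl).hom
  have : IsScalarTower Γ(X, W) Γ(Y, ν ⁻¹ᵁ W) Γ((Scheme.Modules.pullback ν).obj M, ν ⁻¹ᵁ W) :=
    IsScalarTower.of_algebraMap_smul fun _ _ => rfl
  obtain ⟨μ, hμ, hμm⟩ := EGA43.InjFibre.pullMap_isBaseChange ν hW (hW.preimage ν) le_rfl M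
  refine hμ.inductionOn y P h0 (fun m => ?_) hsmul hadd
  rw [hμm, pullMap_eq_resM_pullSec ν hW (hW.preimage ν) le_rfl M m]
  exact (resM_refl _ (pullSec ν m)).symm ▸ hs m

theorem affine_cover (y : Y) : ∃ W : X.Opens, IsAffineOpen W ∧ y ∈ ν ⁻¹ᵁ W :=
  let ⟨W, hW, hyW, _⟩ := exists_isAffineOpen_mem_and_subset (x := ν y) (U := ⊤) trivial
  ⟨W, hW, hyW⟩

/-- A map of direct images on sections, seen upstairs. -/
noncomputable def onPre {E E' : Y.Modules} (α : (Coh.push ν).obj E ⟶ (Coh.push ν).obj E') (W : X.Opens) :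
    Γ(E, ν ⁻¹ᵁ W) →+ Γ(E', ν ⁻¹ᵁ W) := (α.app W).hom

theorem onPre_app {E E' : Y.Modules} (α : (Coh.push ν).obj E ⟶ (Coh.push ν).obj E') (W : X.Opens)
    (r : Γ(X, W)) (x : Γ(E, ν ⁻¹ᵁ W)) : onPre ν α W (ν.app W r • x) = ν.app W r • onPre ν α W x :=
  Scheme.Modules.Hom.app_smul (φ := α) r x

/-- A linear map of direct images on affine sections comes from a morphism. -/
theorem exists_hom_of_push {E E' : Y.Modules} [Coh.IsQCoh E] [Coh.IsQCoh E']
    (α : (Coh.push ν).obj E ⟶ (Coh.push ν).obj E')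
    (hα : ∀ W : X.Opens, IsAffineOpen W → ∀ (b : Γ(Y, ν ⁻¹ᵁ W)) (m : Γ(E, ν ⁻¹ᵁ W)),
      onPre ν α W (b • m) = b • onPre ν α W m) :
    ∃ φ : E ⟶ E', ∀ W : X.Opens, IsAffineOpen W → ∀ m : Γ(E, ν ⁻¹ᵁ W),
      φ.app (ν ⁻¹ᵁ W) m = onPre ν α W m := by
  haveI : Coh.IsQCoh ((Coh.push ν).obj E) := isQCoh_push ν E
  haveI : Coh.IsQCoh ((Scheme.Modules.pullback ν).obj ((Coh.push ν).obj E)) :=
    EGA43.InjFibre.isQCoh_pullback ν _
  let ε := ((adj).homEquiv _ E).symm (𝟙 ((Coh.push ν).obj E))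
  haveI hepi : Epi ε := by
    have he : ε = (adj).counit.app E := by simp [ε, Adjunction.homEquiv_counit]
    rw [he]
    exact RelVALib.epi_counit_of_isAffineHom ν E
  let θ := ((adj).homEquiv _ E').symm α
  have key : ∀ W : X.Opens, IsAffineOpen W → ∀ y,
      θ.app (ν ⁻¹ᵁ W) y = onPre ν α W (ε.app (ν ⁻¹ᵁ W) y) := by
    intro W hW y
    refine pull_induction ν hW _ (P := fun y => θ.app (ν ⁻¹ᵁ W) y = onPre ν α W (ε.app (ν ⁻¹ᵁ W) y))
      ?_ ?_ ?_ ?_ y
    · simp only [map_zero]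
    · exact fun m => (symm_app_pullSec ν α W m).trans
        (congrArg (onPre ν α W) (symm_app_pullSec ν (𝟙 _) W m).symm)
    · intro b y hy
      rw [Scheme.Modules.Hom.app_smul, Scheme.Modules.Hom.app_smul, hy]
      exact (hα W hW b _).symm
    · intro y₁ y₂ h₁ h₂
      rw [map_add, map_add, h₁, h₂, map_add]
  haveI := isQCoh_kernel ε
  have hk : kernel.ι ε ≫ θ = 0 := RelVALib.hom_eq_zero_of_affine_cover _ fun y => by
    obtain ⟨W, hW, hy⟩ := affine_cover ν y
    refine ⟨ν ⁻¹ᵁ W, hy, hW.preimage ν, fun s => ?_⟩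
    refine (key W hW _).trans ?_
    have : ε.app (ν ⁻¹ᵁ W) ((kernel.ι ε).app (ν ⁻¹ᵁ W) s) = 0 :=
      ConcreteCategory.congr_hom (congrArg (fun φ => Scheme.Modules.Hom.app φ (ν ⁻¹ᵁ W)) (kernel.condition ε)) s
    exact (congrArg (onPre ν α W) this).trans (map_zero _)
  refine ⟨Abelian.epiDesc ε θ hk, fun W hW m => ?_⟩
  have hm : ε.app (ν ⁻¹ᵁ W) (pullSec ν m) = m := symm_app_pullSec ν (𝟙 _) W m
  conv_lhs => rw [← hm]
  exact (ConcreteCategory.congr_hom (congrArg (fun φ => Scheme.Modules.Hom.app φ (ν ⁻¹ᵁ W))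
    (Abelian.comp_epiDesc ε θ hk)) (pullSec ν m)).trans (symm_app_pullSec ν α W m)

section Birational

variable [IsIntegral X] [IsIntegral Y] [IsDominant ν] (U : X.Opens) [IsIso (ν ∣_ U)]
  (hU : genericPoint X ∈ U)

include hU in
/-- Functions upstairs are fractions of functions downstairs. -/
theorem exists_frac {W : X.Opens} (hW : IsAffineOpen W) (hWne : genericPoint X ∈ W)
    (b : Γ(Y, ν ⁻¹ᵁ W)) : ∃ a a' : Γ(X, W), a ≠ 0 ∧ ν.app W a * b = ν.app W a' := by
  obtain ⟨s, hsU, hs⟩ := hW.exists_basicOpen_le (⟨genericPoint X, hU⟩ : U) hWne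
  haveI := BlowUpLib.isIso_app_of_le ν U hsU
  obtain ⟨c, hc⟩ := (ConcreteCategory.bijective_of_isIso (ν.app (X.basicOpen s))).2
    (Y.presheaf.map (homOfLE (ν.preimage_mono (X.basicOpen_le s))).op b)
  haveI := hW.isLocalization_basicOpen s
  obtain ⟨⟨a', a, k, rfl⟩, ha⟩ := IsLocalization.surj (Submonoid.powers s) c
  refine ⟨s ^ k, a', fun h0 => ?_, ?_⟩
  · have hg := (X.mem_basicOpen s _ hWne).1 hs
    have := hg.pow k
    rw [← map_pow, h0, map_zero] at this
    exact not_isUnit_zero this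
  · have hne : genericPoint Y ∈ ν ⁻¹ᵁ X.basicOpen s := by
      rw [Scheme.Hom.mem_preimage, TorShLib.map_genericPoint ν]; exact hs
    haveI : Nonempty (ν ⁻¹ᵁ X.basicOpen s : Y.Opens) := ⟨⟨_, hne⟩⟩
    refine map_injective_of_isIntegral Y (homOfLE (ν.preimage_mono (X.basicOpen_le s))) ?_
    have hn : ∀ r : Γ(X, W), Y.presheaf.map (homOfLE (ν.preimage_mono (X.basicOpen_le s))).op (ν.app W r) =
        ν.app (X.basicOpen s) (algebraMap Γ(X, W) Γ(X, X.basicOpen s) r) := fun r =>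
      (ConcreteCategory.congr_hom (ν.naturality (homOfLE (X.basicOpen_le s)).op) r).symm
    rw [map_mul, hn, hn, ← hc, ← map_mul, mul_comm]
    exact congrArg _ ha

include hU in
/-- An isomorphism of direct images comes from an isomorphism. -/
theorem nonempty_iso_of_push {E E' : Y.Modules} [Coh.IsQCoh E] [Coh.IsQCoh E']
    (hE' : TorSh.IsTorsionFree E') (α : (Coh.push ν).obj E ≅ (Coh.push ν).obj E') :
    Nonempty (E ≅ E') := by
  obtain ⟨φ, hφ⟩ := exists_hom_of_push ν α.hom fun W hW b m => by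
    by_cases hne : genericPoint X ∈ W
    · obtain ⟨a, a', ha, hab⟩ := exists_frac ν U hU hW hne b
      have hne' : genericPoint Y ∈ ν ⁻¹ᵁ W := by
        rw [Scheme.Hom.mem_preimage, TorShLib.map_genericPoint ν]; exact hne
      refine sub_eq_zero.1 (TorShLib.eq_zero_of_smul hE' (ν.app W a) _
        (TorShLib.app_ne_zero ν a hne' ha) ?_)
      rw [smul_sub, ← onPre_app, smul_smul, smul_smul, hab, onPre_app, sub_self]
    · have hempty : (ν ⁻¹ᵁ W : Y.Opens) = ⊥ := by
        refine Opens.ext (Set.eq_empty_iff_forall_notMem.2 fun y hy => hne ?_)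
        exact TorShLib.genericPoint_mem hy
      exact TorShLib.sec_ext E' (V := ν ⁻¹ᵁ W) _ (fun y hy => absurd (hempty ▸ hy) (by simp)) |>.trans
        (TorShLib.sec_ext E' (V := ν ⁻¹ᵁ W) _ (fun y hy => absurd (hempty ▸ hy) (by simp))).symm
  haveI : IsIso φ := CohExch.isIso_of_bijective_affine_cover φ fun y => by
    obtain ⟨W, hW, hy⟩ := affine_cover ν y
    refine ⟨ν ⁻¹ᵁ W, hW.preimage ν, hy, ?_⟩
    rw [funext (hφ W hW)]
    exact ConcreteCategory.bijective_of_isIso (α.hom.app W)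
  exact ⟨asIso φ⟩

end Birational

theorem isTorsionFree_restrict {Z : Scheme.{u}} (f : Z ⟶ X) [IsOpenImmersion f] [IsIntegral X]
    [IsIntegral Z] {F : X.Modules} (hF : TorSh.IsTorsionFree F) : TorSh.IsTorsionFree (F.restrict f) := by
  intro z
  obtain ⟨φ, e, he, -, -⟩ := RefHullLib.exists_semilinear_restrict f F z
  haveI := hF (f z)
  refine Module.IsTorsionFree.of_smul_eq_zero fun r v h => ?_
  obtain ⟨a, rfl⟩ := φ.surjective r
  obtain ⟨w, rfl⟩ := e.surjective v
  rw [← he] at h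
  rcases smul_eq_zero.1 (e.injective (h.trans (map_zero e).symm)) with h | h
  · exact Or.inl (by rw [h, map_zero])
  · exact Or.inr (by rw [h, map_zero])

section Exists

variable [IsIntegral X] [IsIntegral Y] [IsDominant ν] (U : X.Opens) [IsIso (ν ∣_ U)]
  (hU : genericPoint X ∈ U)

/-- The open immersion of the good locus into the target. -/
noncomputable abbrev good : (ν ⁻¹ᵁ U).toScheme ⟶ X := (ν ⁻¹ᵁ U).ι ≫ ν

theorem isOpenImmersion_good : IsOpenImmersion (good ν U) := by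
  rw [good, ← morphismRestrict_ι]
  infer_instance

include hU in
theorem genericPoint_mem_good : genericPoint Y ∈ ν ⁻¹ᵁ U := by
  rw [Scheme.Hom.mem_preimage, TorShLib.map_genericPoint ν]
  exact hU

/-- The restriction of the pullback to the good locus is the restriction. -/
noncomputable def goodIso [IsOpenImmersion (good ν U)] (F : X.Modules) :
    ((Scheme.Modules.pullback ν).obj F).restrict (ν ⁻¹ᵁ U).ι ≅ F.restrict (good ν U) :=
  (Scheme.Modules.restrictFunctorIsoPullback (ν ⁻¹ᵁ U).ι).app _ ≪≫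
    (Scheme.Modules.pullbackComp (ν ⁻¹ᵁ U).ι ν).app F ≪≫
      ((Scheme.Modules.restrictFunctorIsoPullback (good ν U)).app F).symm

theorem goodIso_app [IsOpenImmersion (good ν U)] (F : X.Modules) (W : X.Opens) (m : Γ(F, W)) :
    (goodIso ν U F).hom.app ((ν ⁻¹ᵁ U).ι ⁻¹ᵁ (ν ⁻¹ᵁ W))
        (resM _ ((ν ⁻¹ᵁ U).ι.image_preimage_le (ν ⁻¹ᵁ W)) (pullSec ν m)) =
      resM F ((good ν U).image_preimage_le W) m := by
  have h1 := restrictIso_hom_app (ν ⁻¹ᵁ U).ι ((Scheme.Modules.pullback ν).obj F) (ν ⁻¹ᵁ W) (pullSec ν m)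
  have h2 := pullbackComp_inv_app_pullSec (ν ⁻¹ᵁ U).ι ν F W m
  have h3 : ((Scheme.Modules.pullbackComp (ν ⁻¹ᵁ U).ι ν).hom.app F).app
      ((ν ⁻¹ᵁ U).ι ⁻¹ᵁ (ν ⁻¹ᵁ W)) (pullSec (ν ⁻¹ᵁ U).ι (pullSec ν m)) = pullSec (good ν U) m := by
    rw [← h2]
    exact congr(($((Scheme.Modules.pullbackComp (ν ⁻¹ᵁ U).ι ν).inv_hom_id_app F)).app _ _)
  have h4 : ((Scheme.Modules.restrictFunctorIsoPullback (good ν U)).inv.app F).app
      ((good ν U) ⁻¹ᵁ W) (pullSec (good ν U) m) = resM F ((good ν U).image_preimage_le W) m := by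
    rw [← restrictIso_hom_app (good ν U) F W m]
    exact congr(($((Scheme.Modules.restrictFunctorIsoPullback (good ν U)).hom_inv_id_app F)).app _ _)
  refine Eq.trans ?_ h4
  exact congrArg (fun t => ((Scheme.Modules.restrictFunctorIsoPullback (good ν U)).inv.app F).app
      ((good ν U) ⁻¹ᵁ W) t)
    ((congrArg (fun t => ((Scheme.Modules.pullbackComp (ν ⁻¹ᵁ U).ι ν).hom.app F).app
      ((ν ⁻¹ᵁ U).ι ⁻¹ᵁ (ν ⁻¹ᵁ W)) t) h1).trans h3)

omit [IsAffineHom ν] in
/-- A coherent torsion-free module on which fractions act is a direct image. -/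
theorem exists_push_iso [IsLocallyNoetherian X] [IsFinite ν] (hgp : genericPoint X ∈ U)
    {F : X.Modules} (hF : Coh.IsCoh F) (hFtf : TorSh.IsTorsionFree F)
    (hdiv : ∀ W : X.Opens, IsAffineOpen W → ∀ (b : Γ(Y, ν ⁻¹ᵁ W)) (a a' : Γ(X, W)), a ≠ 0 →
      ν.app W a * b = ν.app W a' → ∀ m : Γ(F, W), ∃ m' : Γ(F, W), a • m' = a' • m) :
    ∃ (E : Y.Modules) (_ : IsOpenImmersion (good ν U)), Coh.IsCoh E ∧ TorSh.IsTorsionFree E ∧
      Nonempty ((Coh.push ν).obj E ≅ F) ∧
        Nonempty (E.restrict (ν ⁻¹ᵁ U).ι ≅ F.restrict (good ν U)) := by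
  haveI := isOpenImmersion_good ν U
  haveI : IsLocallyNoetherian Y := LocallyOfFiniteType.isLocallyNoetherian ν
  haveI := hF.1
  let V := ν ⁻¹ᵁ U
  let G := (Scheme.Modules.pullback ν).obj F
  haveI : Coh.IsQCoh G := EGA43.InjFibre.isQCoh_pullback ν F
  let ad := Scheme.Modules.restrictAdjunction V.ι
  haveI : Coh.IsQCoh ((Scheme.Modules.pushforward V.ι).obj (G.restrict V.ι)) := isQCoh_push V.ι _
  let η : G ⟶ (Scheme.Modules.pushforward V.ι).obj (G.restrict V.ι) := ad.unit.app G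
  let E := Abelian.image η
  haveI : Coh.IsQCoh E := isQCoh_image η
  let e : G ⟶ E := Abelian.factorThruImage η
  have hηV := genericPoint_mem_good ν U hgp
  haveI : Nonempty (V.toScheme : Scheme.{u}) := ⟨⟨_, hηV⟩⟩
  haveI : IsDominant V.ι := ⟨by
    rw [DenseRange, Scheme.Opens.range_ι]
    exact V.isOpen.dense ⟨_, hηV⟩⟩
  haveI : IsIntegral V.toScheme := isIntegral_of_isOpenImmersion V.ι
  have hGtf : TorSh.IsTorsionFree (G.restrict V.ι) :=
    Surf15.isTorsionFree_of_mono (goodIso ν U F).hom (isTorsionFree_restrict (good ν U) hFtf)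
  have hEtf : TorSh.IsTorsionFree E := Surf15.isTorsionFree_of_mono (Abelian.image.ι η)
    (TorShLib.isTorsionFree_pushforward V.ι hGtf)
  have hEc : Coh.IsCoh E := AssSch12.isCoh_of_epi G e inferInstance
    (Coherent.locallyFinGen_of_isFT _ (CycLib28.InterSheaf.isCoh_pullback ν hF).2)
  let u : F ⟶ (Coh.push ν).obj E := (adj).homEquiv F E e
  haveI : Coh.IsQCoh ((Coh.push ν).obj E) := isQCoh_push ν E
  haveI : IsIso u := CohExch.isIso_of_bijective_affine_cover u fun x => by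
    obtain ⟨W, hW, hxW, -⟩ := exists_isAffineOpen_mem_and_subset (x := x) (U := ⊤) trivial
    refine ⟨W, hW, hxW, (injective_iff_map_eq_zero (u.app W).hom).2 fun m hm => ?_, fun z => ?_⟩
    · have hm' : e.app (ν ⁻¹ᵁ W) (pullSec ν m) = 0 := (app_pullSec ν e W m).symm.trans hm
      have hη : η.app (ν ⁻¹ᵁ W) (pullSec ν m) = 0 := by
        rw [show η = e ≫ Abelian.image.ι η from (Abelian.image.fac η).symm]
        exact (congrArg ((Abelian.image.ι η).app (ν ⁻¹ᵁ W)) hm').trans (map_zero _)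
      have hr : resM F ((good ν U).image_preimage_le W) m = 0 := by
        rw [← goodIso_app ν U F W m]
        exact (congrArg ((goodIso ν U F).hom.app _) hη).trans (map_zero _)
      have hxg : genericPoint X ∈ (good ν U) ''ᵁ ((good ν U) ⁻¹ᵁ W) :=
        ⟨⟨genericPoint Y, hηV⟩, show ν (genericPoint Y) ∈ W by
          rw [TorShLib.map_genericPoint ν]; exact TorShLib.genericPoint_mem hxW,
          TorShLib.map_genericPoint ν⟩
      have hgerm : F.presheaf.germ W _ (TorShLib.genericPoint_mem hxW) m = 0 := by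
        rw [← TopCat.Presheaf.germ_res_apply F.presheaf
          (homOfLE ((good ν U).image_preimage_le W)) _ hxg m]
        exact (congrArg _ hr).trans (map_zero _)
      obtain ⟨g, hg, hgm⟩ := QCohLoc.exists_smul_eq_zero_of_germ F hW _ m hgerm
      refine TorShLib.eq_zero_of_smul hFtf g m (fun h0 => ?_) hgm
      subst h0
      simp at hg
    · obtain ⟨y, rfl⟩ := Coherent.Existence.app_surjective_of_epi e (hW.preimage ν) z
      let uP : Γ(F, W) →+ Γ(E, ν ⁻¹ᵁ W) := (u.app W).hom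
      show ∃ m, uP m = e.app (ν ⁻¹ᵁ W) y
      have h1 : ∀ (r : Γ(X, W)) (t : Γ(F, W)), uP (r • t) = ν.app W r • uP t :=
        fun r t => Scheme.Modules.Hom.app_smul (φ := u) r t
      refine pull_induction ν hW F (P := fun y => ∃ m, uP m = e.app (ν ⁻¹ᵁ W) y)
        ?_ ?_ ?_ ?_ y
      · exact ⟨0, by rw [map_zero, map_zero]⟩
      · exact fun m => ⟨m, app_pullSec ν e W m⟩
      · rintro b y₀ ⟨m, hm⟩
        obtain ⟨a, a', ha, hab⟩ := exists_frac ν U hgp hW (TorShLib.genericPoint_mem hxW) b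
        obtain ⟨m', hm'⟩ := hdiv W hW b a a' ha hab m
        refine ⟨m', sub_eq_zero.1 (TorShLib.eq_zero_of_smul hEtf (ν.app W a) _
          (TorShLib.app_ne_zero ν a (x := genericPoint Y) (by
            rw [Scheme.Hom.mem_preimage, TorShLib.map_genericPoint ν]
            exact TorShLib.genericPoint_mem hxW) ha) ?_)⟩
        rw [Scheme.Modules.Hom.app_smul, ← hm, smul_sub, ← h1, hm', h1, smul_smul, hab, sub_self]
      · rintro y₁ y₂ ⟨m₁, h₁⟩ ⟨m₂, h₂⟩
        exact ⟨m₁ + m₂, by rw [map_add, map_add, h₁, h₂]⟩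
  haveI : IsIso ((Scheme.Modules.restrictFunctor V.ι).map η) := by
    have h := ad.left_triangle_components G
    exact IsIso.of_isIso_fac_right h
  haveI : IsIso ((Scheme.Modules.restrictFunctor V.ι).map e) := by
    haveI : (Scheme.Modules.restrictFunctor V.ι).IsLeftAdjoint := ad.isLeftAdjoint
    haveI : Mono ((Scheme.Modules.restrictFunctor V.ι).map e ≫
        (Scheme.Modules.restrictFunctor V.ι).map (Abelian.image.ι η)) := by
      rw [← Functor.map_comp, Abelian.image.fac η]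
      infer_instance
    haveI : Mono ((Scheme.Modules.restrictFunctor V.ι).map e) :=
      mono_of_mono _ ((Scheme.Modules.restrictFunctor V.ι).map (Abelian.image.ι η))
    exact isIso_of_mono_of_epi _
  exact ⟨E, inferInstance, hEc, hEtf, ⟨(asIso u).symm⟩,
    ⟨(asIso ((Scheme.Modules.restrictFunctor V.ι).map e)).symm ≪≫ goodIso ν U F⟩⟩

end Exists

end Groth.Agent.TFPush7
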