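import Groth.Agent.CurveRR24.Dual
import Groth.Agent.SerreDual.HomLinear
import Groth.Agent.Surf15.HomShIso
import Groth.Agent.Coherent.InternalHomAdj
import Groth.Agent.RefHullLib.Coh
import Groth.Agent.RefHullLib.Reflexive
import Groth.Agent.Coherent.Serre.Vanishing
import Groth.Agent.SplitP1.Split
import Groth.Agent.TFNodal7.Main
import Groth.Agent.TFPush7.StalkSub
import Groth.Prelude.Def_TorSh

/-!
# Duality into the dualizing module for torsion-free modules on an integral proper curve
-/

set_option autoImplicit false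
set_option linter.style.haveILetI false
set_option backward.isDefEq.respectTransparency false
set_option backward.isDefEq.respectTransparency.types false
set_option maxHeartbeats 1000000

universe u

open CategoryTheory CategoryTheory.Limits AlgebraicGeometry Opposite TopologicalSpace
open Groth.Agent.Coherent Groth.Agent.PicLib Groth.Agent.AmpleLib Groth.Agent.EulerLib Groth.Agent.CurveRR24

namespace Groth.Agent.TFPush7

section Map

variable {X : Scheme.{u}} (F ω : X.Modules)

/-- Evaluation at an element of the stalk. -/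
noncomputable def bidualAt (x : X) :
    F.presheaf.stalk x →ₗ[X.presheaf.stalk x] RefHull.StalkHom (RefHull.homSh F ω) ω x where
  toFun v := (LinearMap.applyₗ v).comp (RefHull.evalStalk F ω x)
  map_add' v w := LinearMap.ext fun θ => map_add (RefHull.evalStalk F ω x θ) v w
  map_smul' a v := LinearMap.ext fun θ => map_smul (RefHull.evalStalk F ω x θ) a v

theorem bidualAt_apply (x : X) (v : F.presheaf.stalk x) (θ : (RefHull.homSh F ω).presheaf.stalk x) :
    bidualAt F ω x v θ = RefHull.evalStalk F ω x θ v := rfl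

/-- Evaluation on sections. -/
noncomputable def bidualFun (U : X.Opens) : Γ(F, U) →+ Γ(RefHull.homSh (RefHull.homSh F ω) ω, U) where
  toFun s := ⟨fun x => bidualAt F ω x.1 (F.presheaf.germ U x.1 x.2 s), fun V i g x => by
    obtain ⟨W, hW, j, n, w⟩ := RefHull.isLocSect_of_mem g V (𝟙 V) (F.presheaf.map i.op s) x
    refine ⟨W, hW, j, n, fun y => ?_⟩
    have e := w y
    rw [TopCat.Presheaf.germ_res_apply] at e
    rw [bidualAt_apply, RefHull.evalStalk_germ]
    exact e⟩
  map_zero' := Subtype.ext <| funext fun x => by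
    simp only [map_zero]
    rfl
  map_add' s t := Subtype.ext <| funext fun x => by
    simp only [map_add]
    rfl

/-- The canonical map into the double dual. -/
noncomputable def toBidual : F ⟶ RefHull.homSh (RefHull.homSh F ω) ω :=
  ⟨PresheafOfModules.homMk
    { app := fun U => AddCommGrpCat.ofHom (bidualFun F ω U.unop)
      naturality := fun {U V} i => by
        ext s
        refine Subtype.ext (funext fun x => ?_)
        change bidualAt F ω x.1 _ = bidualAt F ω x.1 _
        exact congrArg _ (TopCat.Presheaf.germ_res_apply' F.presheaf i x.1 x.2 s) }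
    (fun U r s => Subtype.ext <| funext fun x =>
      (congrArg (bidualAt F ω x.1) (Mero.germ_smul F U.unop x.1 x.2 r s)).trans
        (map_smul (bidualAt F ω x.1) _ _))⟩

theorem evalStalk_toBidual (x : X) (v : F.presheaf.stalk x) :
    RefHull.evalStalk (RefHull.homSh F ω) ω x (RefHull.stalkMapₗ (toBidual F ω) x v) = bidualAt F ω x v := by
  obtain ⟨U, hxU, s, rfl⟩ := F.presheaf.exists_germ_eq v
  rw [RefHull.stalkMapₗ_germ]
  exact (RefHull.evalStalk_germ _ _ x hxU _).trans rfl

end Map

/-- Torsion-free finite modules over a domain have enough functionals. -/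
theorem exists_functional {A M : Type u} [CommRing A] [IsDomain A] [IsNoetherianRing A] [AddCommGroup M]
    [Module A M] [Module.Finite A M] [Module.IsTorsionFree A M] {v : M} (hv : v ≠ 0) :
    ∃ φ : M →ₗ[A] A, φ v ≠ 0 := by
  let S := nonZeroDivisors A
  let K := FractionRing A
  let V := LocalizedModule S M
  have hv' : LocalizedModule.mk v (1 : S) ≠ 0 := fun h => by
    rw [← LocalizedModule.zero_mk (1 : S), LocalizedModule.mk_eq] at h
    obtain ⟨u, hu⟩ := h
    simp only [one_smul, smul_zero] at hu
    exact hv ((smul_eq_zero.1 hu).resolve_left (nonZeroDivisors.coe_ne_zero u))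
  obtain ⟨ψ, hψ⟩ := Module.Projective.exists_dual_ne_zero K (V := V) hv'
  have : Module.FinitePresentation A M := Module.finitePresentation_of_finite A M
  obtain ⟨h, s, hs⟩ := Module.FinitePresentation.exists_lift_of_isLocalizedModule S (Algebra.linearMap A K)
    ((ψ.restrictScalars A) ∘ₗ LocalizedModule.mkLinearMap S M)
  refine ⟨h, fun h0 => hψ ?_⟩
  have h1 := LinearMap.congr_fun hs v
  rw [LinearMap.comp_apply, h0, map_zero, LinearMap.smul_apply, LinearMap.comp_apply, Submonoid.smul_def,
    Algebra.smul_def, eq_comm, mul_eq_zero] at h1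
  exact h1.resolve_left fun h2 => nonZeroDivisors.coe_ne_zero s (IsFractionRing.injective A K (h2.trans (map_zero _).symm))

variable {k : Type u} [Field k] {X : Scheme.{u}} [X.Over (Spec (CommRingCat.of k))]
  [IsProper (X ↘ Spec (CommRingCat.of k))]

/-- Sections of a twist of the dual are the maps out of the twist. -/
theorem h0_homSh_tensor {ω : X.Modules} {t : Coh.HH X ω 1 →ₗ[k] k}
    (hrep : ∀ F : X.Modules, Coh.IsQCoh F → SerreDual.Rep t F) {F N N' : X.Modules} (hF : Coh.IsCoh F)
    (hN : PicF.IsInvertible N) (hN' : PicF.IsInvertible N') (e : CohB1.tensorMod N' N ≅ Coh.structureModule X) :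
    Module.Finite k (Coh.HH X (CohB1.tensorMod (RefHull.homSh F ω) N) 0) ∧
      Module.finrank k (Coh.HH X (CohB1.tensorMod (RefHull.homSh F ω) N) 0) =
        Module.finrank k (Coh.HH X (CohB1.tensorMod F N') 1) := by
  haveI := isLocallyNoetherian_of_proper k (X := X)
  obtain ⟨eH⟩ := Surf15.nonempty_homSh_iso F ω
  obtain ⟨hfin, hrk⟩ := SerreDual.finrank_hom_eq_h1 hrep (F := CohB1.tensorMod F N') (isCoh_twist hN' hF)
  let ev : CohB1.tensorMod F (internalHom F ω) ⟶ ω := (Coherent.evalBilin F ω).desc
  let L : (N' ⟶ internalHom F ω) →ₗ[k] (CohB1.tensorMod F N' ⟶ ω) :=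
    Linear.rightComp k _ ev ∘ₗ Linear.rightComp k _ (tensorComm (internalHom F ω) F).hom ∘ₗ
      Linear.leftComp k _ (tensorComm F N').hom ∘ₗ SerreDual.tensorRightHom k N' (internalHom F ω) F
  have hL : ∀ ψ, L ψ = (tensorHomEquiv F N' ω).symm ψ := fun ψ => AmpleLib.hom_ext fun U a b => by
    show ev.app U ((tensorComm (internalHom F ω) F).hom.app U
      ((tensorMap ψ (𝟙 F)).app U ((tensorComm F N').hom.app U (tmul a b)))) = _
    rw [show (tensorComm F N').hom.app U (tmul a b) = tmul b a from Bilin.desc_tmul _ _ _ _, tensorMap_tmul]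
    refine (congrArg (ev.app U) (Bilin.desc_tmul _ _ _ _)).trans ?_
    refine (Bilin.desc_tmul _ _ _ _).trans ?_
    refine Eq.trans ?_ (Bilin.desc_tmul _ U a b).symm
    rfl
  have hbij : Function.Bijective L := by
    rw [funext hL]
    exact (tensorHomEquiv F N' ω).symm.bijective
  let eL := (Linear.homCongr k (Iso.refl N') eH).trans (LinearEquiv.ofBijective L hbij)
  haveI := hfin
  haveI : Module.Finite k (N' ⟶ RefHull.homSh F ω) := Module.Finite.equiv eL.symm
  obtain ⟨h1, h2⟩ := SerreDual.finrank_hom_eq k (RefHull.homSh F ω) hN' hN e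
  exact ⟨h1, h2.trans (eL.finrank_eq.trans hrk)⟩

/-- The Euler characteristic is affine in a twist. -/
theorem euler_twist_affine (hdim : topologicalKrullDim X ≤ 1) {G M N : X.Modules} (hG : Coh.IsCoh G)
    (hM : PicF.IsInvertible M) (hN : PicF.IsInvertible N) :
    Curv2.euler k X (CohB1.tensorMod G (CohB1.tensorMod M N)) + Curv2.euler k X G =
      Curv2.euler k X (CohB1.tensorMod G M) + Curv2.euler k X (CohB1.tensorMod G N) := by
  have hlt : topologicalKrullDim (CohB1.support G) < (2 : ℕ) :=
    lt_of_le_of_lt ((Topology.IsInducing.subtypeVal.topologicalKrullDim_le).trans hdim)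
      (by exact_mod_cast Nat.lt_succ_self 1)
  have h := degLT_chiTwist k 2 G hG hlt ⟨M, hM⟩ ⟨N, hN⟩
  have h0 := congrFun (show diff (⟨N, hN⟩ : EulerLib.Inv X) (diff ⟨M, hM⟩ (chiTwist k G)) = 0 from h)
    ⟨Coh.structureModule X, isInvertible_structureModule⟩
  simp only [diff, chiTwist, Pi.zero_apply, EulerLib.Inv.mul] at h0
  rw [euler_congr k X (AmpleLib.tensorIso (Iso.refl G) (AmpleLib.tensorIso (Iso.refl M) (tensorComm N _ ≪≫ unitTensorIso N))),
    euler_congr k X (AmpleLib.tensorIso (Iso.refl G) (tensorComm N (Coh.structureModule X) ≪≫ unitTensorIso N)),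
    euler_congr k X (AmpleLib.tensorIso (Iso.refl G) (tensorComm M (Coh.structureModule X) ≪≫ unitTensorIso M)),
    euler_congr k X (tensorComm G (Coh.structureModule X) ≪≫ unitTensorIso G)] at h0
  linarith

theorem euler_twist_pow (hdim : topologicalKrullDim X ≤ 1) {G L : X.Modules} (hG : Coh.IsCoh G)
    (hL : PicF.IsInvertible L) : ∀ m : ℕ, Curv2.euler k X (CohB1.tensorMod G (CohB1.tensorPow L m)) =
      Curv2.euler k X G + m * (Curv2.euler k X (CohB1.tensorMod G L) - Curv2.euler k X G)
  | 0 => by
    rw [Nat.cast_zero, zero_mul, add_zero]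
    exact euler_congr k X (tensorComm G (Coh.structureModule X) ≪≫ unitTensorIso G)
  | m + 1 => by
    have h := euler_twist_affine (k := k) hdim hG (isInvertible_tensorPow hL m) hL
    have ih := euler_twist_pow hdim hG hL m
    show Curv2.euler k X (CohB1.tensorMod G (CohB1.tensorMod (CohB1.tensorPow L m) L)) = _
    push_cast
    linarith

variable [IsIntegral X] {ω : X.Modules} {t : Coh.HH X ω 1 →ₗ[k] k}
  (hrep : ∀ F : X.Modules, Coh.IsQCoh F → SerreDual.Rep t F) (hdim : topologicalKrullDim X = 1)
  (hω : Coh.IsQCoh ω)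

include hrep hdim hω

theorem isTorsionFree_omega : TorSh.IsTorsionFree ω := fun x => by
  rcases CurvesLib24.eq_genericPoint_or_isClosed hdim.le x with rfl | hx
  · let _ : Field (X.presheaf.stalk (genericPoint X)) := inferInstanceAs (Field X.functionField)
    exact ⟨fun r hr a b h => smul_right_injective _ hr.ne_zero h⟩
  · exact ⟨fun r hr a b h => sub_eq_zero.1 (stalk_torsionFree hrep hdim hω hx r hr.ne_zero _
      ((smul_sub r a b).trans (sub_eq_zero.2 h)))⟩

theorem exists_generic_bijective : ∃ (M : X.Modules) (j : M ⟶ ω), PicF.IsInvertible M ∧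
    Function.Bijective (RefHull.stalkMapₗ j (genericPoint X)) := by
  obtain ⟨M, j, O, hM, hO, hb⟩ := exists_invertible_to_dualizing hrep hdim hω
  refine ⟨M, j, hM, (injective_iff_map_eq_zero _).2 fun v hv => ?_, fun w => ?_⟩
  · obtain ⟨V, hV, s, rfl⟩ := M.presheaf.exists_germ_eq v
    rw [← TopCat.Presheaf.germ_res_apply M.presheaf (homOfLE (inf_le_left : V ⊓ O ≤ V)) _ ⟨hV, hO⟩ s] at hv ⊢
    rw [RefHull.stalkMapₗ_germ] at hv
    obtain ⟨W, hW, i, i', e⟩ := TopCat.Presheaf.germ_eq ω.presheaf (U := V ⊓ O) (V := V ⊓ O) (genericPoint X) ⟨hV, hO⟩ ⟨hV, hO⟩ _ (0 : Γ(ω, V ⊓ O))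
      (hv.trans (map_zero _).symm)
    have h0 : j.app W (resM M i.le (resM M inf_le_left s)) = 0 := by
      rw [app_resM]
      exact e.trans (map_zero _)
    have h1 := (hb W (i.le.trans inf_le_right)).1 (h0.trans (map_zero (j.app W).hom).symm)
    refine (TopCat.Presheaf.germ_res_apply M.presheaf i (genericPoint X) hW _).symm.trans ?_
    exact (congrArg (M.presheaf.germ W (genericPoint X) hW) h1).trans (map_zero _)
  · obtain ⟨V, hV, s, rfl⟩ := ω.presheaf.exists_germ_eq w
    obtain ⟨a, ha⟩ := (hb (V ⊓ O) inf_le_right).2 (resM ω inf_le_left s)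
    refine ⟨M.presheaf.germ (V ⊓ O) _ ⟨hV, hO⟩ a, ?_⟩
    rw [RefHull.stalkMapₗ_germ, ha]
    exact TopCat.Presheaf.germ_res_apply ω.presheaf (homOfLE inf_le_left) _ ⟨hV, hO⟩ s

theorem finrank_generic :
    Module.finrank (X.presheaf.stalk (genericPoint X)) (ω.presheaf.stalk (genericPoint X)) = 1 := by
  obtain ⟨M, j, hM, hb⟩ := exists_generic_bijective hrep hdim hω
  obtain ⟨b⟩ := SplitP1.nonempty_basis_stalk (isFinLocFreeOfRank_one hM) (genericPoint X)
  exact (Module.finrank_eq_card_basis (b.map (LinearEquiv.ofBijective _ hb))).trans (Fintype.card_fin 1)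

theorem nontrivial_stalk (x : X) : Nontrivial (ω.presheaf.stalk x) := by
  have hωc := SerreDual.isCoh_dualizing hrep hdim hω
  have hcl := isClosed_support ω (locallyFinGen_of_isFT _ hωc.2)
  have hη : genericPoint X ∈ CohB1.support ω := fun h => by
    let _ : Field (X.presheaf.stalk (genericPoint X)) := inferInstanceAs (Field X.functionField)
    haveI : Subsingleton (ω.presheaf.stalk (genericPoint X)) := h
    exact one_ne_zero ((finrank_generic hrep hdim hω).symm.trans Module.finrank_zero_of_subsingleton)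
  have hx : x ∈ CohB1.support ω := hcl.closure_subset_iff.2 (Set.singleton_subset_iff.2 hη)
    ((genericPoint_spec X).symm.subset trivial)
  exact not_subsingleton_iff_nontrivial.1 hx

theorem mono_toBidual {F : X.Modules} (hF : Coh.IsCoh F) (hFt : TorSh.IsTorsionFree F) :
    Mono (toBidual F ω) := by
  haveI := isNoetherian_of_proper k (X := X)
  refine OmegaLib.mono_of_stalks_injective _ fun x => (injective_iff_map_eq_zero _).2 fun v hv => ?_
  by_contra hne
  haveI : Module.Finite (X.presheaf.stalk x) (F.presheaf.stalk x) := finite_stalk_of_isFT hF.1 hF.2 x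
  haveI := hFt x
  obtain ⟨φ, hφ⟩ := exists_functional (A := X.presheaf.stalk x) (M := F.presheaf.stalk x) hne
  haveI := nontrivial_stalk hrep hdim hω x
  haveI := isTorsionFree_omega hrep hdim hω x
  obtain ⟨w, hw⟩ := exists_ne (0 : ω.presheaf.stalk x)
  obtain ⟨θ, hθ⟩ := (RefHullLib.evalStalk_bijective_of_isCoh (G := ω) hF x).2 (φ.smulRight w)
  have h := evalStalk_toBidual F ω x v
  have h' := LinearMap.congr_fun h θ
  erw [hv, map_zero, LinearMap.zero_apply, bidualAt_apply, hθ, LinearMap.smulRight_apply, eq_comm] at h'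
  exact hw ((smul_eq_zero.1 h').resolve_left hφ)

/-- The Euler characteristic changes sign under duality. -/
theorem euler_homSh {F : X.Modules} (hF : Coh.IsCoh F) (hFt : TorSh.IsTorsionFree F) :
    Curv2.euler k X (RefHull.homSh F ω) = - Curv2.euler k X F := by
  haveI := isNoetherian_of_proper k (X := X)
  have hωc := SerreDual.isCoh_dualizing hrep hdim hω
  have hH := RefHullLib.isCoh_homSh hF hωc
  obtain ⟨L, hL, hA, -⟩ := SerreDual.exists_ample_curve k hdim (X := X)
  obtain ⟨n₀, hn₀⟩ := Serre.exists_subsingleton_HH_twist k hA (RefHull.homSh F ω) hH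
  haveI := mono_toBidual hrep hdim hω hF hFt
  have key : ∀ m : ℕ, n₀ ≤ m → Curv2.euler k X (CohB1.tensorMod (RefHull.homSh F ω) (CohB1.tensorPow L m)) =
      Curv2.euler k X (CohB1.tensorMod F (CohB1.tensorPow L m)) - 2 * Curv2.euler k X F := fun m hm => by
    have hN := isInvertible_tensorPow hL m
    obtain ⟨N', hN', ⟨e⟩⟩ := exists_inverse k hN
    let e' : CohB1.tensorMod N' (CohB1.tensorPow L m) ≅ Coh.structureModule X := tensorComm _ _ ≪≫ e
    obtain ⟨-, h0H⟩ := h0_homSh_tensor hrep hF hN hN' e'
    obtain ⟨hfinB, h0B⟩ := h0_homSh_tensor hrep hH hN' hN e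
    haveI := hn₀ m hm 1 Nat.one_pos
    haveI := hfinB
    haveI := mono_tensorMap hN' (toBidual F ω)
    obtain ⟨-, hle⟩ := SerreDual.finrank_h0_le_of_mono (k := k) (tensorMap (toBidual F ω) (𝟙 N'))
    rw [h0B, Module.finrank_zero_of_subsingleton (M := Coh.HH X (CohB1.tensorMod (RefHull.homSh F ω) (CohB1.tensorPow L m)) 1)] at hle
    have e1 := euler_eq_h0_sub_h1 k hdim.le _ (isCoh_twist hN hH).1
    rw [h0H, Module.finrank_zero_of_subsingleton (M := Coh.HH X (CohB1.tensorMod (RefHull.homSh F ω) (CohB1.tensorPow L m)) 1)] at e1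
    have e2 := euler_eq_h0_sub_h1 k hdim.le _ (isCoh_twist hN' hF).1
    rw [Nat.le_zero.1 hle] at e2
    have e3 := euler_twist_affine (k := k) hdim.le hF hN hN'
    rw [euler_congr k X (AmpleLib.tensorIso (Iso.refl F) e ≪≫ tensorComm F _ ≪≫ unitTensorIso F)] at e3
    push_cast at e1 e2
    linarith
  have k1 := key n₀ le_rfl
  have k2 := key (n₀ + 1) n₀.le_succ
  rw [euler_twist_pow hdim.le hH hL, euler_twist_pow hdim.le hF hL] at k1 k2
  push_cast at k2
  have hd : Curv2.euler k X (CohB1.tensorMod (RefHull.homSh F ω) L) - Curv2.euler k X (RefHull.homSh F ω) =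
      Curv2.euler k X (CohB1.tensorMod F L) - Curv2.euler k X F := by linarith
  rw [hd] at k1
  linarith

/-- Biduality for torsion-free modules. -/
theorem isIso_toBidual {F : X.Modules} (hF : Coh.IsCoh F) (hFt : TorSh.IsTorsionFree F) :
    IsIso (toBidual F ω) := by
  haveI := isNoetherian_of_proper k (X := X)
  have hωc := SerreDual.isCoh_dualizing hrep hdim hω
  have hH := RefHullLib.isCoh_homSh hF hωc
  have hHH := RefHullLib.isCoh_homSh hH hωc
  have hHt : TorSh.IsTorsionFree (RefHull.homSh F ω) := fun x =>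
    RefHullLib.isTorsionFree_homSh (locallyFinGen_of_isFT _ hF.2) (isTorsionFree_omega hrep hdim hω) x
  haveI := mono_toBidual hrep hdim hω hF hFt
  have hQ : Coh.IsCoh (cokernel (toBidual F ω)) := isCoh_cokernel _ hF.1 hHH
  let S := ShortComplex.mk (toBidual F ω) (cokernel.π _) (cokernel.condition _)
  have hS : S.ShortExact := { exact := ShortComplex.exact_of_g_is_cokernel _ (cokernelIsCokernel _) }
  have hη : genericPoint X ∉ CohB1.support (cokernel (toBidual F ω)) := by
    let _ : Field (X.presheaf.stalk (genericPoint X)) := inferInstanceAs (Field X.functionField)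
    haveI : Module.Finite (X.presheaf.stalk (genericPoint X)) (F.presheaf.stalk (genericPoint X)) :=
      finite_stalk_of_isFT hF.1 hF.2 _
    haveI : Module.Finite (X.presheaf.stalk (genericPoint X)) (ω.presheaf.stalk (genericPoint X)) :=
      Module.finite_of_finrank_eq_succ (finrank_generic hrep hdim hω)
    haveI : Module.Finite (X.presheaf.stalk (genericPoint X))
        ((RefHull.homSh (RefHull.homSh F ω) ω).presheaf.stalk (genericPoint X)) := finite_stalk_of_isFT hHH.1 hHH.2 _
    let e₁ := LinearEquiv.ofBijective _ (RefHullLib.evalStalk_bijective_of_isCoh (G := ω) hH (genericPoint X))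
    let e₂ := LinearEquiv.ofBijective _ (RefHullLib.evalStalk_bijective_of_isCoh (G := ω) hF (genericPoint X))
    have hr : Module.finrank (X.presheaf.stalk (genericPoint X))
        ((RefHull.homSh (RefHull.homSh F ω) ω).presheaf.stalk (genericPoint X)) =
        Module.finrank (X.presheaf.stalk (genericPoint X)) (F.presheaf.stalk (genericPoint X)) := by
      rw [e₁.finrank_eq, (e₂.arrowCongr (LinearEquiv.refl _ _)).finrank_eq, Module.finrank_linearMap,
        Module.finrank_linearMap, finrank_generic hrep hdim hω, mul_one, mul_one]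
    have hs : Function.Surjective (RefHull.stalkMapₗ (toBidual F ω) (genericPoint X)) :=
      (LinearMap.injective_iff_surjective_of_finrank_eq_finrank hr.symm).1
        (stalkMap_injective_of_mono (toBidual F ω) (genericPoint X))
    intro h
    obtain ⟨e, -⟩ := TFNodal7.exists_cokernel_stalk (toBidual F ω) (genericPoint X)
    exact h (@Equiv.subsingleton _ _ e.symm.toEquiv
      (Submodule.Quotient.subsingleton_iff.2 (LinearMap.range_eq_top.2 hs)))
  have hT := isClosed_support _ (locallyFinGen_of_isFT _ hQ.2)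
  have hχ : Curv2.euler k X (cokernel (toBidual F ω)) = 0 := by
    haveI := isSeparated_of_proper (X := X) k
    have := euler_additive k X S hS hF hHH hQ
    rw [euler_homSh hrep hdim hω hH hHt, euler_homSh hrep hdim hω hF hFt] at this
    linarith
  rw [euler_eq_h0_of_small k hdim.le hQ.1 hT hη subset_rfl] at hχ
  haveI := finite_HH_of_isCoh k hQ 0
  haveI : Subsingleton (Coh.HH X (cokernel (toBidual F ω)) 0) :=
    (Module.finrank_zero_iff (R := k)).1 (by exact_mod_cast hχ)
  haveI : Subsingleton (GA (baseHom k X) (cokernel (toBidual F ω))) :=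
    (hhZero k _).symm.toEquiv.subsingleton
  obtain ⟨hTf, hTc, -⟩ := closed_small k hdim.le hT hη
  have hzero : CohB1.support (cokernel (toBidual F ω)) = ∅ := by
    refine Set.eq_empty_iff_forall_notMem.2 fun x hx => hx ?_
    refine subsingleton_of_forall_eq 0 fun v => ?_
    obtain ⟨V, hV, s, rfl⟩ := (cokernel (toBidual F ω)).presheaf.exists_germ_eq v
    let T' : Set X := CohB1.support (cokernel (toBidual F ω)) \ {x}
    have hT' : IsClosed T' := by
      rw [← Set.biUnion_of_singleton T']
      exact hTf.sdiff.isClosed_biUnion fun z hz => hTc z hz.1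
    let W : X.Opens := V ⊓ ⟨T'ᶜ, hT'.isOpen_compl⟩
    let O : X.Opens := ⟨({x} : Set X)ᶜ, (hTc x hx).isOpen_compl⟩
    have hxW : x ∈ W := ⟨hV, fun h => h.2 rfl⟩
    have hsub : ∀ U : X.Opens, U ≤ W → U ≤ O → Subsingleton Γ(cokernel (toBidual F ω), U) := fun U h1 h2 =>
      subsingleton_sections_of_disjoint _ U (Set.disjoint_left.2 fun z hz hzs => (h1 hz).2 ⟨hzs, h2 hz⟩)
    let 𝒢 : TopCat.Sheaf Ab X := ⟨(cokernel (toBidual F ω)).presheaf, (cokernel (toBidual F ω)).isSheaf⟩
    let U : ULift.{u} Bool → X.Opens := fun b => if b.down then W else O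
    let sf : ∀ b, ToType (𝒢.presheaf.obj (op (U b))) := fun b =>
      match b with
      | ⟨true⟩ => (resM _ inf_le_left s : Γ(cokernel (toBidual F ω), W))
      | ⟨false⟩ => (0 : Γ(cokernel (toBidual F ω), O))
    have hcompat : TopCat.Presheaf.IsCompatible 𝒢.presheaf U sf := by
      rintro ⟨_ | _⟩ ⟨_ | _⟩
      · rfl
      · exact (hsub _ inf_le_right inf_le_left).elim _ _
      · exact (hsub _ inf_le_left inf_le_right).elim _ _
      · rfl
    obtain ⟨g, hg, -⟩ := TopCat.Sheaf.existsUnique_gluing' 𝒢 U ⊤ (fun _ => homOfLE le_top)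
      (fun z _ => by
        by_cases h : z = x
        · exact Opens.mem_iSup.2 ⟨⟨true⟩, h ▸ hxW⟩
        · exact Opens.mem_iSup.2 ⟨⟨false⟩, h⟩) sf hcompat
    have hg0 : (g : Γ(cokernel (toBidual F ω), ⊤)) = 0 :=
      @Subsingleton.elim (GA (baseHom k X) (cokernel (toBidual F ω))) _ g 0
    have h1 : resM (cokernel (toBidual F ω)) (le_top : W ≤ ⊤) (g : Γ(cokernel (toBidual F ω), ⊤)) =
        resM _ inf_le_left s := hg ⟨true⟩
    rw [hg0, map_zero] at h1
    refine (TopCat.Presheaf.germ_res_apply (cokernel (toBidual F ω)).presheaf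
      (homOfLE (inf_le_left : W ≤ V)) x hxW s).symm.trans ?_
    exact (congrArg ((cokernel (toBidual F ω)).presheaf.germ W x hxW) h1.symm).trans (map_zero _)
  haveI : Epi (toBidual F ω) := Abelian.epi_of_cokernel_π_eq_zero _
    ((isZero_of_support_eq_empty hzero).eq_of_tgt _ _)
  exact isIso_of_mono_of_epi _

end Groth.Agent.TFPush7
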