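import Groth.Agent.RefHullLib.Restrict
import Groth.Agent.RefHullLib.Eval
import Groth.Agent.RefHullLib.IsoLocus
import Groth.Agent.RefHullLib.Reflexive
import Groth.Agent.Coherent.FinMor
import Groth.Agent.PrinLib.StalkMod
import Groth.Agent.ZClosLib.Criterion

/-!
# Isomorphic stalks of coherent modules give isomorphic restrictions to a neighbourhood
-/

set_option autoImplicit false
set_option linter.style.haveILetI false
set_option backward.isDefEq.respectTransparency false
set_option backward.isDefEq.respectTransparency.types false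
set_option maxHeartbeats 1000000

universe u

open CategoryTheory AlgebraicGeometry Opposite TopologicalSpace
open Groth.Agent.OmegaLib

namespace Groth.Agent.TFPush7

variable {X : Scheme.{u}} {F G : X.Modules}

/-- A section of the sheaf Hom gives a morphism of the restrictions; where the section is bijective so is it. -/
theorem exists_hom_restrict {W : X.Opens} (g : Γ(RefHull.homSh F G, W)) :
    ∃ φ : F.restrict W.ι ⟶ G.restrict W.ι, ∀ z : W,
      Function.Bijective (RefHull.stalkMapₗ φ z) ↔ Function.Bijective (g.1 z) := by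
  choose φF eF hF₁ hF₂ hF₃ using fun z : (W : Scheme) => RefHullLib.exists_semilinear_restrict W.ι F z
  choose φG eG hG₁ hG₂ hG₃ using fun z : (W : Scheme) => RefHullLib.exists_semilinear_restrict W.ι G z
  let gz : ∀ z : (W : Scheme), F.presheaf.stalk (W.ι z) →ₗ[X.presheaf.stalk (W.ι z)] G.presheaf.stalk (W.ι z) :=
    fun z => g.1 ⟨W.ι z, z.2⟩
  let L : ∀ z : (W : Scheme), (DerSch.stalkFunctor (W : Scheme) z).obj (F.restrict W.ι) →ₗ[(W : Scheme).presheaf.stalk z]
      (DerSch.stalkFunctor (W : Scheme) z).obj (G.restrict W.ι) := fun z =>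
    { toFun := fun v => eG z (gz z ((eF z).symm v))
      map_add' := fun a b => by
        show eG z (gz z ((eF z).symm (a + b))) = _
        exact (congrArg (fun t => eG z (gz z t)) (map_add (eF z).symm a b)).trans (by rw [map_add, map_add]; rfl)
      map_smul' := fun r v => by
        obtain ⟨a, rfl⟩ := (φF z).surjective r
        obtain ⟨w, rfl⟩ := (eF z).surjective v
        rw [RingHom.id_apply]
        refine (congrArg (fun t => eG z (gz z ((eF z).symm t))) (hF₁ z a w).symm).trans ?_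
        have e : φF z a = φG z a := (hF₂ z a).trans (hG₂ z a).symm
        rw [AddEquiv.symm_apply_apply, map_smul, hG₁, e]
        exact congrArg (fun t => φG z a • eG z (gz z t)) ((eF z).symm_apply_apply w).symm }
  have hloc : ∀ (U : (W : Scheme).Opens) (s : Γ(F.restrict W.ι, U)) (x : (W : Scheme)) (_ : x ∈ U),
      ∃ (V : (W : Scheme).Opens) (e : V ≤ U), x ∈ V ∧ ∃ t : Γ(G.restrict W.ι, V), ∀ (y : (W : Scheme)) (hy : y ∈ V),
        L y (gm (F.restrict W.ι) U y (e hy) s) = gm (G.restrict W.ι) V y hy t := by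
    intro U s x hx
    let O : X.Opens := W.ι ''ᵁ U
    have hOW : O ≤ W := by rintro _ ⟨y, -, rfl⟩; exact y.2
    obtain ⟨m, rfl⟩ : ∃ m : Γ(F, O), (F.restrictAppIso W.ι U).inv m = s :=
      ⟨(F.restrictAppIso W.ι U).hom s, ConcreteCategory.congr_hom (F.restrictAppIso W.ι U).hom_inv_id s⟩
    obtain ⟨W', hxW', j, n, w⟩ := RefHull.isLocSect_of_mem g O (homOfLE hOW) m ⟨W.ι x, ⟨x, hx, rfl⟩⟩
    let V : (W : Scheme).Opens := U ⊓ W.ι ⁻¹ᵁ W'
    have hVW' : W.ι ''ᵁ V ≤ W' := by rintro _ ⟨y, hy, rfl⟩; exact hy.2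
    refine ⟨V, inf_le_left, ⟨hx, hxW'⟩, (G.restrictAppIso W.ι V).inv (G.presheaf.map (homOfLE hVW').op n),
      fun y hy => ?_⟩
    show eG y (gz y ((eF y).symm ((F.restrict W.ι).presheaf.germ U y hy.1 ((F.restrictAppIso W.ι U).inv m)))) =
      (G.restrict W.ι).presheaf.germ V y hy ((G.restrictAppIso W.ι V).inv (G.presheaf.map (homOfLE hVW').op n))
    rw [← hF₃ y U hy.1 m, AddEquiv.symm_apply_apply, ← hG₃ y V hy, TopCat.Presheaf.germ_res_apply]
    exact congrArg (eG y) (w ⟨W.ι y, hy.2⟩)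
  obtain ⟨φ, hφ⟩ := PrinLib.exists_hom_of_stalks L hloc
  refine ⟨φ, fun z => ?_⟩
  have h : ∀ v, RefHull.stalkMapₗ φ z v = L z v := fun v => by
    obtain ⟨U, hU, s, rfl⟩ := (F.restrict W.ι).presheaf.exists_germ_eq v
    rw [RefHull.stalkMapₗ_germ]
    exact hφ U s z hU
  have h' : (RefHull.stalkMapₗ φ z : _ → _) = eG z ∘ gz z ∘ (eF z).symm := funext h
  rw [h', (eG z).bijective.of_comp_iff', Function.Bijective.of_comp_iff _ (eF z).symm.bijective]
  rfl

variable [IsLocallyNoetherian X]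

/-- Coherent modules with isomorphic stalks at a point are isomorphic on a neighbourhood. -/
theorem exists_nhd_iso_of_stalk_iso (hF : Coh.IsCoh F) (hG : Coh.IsCoh G) {x : X}
    (e : F.presheaf.stalk x ≃ₗ[X.presheaf.stalk x] G.presheaf.stalk x) {O : X.Opens} (hxO : x ∈ O) :
    ∃ U : X.Opens, x ∈ U ∧ U ≤ O ∧ Nonempty (F.restrict U.ι ≅ G.restrict U.ι) := by
  obtain ⟨θ, hθ⟩ := (RefHullLib.evalStalk_bijective_of_isCoh (G := G) hF x).2 e.toLinearMap
  obtain ⟨W, hxW, g, rfl⟩ := (RefHull.homSh F G).presheaf.exists_germ_eq θ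
  rw [RefHull.evalStalk_germ] at hθ
  obtain ⟨φ, hφ⟩ := exists_hom_restrict g
  have hb : Function.Bijective (g.1 ⟨x, hxW⟩) := by rw [hθ]; exact e.bijective
  have ho := RefHullLib.isOpen_bijective_stalk φ (Coherent.isCoh_restrict W hF) (Coherent.isCoh_restrict W hG)
  let U : X.Opens := O ⊓ ⟨(Scheme.Opens.ι W) '' {z | Function.Bijective (RefHull.stalkMapₗ φ z)}, (Scheme.Opens.ι W).isOpenEmbedding.isOpenMap _ ho⟩
  have hUW : U ≤ W := by rintro _ ⟨-, z, -, rfl⟩; exact z.2
  refine ⟨U, ⟨hxO, ⟨x, hxW⟩, (hφ _).2 hb, rfl⟩, inf_le_left, ?_⟩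
  obtain ⟨ψ, hψ⟩ := exists_hom_restrict ((RefHull.homSh F G).presheaf.map (homOfLE hUW).op g)
  haveI : IsIso ψ := ZClosLib.isIso_of_bijective_stalk ψ fun z => (hψ z).2 (by
    obtain ⟨-, z', hz', e'⟩ := z.2
    have h := (hφ z').1 hz'
    have key : ∀ (a b : W), a = b → Function.Bijective (g.1 a) → Function.Bijective (g.1 b) := fun a b hab h => hab ▸ h
    exact key z' ⟨z.1, hUW z.2⟩ (Subtype.ext e') h)
  exact ⟨asIso ψ⟩

end Groth.Agent.TFPush7
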