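import Groth.Agent.VarietyLib.TensorExact
import Groth.Agent.EulerLib.SupportVanishing
import Groth.Agent.TFPush7.IsoNhd
import Groth.Agent.TFPush7.RankOneNodal
import Groth.Agent.DualLib.RelDualizingModule
import Groth.Agent.Hyper24.BiratH1
import Groth.Prelude.Def_CurvBase

/-!
# Tensoring short exact sequences with modules which are flat where it matters; non-invertible loci
-/

set_option autoImplicit false
set_option linter.style.haveILetI false
set_option backward.isDefEq.respectTransparency false
set_option backward.isDefEq.respectTransparency.types false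
set_option maxHeartbeats 1000000

universe u

open CategoryTheory CategoryTheory.Limits AlgebraicGeometry Opposite TopologicalSpace
open Groth.Agent.ModStalk Groth.Agent.VarietyLib

namespace Groth.Agent.TFPush7

variable {X : Scheme.{u}}

local notation "St" => DerSch.stalkFunctor X

/-- Tensoring a short exact sequence is exact where the module is flat or the first map is bijective. -/
theorem exists_tensorSeq_of_or {S : ShortComplex X.Modules} (hS : S.ShortExact) (E : X.Modules)
    (hE : ∀ x, Module.Flat (X.presheaf.stalk x) (E.presheaf.stalk x) ∨ Subsingleton (S.X₃.presheaf.stalk x)) :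
    ∃ T : ShortComplex X.Modules, T.ShortExact ∧ T.X₁ = CohB1.tensorMod S.X₁ E ∧
      T.X₂ = CohB1.tensorMod S.X₂ E ∧ T.X₃ = CohB1.tensorMod S.X₃ E := by
  let a := KoszTw.tensorMap S.f (𝟙 E)
  let b := KoszTw.tensorMap S.g (𝟙 E)
  have hex : ∀ x, Function.Exact ((St x).map a) ((St x).map b) ∧ Function.Injective ((St x).map a) ∧
      Function.Surjective ((St x).map b) := by
    intro x
    have hx := hS.map_of_exact (St x)
    let f := ((St x).map S.f).hom
    let g := ((St x).map S.g).hom
    have hfg : Function.Exact f g := (ShortComplex.ShortExact.moduleCat_exact_iff_function_exact _).mp hx.exact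
    have hf : Function.Injective f := (ModuleCat.mono_iff_injective _).mp hx.mono_f
    have hg : Function.Surjective g := (ModuleCat.epi_iff_surjective _).mp hx.epi_g
    let e₁ : ((St x).obj (CohB1.tensorMod S.X₁ E)) ≃ₗ[X.presheaf.stalk x]
        TensorProduct (X.presheaf.stalk x) ((St x).obj S.X₁) ((St x).obj E) :=
      (stalkTensorIso x S.X₁ E).toLinearEquiv
    let e₂ : ((St x).obj (CohB1.tensorMod S.X₂ E)) ≃ₗ[X.presheaf.stalk x]
        TensorProduct (X.presheaf.stalk x) ((St x).obj S.X₂) ((St x).obj E) :=
      (stalkTensorIso x S.X₂ E).toLinearEquiv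
    let e₃ : ((St x).obj (CohB1.tensorMod S.X₃ E)) ≃ₗ[X.presheaf.stalk x]
        TensorProduct (X.presheaf.stalk x) ((St x).obj S.X₃) ((St x).obj E) :=
      (stalkTensorIso x S.X₃ E).toLinearEquiv
    have ha : ∀ v, e₂ ((St x).map a v) = LinearMap.rTensor _ f (e₁ v) := fun v => stalk_tensorMap_id S.f E x v
    have hb : ∀ v, e₃ ((St x).map b v) = LinearMap.rTensor _ g (e₂ v) := fun v => stalk_tensorMap_id S.g E x v
    have hf' : Function.Injective (LinearMap.rTensor ((St x).obj E) f) := by
      rcases hE x with h | h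
      · haveI : Module.Flat (X.presheaf.stalk x) ((St x).obj E) := h
        exact Module.Flat.rTensor_preserves_injective_linearMap (M := ((St x).obj E)) f hf
      · haveI : Subsingleton ((St x).obj S.X₃) := h
        exact (LinearEquiv.rTensor ((St x).obj E) (LinearEquiv.ofBijective f
          ⟨hf, fun v => (hfg v).1 (Subsingleton.elim _ _)⟩)).injective
    have hg' := LinearMap.rTensor_surjective ((St x).obj E) hg
    have hfg' := rTensor_exact ((St x).obj E) hfg hg
    refine ⟨fun v => ⟨fun hv => ?_, ?_⟩, fun v w h => ?_, fun w => ?_⟩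
    · obtain ⟨u, hu⟩ := (hfg' (e₂ v)).1 (by rw [← hb, hv, map_zero])
      refine ⟨e₁.symm u, e₂.injective ?_⟩
      rw [ha, e₁.apply_symm_apply, hu]
    · rintro ⟨u, rfl⟩
      refine e₃.injective ?_
      rw [hb, ha, hfg'.apply_apply_eq_zero, map_zero]
    · refine e₁.injective (hf' ?_)
      rw [← ha, ← ha, h]
    · obtain ⟨u, hu⟩ := hg' (e₃ w)
      refine ⟨e₂.symm u, e₃.injective ?_⟩
      rw [hb, e₂.apply_symm_apply, hu]
  have hz : a ≫ b = 0 := eq_zero_of_stalks _ fun x v => by
    rw [CategoryTheory.Functor.map_comp]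
    exact (hex x).1.apply_apply_eq_zero v
  let T : ShortComplex X.Modules := ShortComplex.mk a b hz
  haveI hm : Mono T.f := OmegaLib.mono_of_stalks_injective a fun x => (hex x).2.1
  haveI he : Epi T.g := OmegaLib.epi_of_stalks_surjective b fun x => (hex x).2.2
  refine ⟨T, { exact := OmegaLib.exact_of_stalks T fun x => ?_ }, rfl, rfl, rfl⟩
  exact (ShortComplex.ShortExact.moduleCat_exact_iff_function_exact _).mpr (hex x).1

/-- Modules with disjoint supports have zero tensor product. -/
theorem isZero_tensorMod_of_or (A B : X.Modules)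
    (h : ∀ x, Subsingleton (A.presheaf.stalk x) ∨ Subsingleton (B.presheaf.stalk x)) :
    IsZero (CohB1.tensorMod A B) := by
  refine ModStalk.isZero_of_stalks fun x => ?_
  rw [ModuleCat.isZero_iff_subsingleton]
  let e : ((St x).obj (CohB1.tensorMod A B)) ≃ₗ[X.presheaf.stalk x]
      TensorProduct (X.presheaf.stalk x) ((St x).obj A) ((St x).obj B) := (stalkTensorIso x A B).toLinearEquiv
  refine @Equiv.subsingleton _ _ e.toEquiv ?_
  refine subsingleton_of_forall_eq 0 fun t => ?_
  induction t using TensorProduct.induction_on with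
  | zero => rfl
  | tmul a b =>
    rcases h x with h | h
    · haveI : Subsingleton ((St x).obj A) := h
      rw [Subsingleton.elim a 0, TensorProduct.zero_tmul]
    · haveI : Subsingleton ((St x).obj B) := h
      rw [Subsingleton.elim b 0, TensorProduct.tmul_zero]
  | add a b ha hb => rw [ha, hb, add_zero]

/-- The non-invertible locus of a rank one module on a reduced curve is small. -/
theorem dim_nonInvertible_lt (k : Type u) [Field k] [X.Over (Spec (CommRingCat.of k))]
    [IsProper (X ↘ (Spec (CommRingCat.of k)))] [IsReduced X]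
    (hequi : ∀ Z ∈ irreducibleComponents (X : Type u), topologicalKrullDim Z = 1)
    (L : X.Modules) (hL : Coh.IsCoh L)
    (hrk : ∀ η : X, closure ({η} : Set X) ∈ irreducibleComponents (X : Type u) →
      Module.finrank (X.presheaf.stalk η) (L.presheaf.stalk η) = 1) :
    IsClosed {P : X | ¬ ∃ U : X.Opens, P ∈ U ∧ Nonempty (L.restrict U.ι ≅ Coh.structureModule (↑U : Scheme.{u}))} ∧
      topologicalKrullDim {P : X | ¬ ∃ U : X.Opens, P ∈ U ∧ Nonempty (L.restrict U.ι ≅ Coh.structureModule (↑U : Scheme.{u}))}
        < ((1 : ℕ) : WithBot ℕ∞) := by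
  haveI := CurveRR24.isLocallyNoetherian_of_proper k (X := X)
  have hdim : topologicalKrullDim X ≤ 1 := DualLib.RelMod.dim_le_of_components (r := 1) (n := 1) rfl hequi
  set Sset : Set X := {P : X | ¬ ∃ U : X.Opens, P ∈ U ∧ Nonempty (L.restrict U.ι ≅ Coh.structureModule (↑U : Scheme.{u}))}
  let Uo : X.Opens := ⟨Ssetᶜ, isOpen_iff_forall_mem_open.2 fun P hP => by
    obtain ⟨U, hPU, hU⟩ := not_not.1 hP
    exact ⟨U, fun z hz => not_not.2 ⟨U, hz, hU⟩, U.2, hPU⟩⟩
  have hUd : Dense (Uo : Set X) := fun x => by
    obtain ⟨η, hη⟩ := QuasiSober.sober (isIrreducible_irreducibleComponent (x := x)) isClosed_irreducibleComponent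
    have hcomp : closure ({η} : Set X) ∈ irreducibleComponents (X : Type u) :=
      hη.def.symm ▸ irreducibleComponent_mem_irreducibleComponents x
    have hmax : ∀ z, z ⤳ η → z = η := fun z hz =>
      (hz.antisymm (specializes_iff_mem_closure.2 (hcomp.2 isIrreducible_singleton.closure
        hz.closure_subset (subset_closure rfl)))).eq
    letI : Field (X.presheaf.stalk η) := (AlgSpLib.isField_stalk_of_maximal η hmax).toField
    have hr := hrk η hcomp
    haveI : Module.Finite (X.presheaf.stalk η) (L.presheaf.stalk η) := Module.finite_of_finrank_eq_succ hr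
    obtain ⟨b⟩ := SplitP1.nonempty_basis_stalk
      (PicLib.isFinLocFreeOfRank_one (AmpleLib.isInvertible_structureModule (X := X))) η
    obtain ⟨U, hηU, -, ⟨φ⟩⟩ := exists_nhd_iso_of_stalk_iso hL (Coherent.isCoh_structureModule X)
      ((Module.finBasisOfFinrankEq _ _ hr).equivFun.trans b.equivFun.symm) (O := ⊤) (x := η) trivial
    exact closure_mono (Set.singleton_subset_iff.2 (show η ∈ (Uo : Set X) from
        not_not.2 ⟨U, hηU, ⟨φ ≪≫ Scheme.Modules.restrictUnitIso U.ι⟩⟩))
      (by rw [hη.def]; exact mem_irreducibleComponent)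
  obtain ⟨hfin', hcl'⟩ := Hyper24.finite_compl_dense k hdim hUd
  haveI : Finite Sset := (hfin'.subset fun z hz h => h hz).to_subtype
  haveI : T1Space Sset := ⟨fun x => by
    have h := (hcl' x.1 fun h => h x.2).preimage (continuous_subtype_val (p := (· ∈ Sset)))
    convert h using 1
    ext y
    simp [Subtype.ext_iff]⟩
  refine ⟨isOpen_compl_iff.1 Uo.2, lt_of_le_of_lt ?_ (by exact_mod_cast zero_lt_one (α := ℕ) : ((0 : ℕ) : WithBot ℕ∞) < (1 : ℕ))⟩
  exact_mod_cast topologicalKrullDim_zero_of_discreteTopology Sset

end Groth.Agent.TFPush7
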