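import Groth.Agent.DualMod3.NodeBranch
import Groth.Agent.DualMod3.SubNum
import Groth.Agent.DualMod3.H1Vanish
import Groth.Agent.DualMod3.TailNum
import Groth.Agent.TFPush7.TensorDeg
import Groth.Agent.IntCM8.QuotTensor
import Groth.Agent.Props12.Components
import Groth.Agent.MorProj.InvTensor
import Groth.Agent.S16293

/-!
# Degrees on subcurves of `ω` twisted by smooth points of a nodal curve
-/

set_option autoImplicit false
set_option linter.style.haveILetI false
set_option linter.unusedSectionVars false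
set_option backward.isDefEq.respectTransparency false
set_option backward.isDefEq.respectTransparency.types false
set_option maxHeartbeats 1000000

universe u

open CategoryTheory CategoryTheory.Limits AlgebraicGeometry TopologicalSpace Opposite
open Groth.Agent.Coherent Groth.Agent.PicLib Groth.Agent.AmpleLib Groth.Agent.EulerLib Groth.Agent.CurveRR24
open Groth.Agent.Subcurves24 Groth.Agent.DualMod3

namespace Groth.Agent.TFPush7.PointedNum

/-- An ideal containing the ideal of finitely many maximal points is the ideal of those it vanishes at. -/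
theorem mem_of_finite_maximal {R : Type*} [CommRing R] {F : Set (PrimeSpectrum R)} (hF : F.Finite)
    (hmax : ∀ y ∈ F, y.asIdeal.IsMaximal) (K : Ideal R)
    (hK : ∀ r : R, (∀ y ∈ F, r ∈ y.asIdeal) → r ∈ K) (a : R)
    (ha : ∀ y ∈ F, K ≤ y.asIdeal → a ∈ y.asIdeal) : a ∈ K := by
  classical
  by_contra hnot
  let N : Ideal R := K.colon {a}
  have hN : N ≠ ⊤ := fun h => hnot (by
    have := Submodule.mem_colon_singleton.1 (h ▸ Submodule.mem_top : (1 : R) ∈ N)
    simpa using this)
  obtain ⟨m, hm, hNm⟩ := Ideal.exists_le_maximal N hN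
  have hKm : K ≤ m := fun r hr => hNm (Submodule.mem_colon_singleton.2 (Ideal.mul_mem_right a K hr))
  obtain ⟨y, hy, hym⟩ : ∃ y ∈ F, y.asIdeal ≤ m := by
    have h : (∏ y ∈ hF.toFinset, y.asIdeal) ≤ m := fun r hr => hKm (hK r fun y hy =>
      (Ideal.prod_le_inf.trans (Finset.inf_le (hF.mem_toFinset.2 hy))) hr)
    obtain ⟨y, hy, h'⟩ := (Ideal.IsPrime.prod_le hm.isPrime).1 h
    exact ⟨y, hF.mem_toFinset.1 hy, h'⟩
  have hym' : y.asIdeal = m := (hmax y hy).eq_of_le hm.ne_top hym
  have hex : ∀ z ∈ F \ {y}, ∃ c : R, c ∈ z.asIdeal ∧ c ∉ m := fun z hz => SetLike.not_le_iff_exists.1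
    fun hle => hz.2 (PrimeSpectrum.ext (((hmax z hz.1).eq_of_le hm.ne_top hle).trans hym'.symm))
  choose c hc hcm using hex
  let F' := (hF.subset (Set.sdiff_subset : F \ {y} ⊆ F)).toFinset
  let P : R := ∏ z ∈ F'.attach, c z.1 ((Set.Finite.mem_toFinset _).1 z.2)
  have hP : P ∉ m := fun h => by
    obtain ⟨z, -, hz⟩ := hm.isPrime.prod_mem_iff.1 h
    exact hcm _ _ hz
  refine hP (hNm (Submodule.mem_colon_singleton.2 (hK _ fun z hz => ?_)))
  by_cases hzy : z = y
  · subst hzy
    exact Ideal.mul_mem_left _ P (ha z hy (hKm.trans hym'.ge))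
  · refine Ideal.mul_mem_right a z.asIdeal ?_
    have hz' : z ∈ F' := (Set.Finite.mem_toFinset _).2 ⟨hz, hzy⟩
    exact Ideal.mem_of_dvd _ (Finset.dvd_prod_of_mem _ (Finset.mem_attach F' ⟨z, hz'⟩)) (hc z _)

variable {X : Scheme.{u}}

/-- Adding an ideal to that of finitely many closed points leaves reduced points. -/
theorem red_sup_eq {D : Closeds X} (hfin : (D : Set X).Finite) (hpts : ∀ x ∈ (D : Set X), IsClosed ({x} : Set X))
    (J : X.IdealSheafData) : red D ⊔ J = red (D ⊓ J.support) := by
  refine le_antisymm (sup_le (Scheme.IdealSheafData.vanishingIdeal_antimono inf_le_left) ?_) fun U a ha => ?_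
  · refine le_trans ?_ (Scheme.IdealSheafData.vanishingIdeal_antimono inf_le_right)
    rw [Scheme.IdealSheafData.vanishingIdeal_support]
    exact J.le_radical
  show a ∈ (red D ⊔ J).ideal U
  rw [Scheme.IdealSheafData.ideal_sup]
  show a ∈ (red D).ideal U ⊔ J.ideal U
  refine mem_of_finite_maximal (F := U.2.fromSpec ⁻¹' (D : Set X))
    (hfin.preimage U.2.fromSpec.isOpenEmbedding.injective.injOn) (fun y hy => ?_) _
    (fun r hr => Ideal.mem_sup_left ((mem_vanishing_iff D U r).2 hr)) a fun y hy hle => ?_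
  · refine (PrimeSpectrum.isClosed_singleton_iff_isMaximal y).1 ?_
    have h := (hpts _ hy).preimage U.2.fromSpec.continuous
    rwa [show U.2.fromSpec ⁻¹' {U.2.fromSpec y} = {y} from
      Set.ext fun z => U.2.fromSpec.isOpenEmbedding.injective.eq_iff] at h
  · refine (mem_vanishing_iff (D ⊓ J.support) U a).1 ha y ⟨hy, ?_⟩
    by_contra hyJ
    obtain ⟨i, hi, hiy⟩ := exists_not_mem J.support U y hyJ
    rw [red, Scheme.IdealSheafData.vanishingIdeal_support, Scheme.IdealSheafData.radical_ideal] at hi
    exact hiy ((Ideal.IsPrime.radical_le_iff y.isPrime).2 (le_sup_right.trans hle) hi)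

variable (k : Type u) [Field k] [IsAlgClosed k] [X.Over (Spec (CommRingCat.of k))]
  [IsProper (X ↘ Spec (CommRingCat.of k))]

/-- Finitely many reduced closed points: `h⁰ = χ =` their number. -/
theorem quot_points (hdim : topologicalKrullDim X ≤ 1) (D : Closeds X) (hfin : (D : Set X).Finite)
    (hpts : ∀ x ∈ (D : Set X), IsClosed ({x} : Set X)) :
    Module.finrank k (Coh.HH X (ClSub.quotMod (red D)) 0) = (D : Set X).ncard ∧
      Curv2.euler k X (ClSub.quotMod (red D)) = ((D : Set X).ncard : ℤ) := by
  haveI := EulerLib.isNoetherian_of_proper k (X := X)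
  haveI := isSeparated_of_proper (X := X) k
  have h0 := S16293.h0_quotMod_points k X (D : Set X) hfin D.isClosed hpts
  have h0' : Module.finrank k (Coh.HH X (ClSub.quotMod (red D)) 0) = (D : Set X).ncard :=
    h0.trans (Nat.card_coe_set_eq _)
  have hq : Coh.IsCoh (ClSub.quotMod (red D)) := CurveRR24.isCoh_quotMod _
  have hsupp : CohB1.support (ClSub.quotMod (red D)) ⊆ (D : Set X) := by
    refine (CurveRR24.support_quotMod_subset _).trans ?_
    rw [Scheme.IdealSheafData.coe_support_vanishingIdeal]
  have hq1 : Subsingleton (Coh.HH X (ClSub.quotMod (red D)) 1) :=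
    subsingleton_HH_of_support D _ hq.1 hsupp 1
      (lt_of_le_of_lt (VarietyLib.dim_le_zero_of_closed_points D.isClosed hpts) (by exact_mod_cast zero_lt_one))
  refine ⟨h0', ?_⟩
  rw [euler_eq_h0_sub_h1 k hdim _ hq.1, h0', @Module.finrank_zero_of_subsingleton k _ _ _ _ _ hq1]
  simp

/-- A smooth point lies on one side of a subcurve. -/
theorem not_mem_inter_of_smooth (T : Closeds X)
    (hT : (T : Set X) ⊆ closure ((T : Set X) ∩ (DualMod3.compl (T : Set X) : Set X)ᶜ)) {x : X}
    (hsm : ∃ U : X.Opens, x ∈ U ∧ Smooth (U.ι ≫ (X ↘ Spec (CommRingCat.of k)))) (hxT : x ∈ (T : Set X)) :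
    x ∉ (DualMod3.compl (T : Set X) : Set X) := by
  intro hxZ
  haveI := EulerLib.isNoetherian_of_proper k (X := X)
  obtain ⟨V, hxV, hV⟩ := hsm
  haveI : IsRegularLocalRing (V.toScheme.presheaf.stalk ⟨x, hxV⟩) :=
    VarietyLib.isRegularLocalRing_stalk_of_smooth k V.toScheme (V.ι ≫ (X ↘ Spec (CommRingCat.of k))) _
  haveI : IsRegularLocalRing (X.presheaf.stalk x) :=
    IsRegularLocalRing.of_ringEquiv (V.stalkIso ⟨x, hxV⟩).commRingCatIsoToRingEquiv
  haveI := CAlgH3.isDomain_of_isRegularLocalRing (X.presheaf.stalk x)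
  obtain ⟨C, η, hC, hη, hxC, hηT⟩ := exists_component_subset T (hT hxT)
  let Z := DualMod3.compl (T : Set X)
  obtain ⟨D, ζ, hD, hζ, hxD, hζZ⟩ := exists_component_subset Z (x := x) (closure_mono
    (show (T : Set X)ᶜ ⊆ (Z : Set X) ∩ (DualMod3.compl (Z : Set X) : Set X)ᶜ from fun z hz => ⟨subset_closure hz, fun h => by
      obtain ⟨w, hw, hw'⟩ := mem_closure_iff.1 (h : z ∈ closure (Z : Set X)ᶜ) _ T.isClosed.isOpen_compl hz
      exact hw' (subset_closure hw)⟩) hxZ)
  have hCD : (C : Set X) = D := Props12.component_unique_of_isDomain hC hD hxC hxD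
  rw [show ζ = η from (hζ.eq (hCD ▸ hη))] at hζZ
  exact genericPoint_not_mem_compl T hC hη hηT hζZ

/-- Near a point off the complementary subcurve the ideal of a subcurve is zero. -/
theorem subsingleton_stalk_idealMod [IsReduced X] (T : Closeds X) {x : X}
    (hx : x ∉ (DualMod3.compl (T : Set X) : Set X)) : Subsingleton ((ClSub.idealMod (red T)).presheaf.stalk x) := by
  refine subsingleton_of_forall_eq 0 fun v => ?_
  obtain ⟨V, hV, m, rfl⟩ := (ClSub.idealMod (red T)).presheaf.exists_germ_eq v
  obtain ⟨U, hU, hxU, hUT⟩ := exists_isAffineOpen_mem_and_subset (x := x)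
    (U := V ⊓ ⟨(DualMod3.compl (T : Set X) : Set X)ᶜ, isClosed_closure.isOpen_compl⟩) ⟨hV, hx⟩
  rw [← TopCat.Presheaf.germ_res_apply _ (homOfLE (fun z hz => (hUT hz).1 : U ≤ V)) x hxU m]
  refine (congrArg _ ?_).trans (map_zero _)
  haveI : Mono (ClSub.idealModι (red T)) := inferInstanceAs (Mono (kernel.ι (ClSub.toSubscheme (red T))))
  refine app_injective_of_mono (ClSub.idealModι (red T)) U (Eq.trans ?_ (map_zero _).symm)
  have hm := (DualMod3.toSub_affine_eq_zero_iff (red T) ⟨U, hU⟩ _).1
    (kernel_ι_app_zero (ClSub.toSubscheme (red T)) U ((ClSub.idealMod (red T)).presheaf.map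
      (homOfLE (fun z hz => (hUT hz).1 : U ≤ V)).op m))
  have hbot : (red T).ideal ⟨U, hU⟩ = ⊥ := by
    rw [Scheme.IdealSheafData.vanishingIdeal_ideal]
    have : hU.fromSpec ⁻¹' (T : Set X) = Set.univ := Set.eq_univ_of_forall fun p =>
      show hU.fromSpec p ∈ (T : Set X) from
        not_not.1 fun h => (hUT (hU.range_fromSpec.le ⟨p, rfl⟩)).2 (subset_closure h)
    rw [this, PrimeSpectrum.vanishingIdeal_univ, nilradical_eq_zero]
    rfl
  rw [hbot] at hm
  exact hm

/-- The degree on a subcurve of the ideal of smooth points. -/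
theorem deg_idealPoints [IsReduced X] (hdim : topologicalKrullDim X ≤ 1) (P : Closeds X) (hP : (P : Set X).Finite)
    (hpts : ∀ x ∈ (P : Set X), IsClosed ({x} : Set X))
    (hsm : ∀ x ∈ (P : Set X), ∃ U : X.Opens, x ∈ U ∧ Smooth (U.ι ≫ (X ↘ Spec (CommRingCat.of k))))
    (hI : PicF.IsInvertible (ClSub.idealMod (red P)))
    (J : X.IdealSheafData) [IsReduced J.subscheme] [ConnectedSpace J.subscheme]
    (hJ : topologicalKrullDim J.subscheme = 1) :
    @Curv2.deg k _ J.subscheme ⟨J.subschemeι ≫ (X ↘ Spec (CommRingCat.of k))⟩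
      ((Scheme.Modules.pullback J.subschemeι).obj (ClSub.idealMod (red P))) 1 =
      - (((P : Set X) ∩ (J.support : Set X)).ncard : ℤ) := by
  haveI := EulerLib.isNoetherian_of_proper k (X := X)
  let T := J.support
  have hJe : J = red T := DualMod3.eq_vanishingIdeal J
  have hr : Set.range J.subschemeι = (T : Set X) := J.range_subschemeι
  have hconn : _root_.IsPreconnected (T : Set X) := hr ▸ isPreconnected_range J.subschemeι.continuous
  have hT : topologicalKrullDim (T : Set X) = 1 := by
    rw [← hJ, ← hr]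
    exact (J.subschemeι.isEmbedding.toHomeomorph.isHomeomorph.topologicalKrullDim_eq _).symm
  have hsub := subset_closure_interior hdim T hconn hT
  obtain ⟨S, hS, h1, h2, h3⟩ := exists_tensorSeq_of_or (shortExact_ideal (red P)) (ClSub.quotMod J) (fun x => by
    by_cases hxP : x ∈ (P : Set X)
    · left
      by_cases hxT : x ∈ (T : Set X)
      · have hx := not_mem_inter_of_smooth k T hsub (hsm x hxP) hxT
        haveI : Subsingleton ((DerSch.stalkFunctor X x).obj (ClSub.idealMod J)) := by
          rw [hJe]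
          exact subsingleton_stalk_idealMod T hx
        have hx' := (shortExact_ideal J).map_of_exact (DerSch.stalkFunctor X x)
        let g := ((DerSch.stalkFunctor X x).map (ClSub.toSubscheme J)).hom
        have hfg := (ShortComplex.ShortExact.moduleCat_exact_iff_function_exact _).mp hx'.exact
        have hg : Function.Bijective g :=
          ⟨(injective_iff_map_eq_zero _).2 fun v hv => by
            obtain ⟨w, rfl⟩ := (hfg v).1 hv
            rw [show w = 0 from @Subsingleton.elim ((DerSch.stalkFunctor X x).obj (ClSub.idealMod J)) _ w 0]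
            exact map_zero _,
          (ModuleCat.epi_iff_surjective _).mp hx'.epi_g⟩
        obtain ⟨b⟩ := SplitP1.nonempty_basis_stalk
          (PicLib.isFinLocFreeOfRank_one (AmpleLib.isInvertible_structureModule (X := X))) x
        haveI : Module.Free (X.presheaf.stalk x) ((DerSch.stalkFunctor X x).obj (Coh.structureModule X)) :=
          Module.Free.of_basis b
        exact Module.Flat.of_linearEquiv (LinearEquiv.ofBijective g hg).symm
      · haveI : Subsingleton ((ClSub.quotMod J).presheaf.stalk x) :=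
          not_not.1 fun h => hxT (support_quotMod_subset J h)
        infer_instance
    · right
      exact not_not.1 fun h => hxP (by
        have := support_quotMod_subset (red P) h
        rwa [Scheme.IdealSheafData.coe_support_vanishingIdeal] at this))
  obtain ⟨e⟩ := IntCM8.nonempty_quotMod_tensor (red P) J
  have hD : ((P ⊓ T : Closeds X) : Set X) = (P : Set X) ∩ (T : Set X) := rfl
  have hq := (quot_points k hdim (P ⊓ T) (hP.subset Set.inter_subset_left) fun x hx => hpts x hx.1).2
  rw [← red_sup_eq hP hpts J, hD] at hq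
  have hLF : FlatMod.IsFinLocFree (ClSub.idealMod (red P)) := fun x =>
    let ⟨U, hx, e⟩ := isFinLocFreeOfRank_one hI x; ⟨U, 1, hx, e⟩
  have cJ : Coh.IsCoh (ClSub.quotMod J) := isCoh_quotMod _
  have cA : Coh.IsCoh S.X₁ := by
    rw [h1]; exact Hyper24.isCoh_of_epi' (tensorComm _ _).hom inferInstance (isCoh_twist hI cJ) ((isCoh_iso (tensorComm _ _) (isCoh_twist hI cJ)).1)
  have cB : Coh.IsCoh S.X₂ := by
    rw [h2]; exact isCoh_iso (unitTensorIso _).symm cJ
  have cC : Coh.IsCoh S.X₃ := by
    rw [h3]; exact isCoh_iso e.symm (isCoh_quotMod _)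
  have hadd := euler_additive k X S hS cA cB cC
  rw [h1, h2, h3] at hadd
  change Curv2.euler k X (CohB1.tensorMod (Coh.structureModule X) (ClSub.quotMod J)) =
    Curv2.euler k X (CohB1.tensorMod (ClSub.idealMod (red P)) (ClSub.quotMod J)) +
      Curv2.euler k X (CohB1.tensorMod (ClSub.quotMod (red P)) (ClSub.quotMod J)) at hadd
  have e1 := euler_congr k X (unitTensorIso (ClSub.quotMod J))
  have e2 := euler_congr k X e
  have e3 := euler_congr k X (tensorComm (ClSub.idealMod (red P)) (ClSub.quotMod J))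
  rw [hq] at e2
  letI : J.subscheme.Over (Spec (CommRingCat.of k)) := ⟨J.subschemeι ≫ (X ↘ Spec (CommRingCat.of k))⟩
  simp only [Curv2.deg, Nat.cast_one, one_mul]
  rw [euler_quot_tensor k J hI, euler_quot k J]
  show _ = -(((P : Set X) ∩ (T : Set X)).ncard : ℤ)
  omega

/-- The intersection with the complementary subcurve counts points. -/
theorem delta_eq [IsReduced X] [ConnectedSpace X] (hdim : topologicalKrullDim X = 1) (hX : Curv2.AtWorstNodal k X)
    (J : X.IdealSheafData) [IsReduced J.subscheme] [ConnectedSpace J.subscheme]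
    (hJ : topologicalKrullDim J.subscheme = 1) :
    delta k J = ((J.support : Set X) ∩ closure (J.support : Set X)ᶜ).ncard ∧
      ((J.support : Set X) ∩ closure (J.support : Set X)ᶜ).Finite ∧
      ((J.support : Set X) ∩ closure (J.support : Set X)ᶜ) ⊆ {x | Curv2.IsNode k X x} := by
  haveI := EulerLib.isNoetherian_of_proper k (X := X)
  let T := J.support
  have hJe : J = red T := DualMod3.eq_vanishingIdeal J
  have hr : Set.range J.subschemeι = (T : Set X) := J.range_subschemeι
  have hconn : _root_.IsPreconnected (T : Set X) := hr ▸ isPreconnected_range J.subschemeι.continuous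
  have hT : topologicalKrullDim (T : Set X) = 1 := by
    rw [← hJ, ← hr]
    exact (J.subschemeι.isEmbedding.toHomeomorph.isHomeomorph.topologicalKrullDim_eq _).symm
  have hsub := subset_closure_interior hdim.le T hconn hT
  let D : Closeds X := T ⊓ DualMod3.compl (T : Set X)
  have hpts : ∀ x ∈ (D : Set X), IsClosed ({x} : Set X) := fun x hx => by
    refine TF7.isClosed_singleton_of_notGeneric hdim.le fun hg => ?_
    exact genericPoint_not_mem_compl T (C := ⟨closure {x}, isClosed_closure⟩) hg rfl hx.1 hx.2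
  have hfin : (D : Set X).Finite := by
    obtain ⟨S, hS, hScl, hSirr, hTeq⟩ := NoetherianSpace.exists_finite_set_isClosed_irreducible D.isClosed
    rw [hTeq]
    refine hS.sUnion fun C hC => ?_
    have hg := (hSirr C hC).isGenericPoint_genericPoint (hScl C hC)
    rw [← hg.def, (hpts _ (show _ ∈ (D : Set X) from hTeq ▸ ⟨C, hC, hg.mem⟩)).closure_eq]
    exact Set.finite_singleton _
  refine ⟨?_, hfin, fun x hx => (hX x (hpts x hx)).resolve_left fun hsm =>
    not_mem_inter_of_smooth k T hsub hsm hx.1 hx.2⟩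
  have h := (quot_points k hdim.le D hfin hpts).1
  rw [← sup_vanishing_eq k hdim (fun Z hZ => components_dim_one hdim hZ) hX T hsub] at h
  show Module.finrank k (Coh.HH X (ClSub.quotMod (J ⊔ red (DualMod3.compl (T : Set X)))) 0) = _
  rw [hJe]
  exact h

/-- The degree of `ω(p_1 + ⋯ + p_n)` on a subcurve. -/
theorem deg_twisted [IsReduced X] [ConnectedSpace X] (hdim : topologicalKrullDim X = 1) (hX : Curv2.AtWorstNodal k X)
    {W : X.Modules} (hW : PicF.IsInvertible W) (t : Coh.HH X W 1 →ₗ[k] k)
    (hrep : ∀ F : X.Modules, Coh.IsQCoh F → SerreDual.Rep t F)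
    (hWe : Curv2.euler k X W = - Curv2.euler k X (Coh.structureModule X))
    (P : Closeds X) (hP : (P : Set X).Finite) (hpts : ∀ x ∈ (P : Set X), IsClosed ({x} : Set X))
    (hsm : ∀ x ∈ (P : Set X), ∃ U : X.Opens, x ∈ U ∧ Smooth (U.ι ≫ (X ↘ Spec (CommRingCat.of k))))
    {N : X.Modules} (hN : ClSub.IsInverseOf N (ClSub.idealMod (red P))) :
    PicF.IsInvertible N ∧ ∀ J : X.IdealSheafData, IsReduced J.subscheme → ConnectedSpace J.subscheme →
      topologicalKrullDim J.subscheme = 1 →
      @Curv2.deg k _ J.subscheme ⟨J.subschemeι ≫ (X ↘ Spec (CommRingCat.of k))⟩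
        ((Scheme.Modules.pullback J.subschemeι).obj (CohB1.tensorMod W N)) 1 =
      2 * (@Curv2.genus k _ J.subscheme ⟨J.subschemeι ≫ (X ↘ Spec (CommRingCat.of k))⟩ : ℤ) - 2 +
        (((J.support : Set X) ∩ closure (J.support : Set X)ᶜ).ncard : ℤ) +
        (((P : Set X) ∩ (J.support : Set X)).ncard : ℤ) := by
  haveI := EulerLib.isNoetherian_of_proper k (X := X)
  obtain ⟨e⟩ := hN
  have hNi : PicF.IsInvertible N := MorProj.isInvertible_of_tensor_iso e
  have hI := H0Growth23.isInvertible_of_isInverseOf hNi ⟨e⟩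
  refine ⟨hNi, fun J hJr hJc hJ => ?_⟩
  have h1 := (sub_numerics k hdim hW t hrep hWe J hJ).1
  have h2 := (delta_eq k hdim hX J hJ).1
  have h3 := deg_idealPoints k hdim.le P hP hpts hsm hI J hJ
  have h4 := deg_sub_tensor k hdim.le J hW hNi
  have h5 := deg_sub_tensor k hdim.le J hNi hI
  have h6 := deg_sub_structure k J
  letI : J.subscheme.Over (Spec (CommRingCat.of k)) := ⟨J.subschemeι ≫ (X ↘ Spec (CommRingCat.of k))⟩
  rw [deg_congr k ((Scheme.Modules.pullback J.subschemeι).mapIso e) 1] at h5
  omega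

include k in
/-- An irreducible closed curve in a curve is a component. -/
theorem mem_components (hdim : topologicalKrullDim X ≤ 1) {C : Closeds X} (hC : IsIrreducible (C : Set X))
    (hd : topologicalKrullDim (C : Set X) = 1) : (C : Set X) ∈ irreducibleComponents X := by
  haveI := EulerLib.isNoetherian_of_proper k (X := X)
  by_contra h
  have hlt := dim_lt_one_of_noGeneric hdim C.isClosed fun D hD η hη hmem => h ?_
  · rw [hd] at hlt
    exact absurd hlt (by decide)
  · have hsub : (D : Set X) ⊆ C := hη.def ▸ closure_minimal (Set.singleton_subset_iff.2 hmem) C.isClosed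
    rw [show (C : Set X) = D from Set.Subset.antisymm (hD.2 hC hsub) hsub]
    exact hD

/-- Semistability makes the degrees on all subcurves nonnegative. -/
theorem deg_nonneg [IsReduced X] [ConnectedSpace X] (hdim : topologicalKrullDim X = 1) {M : X.Modules}
    (hM : PicF.IsInvertible M) (b q : Set X → ℕ)
    (hdeg : ∀ J : X.IdealSheafData, IsReduced J.subscheme → ConnectedSpace J.subscheme →
      topologicalKrullDim J.subscheme = 1 →
      @Curv2.deg k _ J.subscheme ⟨J.subschemeι ≫ (X ↘ Spec (CommRingCat.of k))⟩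
        ((Scheme.Modules.pullback J.subschemeι).obj M) 1 =
      2 * (@Curv2.genus k _ J.subscheme ⟨J.subschemeι ≫ (X ↘ Spec (CommRingCat.of k))⟩ : ℤ) - 2 +
        (b (J.support : Set X) : ℤ) + (q (J.support : Set X) : ℤ))
    (hss : ∀ (E : Set X) (hE : E ∈ irreducibleComponents (X : Type u)),
      Subsingleton (Coh.HH (Scheme.IdealSheafData.vanishingIdeal ⟨E, isClosed_of_mem_irreducibleComponents E hE⟩).subscheme
        (Coh.structureModule (Scheme.IdealSheafData.vanishingIdeal ⟨E, isClosed_of_mem_irreducibleComponents E hE⟩).subscheme) 1) →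
        2 ≤ b E + q E)
    (T : X.IdealSheafData) :
    0 ≤ @Curv2.deg k _ T.subscheme ⟨T.subschemeι ≫ (X ↘ Spec (CommRingCat.of k))⟩
        ((Scheme.Modules.pullback T.subschemeι).obj M) 1 := by
  refine deg_union_nonneg k hdim.le hM (fun C hC hd => ?_) T
  have hCc : (C : Set X) ∈ irreducibleComponents X := mem_components k hdim.le hC hd
  let J := red C
  haveI : IsIntegral J.subscheme := VarietyLib.isIntegral_vanishingIdeal C hC
  have hJd : topologicalKrullDim J.subscheme = 1 := (VarietyLib.topologicalKrullDim_vanishingIdeal C).trans hd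
  have h := hdeg J inferInstance inferInstance hJd
  rw [Scheme.IdealSheafData.coe_support_vanishingIdeal] at h
  letI : J.subscheme.Over (Spec (CommRingCat.of k)) := ⟨J.subschemeι ≫ (X ↘ Spec (CommRingCat.of k))⟩
  by_cases hg : Curv2.genus k J.subscheme = 0
  · haveI : IsProper (J.subscheme ↘ Spec (CommRingCat.of k)) :=
      inferInstanceAs (IsProper (J.subschemeι ≫ (X ↘ Spec (CommRingCat.of k))))
    haveI := EulerLib.isNoetherian_of_proper k (X := J.subscheme)
    haveI := finite_HH_of_isCoh k (isCoh_structureModule J.subscheme) 1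
    have h2 := hss C hCc ((Module.finrank_zero_iff (R := k)).1 hg)
    change 0 ≤ Curv2.deg k J.subscheme ((Scheme.Modules.pullback J.subschemeι).obj M) 1
    omega
  · change 0 ≤ Curv2.deg k J.subscheme ((Scheme.Modules.pullback J.subschemeι).obj M) 1
    omega

end Groth.Agent.TFPush7.PointedNum
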