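import Groth.Agent.TFPush7.CFHR
import Groth.Agent.TFPush7.PointedNum
import Groth.Agent.DualMod3.Criterion
import Groth.Agent.AbCubeLib.AmpleOfFiniteKL

/-!
# Global generation from the degrees on subcurves
-/

set_option autoImplicit false
set_option linter.style.haveILetI false
set_option linter.unusedSectionVars false
set_option backward.isDefEq.respectTransparency false
set_option backward.isDefEq.respectTransparency.types false
set_option maxHeartbeats 1000000

universe u

open CategoryTheory CategoryTheory.Limits AlgebraicGeometry TopologicalSpace Opposite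
open Groth.Agent.Coherent Groth.Agent.PicLib Groth.Agent.AmpleLib Groth.Agent.EulerLib Groth.Agent.CurveRR24
open Groth.Agent.Subcurves24 Groth.Agent.DualMod3

namespace Groth.Agent.TFPush7.PointGG

variable {X : Scheme.{u}} (k : Type u) [Field k] [X.Over (Spec (CommRingCat.of k))]
  [IsProper (X ↘ Spec (CommRingCat.of k))]

include k in
/-- `H¹(m_x ⊗ L) = 0` at all closed points gives global generation. -/
theorem isGloballyGenerated_of_h1 {L : X.Modules} (hL : PicF.IsInvertible L)
    (h : ∀ (x : X) (hx : IsClosed ({x} : Set X)),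
      Subsingleton (Coh.HH X (CohB1.tensorMod (ClSub.idealMod (red ⟨{x}, hx⟩)) L) 1)) :
    Curv2.IsGloballyGenerated L := by
  haveI := isNoetherian_of_proper k (X := X)
  refine AbCubeLib.isGloballyGenerated_of_glocus fun z => ?_
  haveI : JacobsonSpace X := LocallyOfFiniteType.jacobsonSpace (X ↘ Spec (CommRingCat.of k))
  obtain ⟨x, hzx, hx⟩ := (nonempty_inter_closedPoints (Z := closure ({z} : Set X)) ⟨z, subset_closure rfl⟩
    isClosed_closure.isLocallyClosed)
  let D : Closeds X := ⟨{x}, hx⟩
  have hxs : x ∈ ((red D).support : Set X) := by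
    rw [Scheme.IdealSheafData.coe_support_vanishingIdeal]; exact rfl
  obtain ⟨U, hxU, g, hg⟩ := exists_isGen hL x
  obtain ⟨s, hs, -⟩ := DualMod3.exists_section_lift k hL (red D) (h x hx) hx hxU
    (fun y _ hy => by
      rw [Scheme.IdealSheafData.coe_support_vanishingIdeal] at hy
      exact hy) g (IsLocalRing.maximalIdeal _)
    (fun W f hW hf hu => by
      obtain ⟨c, hc⟩ := (mem_range_idealModι (red D) W f).2 hf
      exact basicOpen_idealModι_le (I := red D) W c
        (show x ∈ X.basicOpen _ by rw [hc]; exact (X.mem_basicOpen f x hW).2 hu) hxs)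
  refine ⟨s, (specializes_iff_mem_closure.2 hzx).mem_open (glocus L s).2 ?_⟩
  refine (mem_glocus_iff_germ hL s x).2 fun hm => ?_
  have h2 := Submodule.sub_mem _ hm hs
  rw [sub_sub_cancel, ← one_smul (X.presheaf.stalk x) (L.presheaf.germ U x hxU g),
    EmbLib24.mem_smul_top_iff _ (EmbLib24.bijective_smul_germ hg hxU)] at h2
  exact (IsLocalRing.maximalIdeal.isMaximal (X.presheaf.stalk x)).ne_top ((Ideal.eq_top_iff_one _).2 h2)

variable [IsAlgClosed k] [IsReduced X] [ConnectedSpace X]

include k in
/-- Degree at least `2g` on every connected subcurve gives global generation. -/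
theorem isGloballyGenerated_of_deg (hdim : topologicalKrullDim X = 1) {L : X.Modules} (hL : PicF.IsInvertible L)
    (h : ∀ J : X.IdealSheafData, IsReduced J.subscheme → ConnectedSpace J.subscheme →
      topologicalKrullDim J.subscheme = 1 →
      2 * (@Curv2.genus k _ J.subscheme ⟨J.subschemeι ≫ (X ↘ Spec (CommRingCat.of k))⟩ : ℤ) ≤
        @Curv2.deg k _ J.subscheme ⟨J.subschemeι ≫ (X ↘ Spec (CommRingCat.of k))⟩
          ((Scheme.Modules.pullback J.subschemeι).obj L) 1) :
    Curv2.IsGloballyGenerated L := by
  haveI := isNoetherian_of_proper k (X := X)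
  refine isGloballyGenerated_of_h1 k hL fun x hx => ?_
  by_contra hne
  rw [not_subsingleton_iff_nontrivial] at hne
  obtain ⟨ω, t, hω, hrep⟩ := CFHR.exists_pair k X hdim.le
  let D : Closeds X := ⟨{x}, hx⟩
  have hpts : ∀ y ∈ (D : Set X), IsClosed ({y} : Set X) := fun y hy => by
    rw [show y = x from hy]; exact hx
  have hZ : topologicalKrullDim ((red D).support : Set X) ≤ 0 := by
    rw [Scheme.IdealSheafData.coe_support_vanishingIdeal]
    exact VarietyLib.dim_le_zero_of_closed_points D.isClosed hpts
  obtain ⟨J, hJr, hJc, hJd, hJ⟩ := CFHR.exists_subcurve k hrep hω hdim (red D) hL hZ hne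
  have h1 := h J hJr hJc hJd
  have h2 := euler_structure_sub k J hJd
  have h3 : Module.finrank k (Coh.HH X (ClSub.quotMod (red D ⊔ J)) 0) ≤ 1 := by
    rw [PointedNum.red_sup_eq (Set.finite_singleton x) hpts J, (PointedNum.quot_points k hdim.le (D ⊓ J.support)
      ((Set.finite_singleton x).subset Set.inter_subset_left) fun y hy => hpts y hy.1).1]
    refine le_trans (Set.ncard_le_ncard (Set.inter_subset_left (s := ({x} : Set X))) (Set.finite_singleton x)) ?_
    rw [Set.ncard_singleton]
  rw [h2] at hJ
  omega

end Groth.Agent.TFPush7.PointGG
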