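import Groth.Agent.TFPush7.PointedNum
import Groth.Agent.TFPush7.PointGG
import Groth.Agent.Hyper24.BiratH1

/-!
# Numerics of pointed semistable nodal curves
-/

set_option autoImplicit false
set_option linter.style.haveILetI false
set_option linter.unusedSectionVars false
set_option backward.isDefEq.respectTransparency false
set_option backward.isDefEq.respectTransparency.types false
set_option maxHeartbeats 1000000

universe u

open CategoryTheory CategoryTheory.Limits AlgebraicGeometry TopologicalSpace Opposite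
open Groth.Agent.Coherent Groth.Agent.PicLib Groth.Agent.AmpleLib Groth.Agent.EulerLib Groth.Agent.CurveRR24
open Groth.Agent.Subcurves24 Groth.Agent.DualMod3

namespace Groth.Agent.TFPush7.PointedSemi

variable (k : Type u) [Field k] [IsAlgClosed k] (X : Scheme.{u}) [X.Over (Spec (CommRingCat.of k))]
    [IsProper (X ↘ (Spec (CommRingCat.of k)))] [IsReduced X] [ConnectedSpace X]

/-- Degrees and invariants for `ω(p_1 + ⋯ + p_n)`. -/
theorem setup (hdim : topologicalKrullDim X = 1) (hX : Curv2.AtWorstNodal k X)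
    (n : ℕ) (p : Fin n → X) (hpinj : Function.Injective p) (hpcl : ∀ i, IsClosed ({p i} : Set X))
    (hpsm : ∀ i, ∃ U : X.Opens, p i ∈ U ∧ Smooth (U.ι ≫ (X ↘ (Spec (CommRingCat.of k)))))
    (N : X.Modules) (hN : ClSub.IsInverseOf N (ClSub.idealMod
      (Scheme.IdealSheafData.vanishingIdeal ⟨⋃ i, ({p i} : Set X), isClosed_iUnion_of_finite hpcl⟩)))
    [DCoh.HasRpush (X ↘ (Spec (CommRingCat.of k)))] (h : DCoh.RpushPreservesQCoh (X ↘ (Spec (CommRingCat.of k))))
    [DCoh.HasShriek (X ↘ (Spec (CommRingCat.of k))) h]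
    (OY : DCoh.DQCoh (Spec (CommRingCat.of k)))
    (hOY : Nonempty (OY.obj ≅ DCoh.inD (Spec (CommRingCat.of k)) (Coh.structureModule (Spec (CommRingCat.of k)))))
    (M : X.Modules) (hM : Nonempty (M ≅ CohB1.tensorMod (DCoh.dualizingMod (X ↘ (Spec (CommRingCat.of k))) h OY 1) N)) :
    PicF.IsInvertible M ∧
    (∃ (W : X.Modules) (_ : PicF.IsInvertible W) (t : Coh.HH X W 1 →ₗ[k] k),
      (∀ F : X.Modules, Coh.IsQCoh F → SerreDual.Rep t F) ∧
      Curv2.euler k X W = - Curv2.euler k X (Coh.structureModule X)) ∧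
    ∀ J : X.IdealSheafData, IsReduced J.subscheme → ConnectedSpace J.subscheme →
      topologicalKrullDim J.subscheme = 1 →
      @Curv2.deg k _ J.subscheme ⟨J.subschemeι ≫ (X ↘ Spec (CommRingCat.of k))⟩
        ((Scheme.Modules.pullback J.subschemeι).obj M) 1 =
      2 * (@Curv2.genus k _ J.subscheme ⟨J.subschemeι ≫ (X ↘ Spec (CommRingCat.of k))⟩ : ℤ) - 2 +
        (((J.support : Set X) ∩ closure (J.support : Set X)ᶜ).ncard : ℤ) + ((p ⁻¹' (J.support : Set X)).ncard : ℤ) ∧
      (((J.support : Set X) ∩ closure (J.support : Set X)ᶜ).ncard = 0 →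
        @Curv2.genus k _ J.subscheme ⟨J.subschemeι ≫ (X ↘ Spec (CommRingCat.of k))⟩ = Curv2.genus k X ∧
        (p ⁻¹' (J.support : Set X)).ncard = n) := by
  haveI := EulerLib.isNoetherian_of_proper k (X := X)
  obtain ⟨-, -, hW, ⟨t, ht⟩, hWe, -⟩ := nodal_setup k hdim (CurveRR24.h0_structure k) hX h OY hOY
  let W := DCoh.dualizingMod (X ↘ (Spec (CommRingCat.of k))) h OY 1
  let P : Closeds X := ⟨⋃ i, ({p i} : Set X), isClosed_iUnion_of_finite hpcl⟩
  have hPr : (P : Set X) = Set.range p := Set.iUnion_singleton_eq_range p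
  obtain ⟨hNi, hdeg⟩ := PointedNum.deg_twisted k hdim hX hW t ht hWe P (hPr ▸ Set.finite_range p)
    (fun x hx => by rw [hPr] at hx; obtain ⟨i, rfl⟩ := hx; exact hpcl i)
    (fun x hx => by rw [hPr] at hx; obtain ⟨i, rfl⟩ := hx; exact hpsm i) (N := N) hN
  obtain ⟨e⟩ := hM
  refine ⟨glocus_isInvertible_of_iso e.symm (isInvertible_tensorMod hW hNi), ⟨W, hW, t, ht, hWe⟩,
    fun J hJr hJc hJ => ⟨?_, fun hb => ?_⟩⟩
  · have h1 := hdeg J hJr hJc hJ
    letI : J.subscheme.Over (Spec (CommRingCat.of k)) := ⟨J.subschemeι ≫ (X ↘ Spec (CommRingCat.of k))⟩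
    rw [deg_congr k ((Scheme.Modules.pullback J.subschemeι).mapIso e) 1]
    have hc : ((P : Set X) ∩ (J.support : Set X)).ncard = (p ⁻¹' (J.support : Set X)).ncard := by
      rw [hPr, Set.inter_comm, ← Set.image_preimage_eq_inter_range, Set.ncard_image_of_injective _ hpinj]
    rw [hc] at h1
    exact h1
  · have h0 : delta k J = 0 := (PointedNum.delta_eq k hdim hX J hJ).1.trans hb
    refine ⟨((sub_numerics k hdim hW t ht hWe J hJ).2 h0).1, ?_⟩
    obtain rfl := eq_bot_of_delta_eq_zero k J h0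
    rw [Scheme.IdealSheafData.support_bot]
    simp

omit [IsAlgClosed k] [IsReduced X] [ConnectedSpace X] in
/-- A subcurve has at most the genus of the curve. -/
theorem genus_le (hdim : topologicalKrullDim X ≤ 1) (J : X.IdealSheafData) :
    @Curv2.genus k _ J.subscheme ⟨J.subschemeι ≫ (X ↘ (Spec (CommRingCat.of k)))⟩ ≤ Curv2.genus k X := by
  letI : J.subscheme.Over (Spec (CommRingCat.of k)) := ⟨J.subschemeι ≫ (X ↘ (Spec (CommRingCat.of k)))⟩
  haveI := EulerLib.isNoetherian_of_proper k (X := X)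
  haveI : IsProper (J.subscheme ↘ Spec (CommRingCat.of k)) :=
    inferInstanceAs (IsProper (J.subschemeι ≫ (X ↘ (Spec (CommRingCat.of k)))))
  haveI := EulerLib.isNoetherian_of_proper k (X := J.subscheme)
  haveI : Coh.IsQCoh (Coh.structureModule J.subscheme) := isQCoh_structureModule
  haveI : Epi (ClSub.toSubscheme J) := CurveRR24.epi_toSubscheme _
  show Module.finrank k (Coh.HH J.subscheme (Coh.structureModule J.subscheme) 1) ≤ _
  rw [(SerreDual.hpush J.subschemeι k rfl (Coh.structureModule J.subscheme) 1).finrank_eq]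
  refine Hyper24.finrank_h1_le_of_finite_cokernel k hdim (ClSub.toSubscheme J) (isCoh_structureModule X)
    (isCoh_quotMod J) Set.finite_empty (fun z hz => hz.elim) ?_
  exact support_of_isZero (isZero_cokernel_of_epi (ClSub.toSubscheme J)) ∅

end Groth.Agent.TFPush7.PointedSemi
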