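import Groth.Agent.TFPush7.TreeSeq
import Groth.Agent.TFPush7.PointedSemi
import Groth.Agent.CohDer1.FKExact
import Groth.Agent.BlowUpCoh.IdealPush
import Groth.Agent.Surf15.SerreDual
import Groth.Agent.Inters29.Length

/-!
# Growing a connected subcurve of a curve of genus zero
-/

set_option autoImplicit false
set_option linter.style.haveILetI false
set_option linter.unusedSectionVars false
set_option backward.isDefEq.respectTransparency false
set_option backward.isDefEq.respectTransparency.types false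
set_option maxHeartbeats 1000000

universe u

open CategoryTheory CategoryTheory.Limits AlgebraicGeometry TopologicalSpace Opposite
open Groth.Agent.Coherent Groth.Agent.PicLib Groth.Agent.AmpleLib Groth.Agent.EulerLib Groth.Agent.CurveRR24
open Groth.Agent.Subcurves24 Groth.Agent.DualMod3 Groth.Agent.CAlgH3.ModCohSeq

attribute [local instance] HasDerivedCategory.standard

namespace Groth.Agent.TFPush7.TreeGrow

variable {X : Scheme.{u}}

/-- `0 → I₁ ∩ I₂ → I₂ → (I₁ + I₂)/I₁ → 0`. -/
theorem exists_seq (C₁ C₂ : X.IdealSheafData) :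
    ∃ S : ShortComplex X.Modules, S.ShortExact ∧ Nonempty (S.X₁ ≅ ClSub.idealMod (C₂ ⊓ C₁)) ∧
      S.X₂ = ClSub.idealMod C₂ ∧
      S.X₃ = (Coh.push C₁.subschemeι).obj (ClSub.idealMod (C₂.comap C₁.subschemeι)) := by
  let ι := C₁.subschemeι
  let P := C₂.comap ι
  have hP : P.map ι = C₂ ⊔ C₁ := by
    rw [Inters29.map_comap_eq_sup, Scheme.IdealSheafData.ker_subschemeι]
  let F := Scheme.Modules.pushforward ι
  haveI : PreservesLimitsOfSize.{0, 0} F :=
    (Scheme.Modules.pullbackPushforwardAdjunction ι).rightAdjoint_preservesLimits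
  haveI : Mono (ClSub.idealModι C₂) := inferInstanceAs (Mono (kernel.ι (ClSub.toSubscheme C₂)))
  let a : ClSub.idealMod C₂ ⟶ F.obj (Coh.structureModule C₁.subscheme) :=
    ClSub.idealModι C₂ ≫ ClSub.toSubscheme C₁
  let c := F.map (ClSub.toSubscheme P)
  have hmem : ∀ (U : X.Opens) (hU : IsAffineOpen U) (r : Γ(X, U)),
      c.app U ((ClSub.toSubscheme C₁).app U r) = 0 ↔ r ∈ C₂.ideal ⟨U, hU⟩ ⊔ C₁.ideal ⟨U, hU⟩ := fun U hU r => by
    show (ClSub.toSubscheme P).app (ι ⁻¹ᵁ U) (ι.app U r) = 0 ↔ _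
    rw [toSub_affine_eq_zero_iff P ⟨ι ⁻¹ᵁ U, hU.preimage ι⟩, ← Pi.sup_apply, ← Scheme.IdealSheafData.ideal_sup,
      ← hP, Scheme.IdealSheafData.ideal_map_of_isAffineHom]
    exact Iff.rfl
  have w : a ≫ c = 0 := RelVALib.hom_ext_affine _ _ fun U hU x =>
    (hmem U hU _).2 (Ideal.mem_sup_left ((toSub_affine_eq_zero_iff C₂ ⟨U, hU⟩ _).1
      (kernel_ι_app_zero (ClSub.toSubscheme C₂) U x)))
  let b : F.obj (ClSub.idealMod P) ⟶ F.obj (Coh.structureModule C₁.subscheme) := F.map (ClSub.idealModι P)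
  haveI : Mono (ClSub.idealModι P) := inferInstanceAs (Mono (kernel.ι (ClSub.toSubscheme P)))
  haveI : Mono b := inferInstanceAs (Mono (F.map _))
  let hlim := KernelFork.mapIsLimit _ (shortExact_ideal P).fIsKernel F
  obtain ⟨u, hu⟩ : ∃ u : ClSub.idealMod C₂ ⟶ F.obj (ClSub.idealMod P), u ≫ b = a :=
    ⟨_, (KernelFork.IsLimit.lift' hlim a w).2⟩
  haveI : Epi u := by
    refine Existence.epi_of_affine_surjective u fun U hU v => ?_
    obtain ⟨α, hα⟩ := C₁.subschemeι_app_surjective ⟨U, hU⟩ (b.app U v)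
    have hα' : (ClSub.toSubscheme C₁).app U (show Γ(Coh.structureModule X, U) from α) = b.app U v := hα
    have h0 : c.app U ((ClSub.toSubscheme C₁).app U (show Γ(Coh.structureModule X, U) from α)) = 0 := by
      rw [hα']
      exact kernel_ι_app_zero (ClSub.toSubscheme P) (ι ⁻¹ᵁ U) v
    obtain ⟨i₁, h₁, i₂, h₂, hsum⟩ := Submodule.mem_sup.1 ((hmem U hU α).1 h0)
    obtain ⟨m, hm⟩ := kernel_sections_exact (ClSub.toSubscheme C₂) (show Γ(Coh.structureModule X, U) from i₁)
      ((toSub_affine_eq_zero_iff C₂ ⟨U, hU⟩ _).2 h₁)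
    refine ⟨m, app_injective_of_mono b U ?_⟩
    refine (congrArg (fun t : ClSub.idealMod C₂ ⟶ F.obj (Coh.structureModule C₁.subscheme) => t.app U m) hu).trans ?_
    show (ClSub.toSubscheme C₁).app U ((kernel.ι (ClSub.toSubscheme C₂)).app U m) = _
    rw [hm, ← hα', ← hsum]
    refine Eq.trans ?_ (map_add ((ClSub.toSubscheme C₁).app U).hom
      (show Γ(Coh.structureModule X, U) from i₁) (show Γ(Coh.structureModule X, U) from i₂)).symm
    rw [(toSub_affine_eq_zero_iff C₁ ⟨U, hU⟩ (show Γ(Coh.structureModule X, U) from i₂)).2 h₂, add_zero]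
  let S : ShortComplex X.Modules := ShortComplex.mk (kernel.ι u) u (kernel.condition u)
  refine ⟨S, { exact := S.exact_of_f_is_kernel (kernelIsKernel u), mono_f := inferInstance, epi_g := ‹_› },
    ?_, rfl, rfl⟩
  refine BlowUpCoh.nonempty_iso_idealMod_of_basis (C₂ ⊓ C₁) (kernel.ι u ≫ ClSub.idealModι C₂)
    (fun V => IsAffineOpen V) X.isBasis_affineOpens (fun _ h => h) fun V hV r => ?_
  rw [Scheme.IdealSheafData.ideal_inf, Pi.inf_apply, Submodule.mem_inf]
  constructor
  · rintro ⟨x, rfl⟩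
    refine ⟨(toSub_affine_eq_zero_iff C₂ ⟨V, hV⟩ _).1 (kernel_ι_app_zero (ClSub.toSubscheme C₂) V _),
      (toSub_affine_eq_zero_iff C₁ ⟨V, hV⟩ _).1 ?_⟩
    show a.app V ((kernel.ι u).app V x) = 0
    rw [← hu]
    show b.app V (u.app V ((kernel.ι u).app V x)) = 0
    rw [kernel_ι_app_zero u V x, map_zero]
  · rintro ⟨h₂, h₁⟩
    obtain ⟨m, hm⟩ := kernel_sections_exact (ClSub.toSubscheme C₂) (show Γ(Coh.structureModule X, V) from r)
      ((toSub_affine_eq_zero_iff C₂ ⟨V, hV⟩ _).2 h₂)
    obtain ⟨x, hx⟩ := kernel_sections_exact u (U := V) m (app_injective_of_mono b V (by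
      rw [map_zero]
      refine (congrArg (fun t : ClSub.idealMod C₂ ⟶ F.obj (Coh.structureModule C₁.subscheme) => t.app V m) hu).trans ?_
      show (ClSub.toSubscheme C₁).app V ((kernel.ι (ClSub.toSubscheme C₂)).app V m) = 0
      rw [hm]
      exact (toSub_affine_eq_zero_iff C₁ ⟨V, hV⟩ _).2 h₁))
    refine ⟨x, ?_⟩
    show (kernel.ι (ClSub.toSubscheme C₂)).app V ((kernel.ι u).app V x) = r
    rw [hx, hm]

theorem isZero_idealMod_bot : IsZero (ClSub.idealMod (⊥ : X.IdealSheafData)) := by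
  haveI : Mono (ClSub.idealModι (⊥ : X.IdealSheafData)) := inferInstanceAs (Mono (kernel.ι (ClSub.toSubscheme _)))
  refine (IsZero.iff_id_eq_zero _).2 (RelVALib.hom_ext_affine _ _ fun U hU x => ?_)
  refine app_injective_of_mono (ClSub.idealModι (⊥ : X.IdealSheafData)) U (Eq.trans ?_ (map_zero _).symm)
  have h := (toSub_affine_eq_zero_iff (⊥ : X.IdealSheafData) ⟨U, hU⟩ _).1
    (kernel_ι_app_zero (ClSub.toSubscheme ⊥) U x)
  rw [Scheme.IdealSheafData.ideal_bot, Pi.bot_apply, Ideal.mem_bot] at h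
  exact h

variable (k : Type u) [Field k] [X.Over (Spec (CommRingCat.of k))] [IsProper (X ↘ Spec (CommRingCat.of k))]

include k in
/-- No `H¹` for the twist of a globally generated module by an ideal without `H¹`. -/
theorem subsingleton_h1_tensor (hdim : topologicalKrullDim X ≤ 1) {G I : X.Modules} [Coh.IsQCoh G]
    (hG : Curv2.IsGloballyGenerated G) (hI : Coh.IsQCoh I) (h1 : Subsingleton (Coh.HH X I 1)) :
    Subsingleton (Coh.HH X (CohB1.tensorMod G I) 1) := by
  obtain ⟨ω, t, hω, hrep⟩ := CFHR.exists_pair k X hdim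
  haveI := hI
  haveI hT : Coh.IsQCoh (CohB1.tensorMod G I) := isQCoh_tensorMod _ _
  haveI : Subsingleton (Module.Dual k (Coh.HH X I 1)) := by
    refine subsingleton_of_forall_eq 0 fun l => LinearMap.ext fun v => ?_
    rw [Subsingleton.elim v 0, map_zero, LinearMap.zero_apply]
  haveI hIω : Subsingleton (I ⟶ ω) := (SerreDual.dualEquiv t (hrep I hI)).toEquiv.subsingleton
  obtain ⟨ι, p, hp⟩ := hG
  haveI := CohDer1.FKExact.preservesColimits_tensorRightMod I
  haveI : Subsingleton (CohB1.tensorMod G I ⟶ ω) := subsingleton_of_forall_eq 0 fun φ => by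
    refine (cancel_epi ((DCoh.tensorRightMod I).map p)).1 (Eq.trans ?_ comp_zero.symm)
    refine Cofan.IsColimit.hom_ext
      (isColimitCofanMkObjOfIsColimit (DCoh.tensorRightMod I) _ _ (SheafOfModules.isColimitFreeCofan ι)) _ _ fun i => ?_
    exact (cancel_epi (unitTensorIso I).inv).1 (Subsingleton.elim (α := I ⟶ ω) _ _)
  haveI : Subsingleton (Module.Dual k (Coh.HH X (CohB1.tensorMod G I) 1)) :=
    (SerreDual.dualEquiv t (hrep _ hT)).symm.toEquiv.subsingleton
  refine subsingleton_of_forall_eq 0 fun v => ?_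
  haveI : Module.Free k (Coh.HH X (CohB1.tensorMod G I) 1) := Module.Free.of_divisionRing k _
  exact (Module.forall_dual_apply_eq_zero_iff k v).1 fun l => by
    rw [Subsingleton.elim l 0, LinearMap.zero_apply]

variable [IsAlgClosed k] [IsReduced X] [ConnectedSpace X]

/-- The ideal of a connected subcurve has no `H¹`. -/
theorem subsingleton_h1_idealMod (hdim : topologicalKrullDim X = 1) (hg : Curv2.genus k X = 0) (T : Closeds X)
    (hc : _root_.IsConnected (T : Set X)) (hd : topologicalKrullDim (T : Set X) = 1) :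
    Subsingleton (Coh.HH X (ClSub.idealMod (red T)) 1) := by
  haveI := EulerLib.isNoetherian_of_proper k (X := X)
  haveI := isSeparated_of_proper (X := X) k
  haveI : IsReduced (red T).subscheme := Props12.isReduced_subscheme_vanishingIdeal T
  haveI : ConnectedSpace (red T).subscheme := by
    haveI := Subtype.connectedSpace hc
    have e := (red T).subschemeι.isEmbedding.toHomeomorph.trans (Homeomorph.setCongr (range_red T))
    exact e.symm.surjective.connectedSpace e.symm.continuous
  have hd' : topologicalKrullDim (red T).subscheme = 1 := (VarietyLib.topologicalKrullDim_vanishingIdeal T).trans hd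
  have e1 := euler_structure_sub k (red T) hd'
  have e2 := PointedSemi.genus_le k X hdim.le (red T)
  have e3 := euler_quot k (red T)
  have e4 := euler_structure k (X := X) hdim.le
  rw [h0_structure k] at e4
  have cI := CurveRR24.isCoh_idealMod' (red T)
  have e5 := euler_additive k X _ (shortExact_ideal (red T)) cI (isCoh_structureModule X) (isCoh_quotMod (red T))
  change Curv2.euler k X (Coh.structureModule X) =
    Curv2.euler k X (ClSub.idealMod (red T)) + Curv2.euler k X (ClSub.quotMod (red T)) at e5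
  have e6 := euler_eq_h0_sub_h1 k hdim.le (ClSub.idealMod (red T)) cI.1
  have h0 : Subsingleton (Coh.HH X (ClSub.idealMod (red T)) 0) := by
    refine (hhZero k (ClSub.idealMod (red T))).toEquiv.subsingleton_congr.2
      (subsingleton_of_forall_eq 0 fun (s : Γ(ClSub.idealMod (red T), ⊤)) => ?_)
    haveI : Mono (ClSub.idealModι (red T)) := inferInstanceAs (Mono (kernel.ι (ClSub.toSubscheme _)))
    refine app_injective_of_mono (ClSub.idealModι (red T)) ⊤ (Eq.trans ?_ (map_zero _).symm)
    let r : Γ(X, ⊤) := (ClSub.idealModι (red T)).app ⊤ s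
    have hr : (red T).subschemeι.app ⊤ r = 0 := kernel_ι_app_zero (ClSub.toSubscheme (red T)) ⊤ s
    by_contra hne
    obtain ⟨v, hv⟩ := (DualMod3.isField_sections k X).mul_inv_cancel (a := r) hne
    have h := congrArg ((red T).subschemeι.app ⊤) hv
    rw [map_mul, hr, zero_mul, map_one] at h
    obtain ⟨y⟩ := (inferInstance : Nonempty (red T).subscheme)
    haveI : Nonempty (⊤ : (red T).subscheme.Opens) := ⟨⟨y, trivial⟩⟩
    haveI := Scheme.component_nontrivial (red T).subscheme ⊤
    exact zero_ne_one (α := Γ((red T).subscheme, ⊤)) h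
  haveI := finite_HH_of_isCoh k cI 1
  refine (Module.finrank_zero_iff (R := k)).1 ?_
  rw [@Module.finrank_zero_of_subsingleton k (Coh.HH X (ClSub.idealMod (red T)) 0) _ _ _ _ h0] at e6
  omega

/-- Growing a connected subcurve. -/
theorem subsingleton_h1_step (hdim : topologicalKrullDim X = 1) (hg : Curv2.genus k X = 0)
    {F : X.Modules} (hF : FlatMod.IsFinLocFree F) (hFc : Coh.IsCoh F) (T Z : Closeds X)
    (hT : _root_.IsConnected (T : Set X)) (hTd : topologicalKrullDim (T : Set X) = 1)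
    (hgg : Curv2.IsGloballyGenerated ((Scheme.Modules.pullback (red Z).subschemeι).obj F))
    (h : Subsingleton (Coh.HH X (CohB1.tensorMod (ClSub.idealMod (red (T ⊔ Z))) F) 1)) :
    Subsingleton (Coh.HH X (CohB1.tensorMod (ClSub.idealMod (red T)) F) 1) := by
  haveI := EulerLib.isNoetherian_of_proper k (X := X)
  haveI := isSeparated_of_proper (X := X) k
  letI : (red Z).subscheme.Over (Spec (CommRingCat.of k)) := ⟨(red Z).subschemeι ≫ (X ↘ Spec (CommRingCat.of k))⟩
  haveI : IsProper ((red Z).subscheme ↘ Spec (CommRingCat.of k)) :=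
    inferInstanceAs (IsProper ((red Z).subschemeι ≫ (X ↘ Spec (CommRingCat.of k))))
  haveI := EulerLib.isNoetherian_of_proper k (X := (red Z).subscheme)
  haveI := isSeparated_of_proper (X := (red Z).subscheme) k
  have hZd : topologicalKrullDim (red Z).subscheme ≤ 1 :=
    (red Z).subschemeι.isEmbedding.isInducing.topologicalKrullDim_le.trans hdim.le
  obtain ⟨S, hS, ⟨e⟩, s₂, s₃⟩ := exists_seq (red Z) (red T)
  let P := (red T).comap (red Z).subschemeι
  have hinf : red T ⊓ red Z = red (T ⊔ Z) := (Scheme.IdealSheafData.vanishingIdeal_sup T Z).symm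
  rw [hinf] at e
  have hWd : topologicalKrullDim ((T ⊔ Z : Closeds X) : Set X) = 1 :=
    le_antisymm (Topology.IsInducing.subtypeVal.topologicalKrullDim_le.trans hdim.le)
      (hTd.ge.trans (dim_mono Set.subset_union_left))
  haveI hFq : Coh.IsQCoh F := hFc.1
  haveI := (CurveRR24.isCoh_idealMod' P).1
  haveI := (CurveRR24.isCoh_idealMod' (red (T ⊔ Z))).1
  haveI := EGA43.InjFibre.isQCoh_pullback (red Z).subschemeι F
  -- the ideal of the intersection has no `H¹`
  have hP1 : Subsingleton (Coh.HH (red Z).subscheme (ClSub.idealMod P) 1) := by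
    have h2 : V S.X₁ 2 := V_of_iso e.symm
      (subsingleton_HH_of_dim _ (d := 1) (hdim.le.trans_eq Nat.cast_one.symm) (q := 2) (by norm_num))
    have h2c : Coh.IsCoh S.X₂ := by rw [s₂]; exact CurveRR24.isCoh_idealMod' _
    have hle := Hyper24.finrank_h1_right_le k hS h2 h2c
    haveI := subsingleton_h1_idealMod k hdim hg T hT hTd
    rw [CurveRR24.finrank_HH_congr k (eqToIso s₂) 1, @Module.finrank_zero_of_subsingleton k _ _ _ _ _ this,
      CurveRR24.finrank_HH_congr k (eqToIso s₃) 1,
      ← (SerreDual.hpush (red Z).subschemeι k rfl (ClSub.idealMod P) 1).finrank_eq] at hle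
    haveI := finite_HH_of_isCoh k (CurveRR24.isCoh_idealMod' P) 1
    exact (Module.finrank_zero_iff (R := k)).1 (Nat.le_zero.1 hle)
  let N := CohB1.tensorMod ((Scheme.Modules.pullback (red Z).subschemeι).obj F) (ClSub.idealMod P)
  haveI : Coh.IsQCoh N := isQCoh_tensorMod _ _
  have hN : Subsingleton (Coh.HH (red Z).subscheme N 1) :=
    subsingleton_h1_tensor k hZd hgg inferInstance hP1
  let e₃ : CohB1.tensorMod ((Coh.push (red Z).subschemeι).obj (ClSub.idealMod P)) F ≅
      (Coh.push (red Z).subschemeι).obj N :=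
    AmpleLib.tensorComm _ _ ≪≫ (projIso (f := (red Z).subschemeι) hF).app _
  obtain ⟨S', hS', t₁, t₂, t₃⟩ := VarietyLib.exists_tensorSeq hS F fun x => by
    haveI := Props12.free_stalk_of_isFinLocFree F hF x
    infer_instance
  have e₁' : S'.X₁ ≅ CohB1.tensorMod (ClSub.idealMod (red (T ⊔ Z))) F :=
    eqToIso t₁ ≪≫ AmpleLib.tensorIso e (Iso.refl F)
  have e₂' : S'.X₂ ≅ CohB1.tensorMod (ClSub.idealMod (red T)) F :=
    eqToIso t₂ ≪≫ AmpleLib.tensorIso (eqToIso s₂) (Iso.refl F)
  have e₃' : S'.X₃ ≅ (Coh.push (red Z).subschemeι).obj N :=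
    eqToIso t₃ ≪≫ AmpleLib.tensorIso (eqToIso s₃) (Iso.refl F) ≪≫ e₃
  have h3 : V S'.X₃ 1 := V_of_iso e₃'.symm
    ((SerreDual.hpush (red Z).subschemeι k rfl N 1).symm.toEquiv.subsingleton)
  have c₁ : Coh.IsCoh S'.X₁ := isCoh_iso e₁'.symm
    ⟨isQCoh_tensorMod _ _, isFT_tensorMod _ _ (CurveRR24.isCoh_idealMod' _).2 hFc.2⟩
  have hle := Hyper24.finrank_h1_mid_le k hS' h3 c₁
  rw [CurveRR24.finrank_HH_congr k e₁' 1, CurveRR24.finrank_HH_congr k e₂' 1,
    @Module.finrank_zero_of_subsingleton k _ _ _ _ _ h] at hle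
  haveI := (CurveRR24.isCoh_idealMod' (red T)).1
  haveI := finite_HH_of_isCoh k (show Coh.IsCoh (CohB1.tensorMod (ClSub.idealMod (red T)) F) from
    ⟨isQCoh_tensorMod _ _, isFT_tensorMod _ _ (CurveRR24.isCoh_idealMod' _).2 hFc.2⟩) 1
  exact (Module.finrank_zero_iff (R := k)).1 (Nat.le_zero.1 hle)

/-- `H¹(F ⊗ I_T) = 0` if `F` is generated on the components off the connected subcurve `T`. -/
theorem subsingleton_h1 (hdim : topologicalKrullDim X = 1) (hg : Curv2.genus k X = 0)
    {F : X.Modules} (hF : FlatMod.IsFinLocFree F) (hFc : Coh.IsCoh F) :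
    ∀ (n : ℕ) (T : Closeds X), _root_.IsConnected (T : Set X) → topologicalKrullDim (T : Set X) = 1 →
      {C : Closeds X | (C : Set X) ∈ irreducibleComponents X ∧ ¬ (C : Set X) ⊆ T}.ncard ≤ n →
      (∀ C : Closeds X, (C : Set X) ∈ irreducibleComponents X → ¬ (C : Set X) ⊆ T →
        Curv2.IsGloballyGenerated ((Scheme.Modules.pullback (red C).subschemeι).obj F)) →
      Subsingleton (Coh.HH X (CohB1.tensorMod (ClSub.idealMod (red T)) F) 1) := by
  haveI := EulerLib.isNoetherian_of_proper k (X := X)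
  intro n
  induction n with
  | zero => exact fun T _ _ hn _ => base T hn
  | succ n ih =>
    intro T hT hd hn hgg
    by_cases hall : ∀ C : Closeds X, (C : Set X) ∈ irreducibleComponents X → (C : Set X) ⊆ T
    · exact base T (le_of_eq_of_le (Set.ncard_eq_zero (hfin T) |>.2
        (Set.eq_empty_of_forall_notMem fun C hC => hC.2 (hall C hC.1))) le_rfl)
    push Not at hall
    -- a component meeting `T`
    obtain ⟨C, ⟨hC, hCT⟩, hCm⟩ : ∃ C ∈ {C : Closeds X | (C : Set X) ∈ irreducibleComponents X ∧ ¬ (C : Set X) ⊆ T},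
        ((C : Set X) ∩ T).Nonempty := by
      by_contra hno
      push Not at hno
      let K : Set X := ⋃ C ∈ {C : Closeds X | (C : Set X) ∈ irreducibleComponents X ∧ ¬ (C : Set X) ⊆ T}, (C : Set X)
      have hK : IsClosed K := (hfin T).isClosed_biUnion fun C _ => C.isClosed
      obtain ⟨C₀, hC₀, hC₀T⟩ := hall
      obtain ⟨x, hx⟩ := hC₀.1.nonempty
      obtain ⟨y, hy⟩ := hT.nonempty
      obtain ⟨z, -, hzT, hzK⟩ := isPreconnected_closed_iff.1 isPreconnected_univ (T : Set X) K T.isClosed hK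
        (fun z _ => or_iff_not_imp_left.2 fun hz => by
          obtain ⟨C, hC, hzC⟩ := exists_component z
          exact Set.mem_iUnion₂.2 ⟨C, ⟨hC, fun h => hz (h hzC)⟩, hzC⟩)
        ⟨y, trivial, hy⟩ ⟨x, trivial, Set.mem_iUnion₂.2 ⟨C₀, ⟨hC₀, hC₀T⟩, hx⟩⟩
      obtain ⟨C, hC, hzC⟩ := Set.mem_iUnion₂.1 hzK
      exact (Set.eq_empty_iff_forall_notMem.1 (hno C hC)) z ⟨hzC, hzT⟩
    have hW : _root_.IsConnected ((T ⊔ C : Closeds X) : Set X) :=
      IsConnected.union (by rwa [Set.inter_comm] at hCm) hT hC.1.isConnected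
    refine subsingleton_h1_step k hdim hg hF hFc T C hT hd (hgg C hC hCT) (ih (T ⊔ C) hW
      (le_antisymm (Topology.IsInducing.subtypeVal.topologicalKrullDim_le.trans hdim.le)
        (hd.ge.trans (dim_mono Set.subset_union_left))) ?_ fun D hD hDT => hgg D hD fun h => hDT (h.trans Set.subset_union_left))
    have hlt : {D : Closeds X | (D : Set X) ∈ irreducibleComponents X ∧ ¬ (D : Set X) ⊆ (T ⊔ C : Closeds X)}.ncard <
        {D : Closeds X | (D : Set X) ∈ irreducibleComponents X ∧ ¬ (D : Set X) ⊆ T}.ncard :=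
      Set.ncard_lt_ncard ⟨fun D hD => ⟨hD.1, fun h => hD.2 (h.trans Set.subset_union_left)⟩,
        fun h => (h ⟨hC, hCT⟩).2 Set.subset_union_right⟩ (hfin T)
    omega
where
  hfin (T : Closeds X) :
      {C : Closeds X | (C : Set X) ∈ irreducibleComponents X ∧ ¬ (C : Set X) ⊆ T}.Finite := by
    haveI := EulerLib.isNoetherian_of_proper k (X := X)
    exact finite_components.subset fun C hC => hC.1
  base (T : Closeds X) (hn : {C : Closeds X | (C : Set X) ∈ irreducibleComponents X ∧ ¬ (C : Set X) ⊆ T}.ncard ≤ 0) :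
      Subsingleton (Coh.HH X (CohB1.tensorMod (ClSub.idealMod (red T)) F) 1) := by
    haveI := EulerLib.isNoetherian_of_proper k (X := X)
    have he := (Set.ncard_eq_zero (hfin T)).1 (Nat.le_zero.1 hn)
    have hu : T = ⊤ := Closeds.ext (Set.eq_univ_of_forall fun x => by
      obtain ⟨C, hC, hxC⟩ := exists_component x
      exact not_not.1 fun hx => (Set.eq_empty_iff_forall_notMem.1 he) C ⟨hC, fun h => hx (h hxC)⟩)
    have hb : red T = ⊥ := by
      rw [hu]
      show Scheme.IdealSheafData.vanishingIdeal ⊤ = ⊥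
      rw [Scheme.IdealSheafData.vanishingIdeal_top]
      exact Scheme.nilradical_eq_bot (X := X)
    rw [hb]
    exact subsingleton_HH_of_isZero (Surf15.isZero_tensorMod isZero_idealMod_bot F) 1

end Groth.Agent.TFPush7.TreeGrow

namespace Groth.Agent.TFPush7.TreeGrow

variable {X : Scheme.{u}} (k : Type u) [Field k] [IsAlgClosed k] [X.Over (Spec (CommRingCat.of k))]
  [IsProper (X ↘ Spec (CommRingCat.of k))] [IsReduced X] [ConnectedSpace X]

/-- `h¹(F) = h¹(F|T)` for a connected subcurve `T` off which `F` is generated on components. -/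
theorem finrank_h1_eq (hdim : topologicalKrullDim X = 1) (hg : Curv2.genus k X = 0)
    {F : X.Modules} (hF : FlatMod.IsFinLocFree F) (hFc : Coh.IsCoh F) (T : Closeds X)
    (hT : _root_.IsConnected (T : Set X)) (hd : topologicalKrullDim (T : Set X) = 1)
    (hgg : ∀ C : Closeds X, (C : Set X) ∈ irreducibleComponents X → ¬ (C : Set X) ⊆ T →
      Curv2.IsGloballyGenerated ((Scheme.Modules.pullback (red C).subschemeι).obj F)) :
    letI : (red T).subscheme.Over (Spec (CommRingCat.of k)) := ⟨(red T).subschemeι ≫ (X ↘ Spec (CommRingCat.of k))⟩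
    Module.finrank k (Coh.HH X F 1) =
      Module.finrank k (Coh.HH (red T).subscheme ((Scheme.Modules.pullback (red T).subschemeι).obj F) 1) := by
  letI : (red T).subscheme.Over (Spec (CommRingCat.of k)) := ⟨(red T).subschemeι ≫ (X ↘ Spec (CommRingCat.of k))⟩
  haveI := EulerLib.isNoetherian_of_proper k (X := X)
  haveI := isSeparated_of_proper (X := X) k
  haveI : IsProper ((red T).subscheme ↘ Spec (CommRingCat.of k)) :=
    inferInstanceAs (IsProper ((red T).subschemeι ≫ (X ↘ Spec (CommRingCat.of k))))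
  haveI := EulerLib.isNoetherian_of_proper k (X := (red T).subscheme)
  haveI := isSeparated_of_proper (X := (red T).subscheme) k
  have hI := subsingleton_h1 k hdim hg hF hFc _ T hT hd le_rfl hgg
  haveI hFq : Coh.IsQCoh F := hFc.1
  haveI := EGA43.InjFibre.isQCoh_pullback (red T).subschemeι F
  haveI := (CurveRR24.isCoh_idealMod' (red T)).1
  let e₃ : CohB1.tensorMod (ClSub.quotMod (red T)) F ≅
      (Coh.push (red T).subschemeι).obj ((Scheme.Modules.pullback (red T).subschemeι).obj F) :=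
    AmpleLib.tensorComm _ _ ≪≫ (projIso (f := (red T).subschemeι) hF).app _ ≪≫
      (Scheme.Modules.pushforward _).mapIso (AmpleLib.tensorComm _ _ ≪≫ unitTensorIso _)
  obtain ⟨S, hS, s₁, s₂, s₃⟩ := VarietyLib.exists_tensorSeq (shortExact_ideal (red T)) F fun x => by
    haveI := Props12.free_stalk_of_isFinLocFree F hF x
    infer_instance
  have hV1 : V S.X₁ 1 := V_of_iso (eqToIso s₁).symm hI
  have hV2 : V S.X₁ 2 := by
    haveI : Coh.IsQCoh S.X₁ := by rw [s₁]; exact isQCoh_tensorMod _ _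
    exact subsingleton_HH_of_dim S.X₁ (d := 1) (hdim.le.trans_eq Nat.cast_one.symm) (q := 2) (by norm_num)
  have h := TreeSeq.finrank_h1_eq_right k hS hV1 hV2
  rw [CurveRR24.finrank_HH_congr k (eqToIso s₂ ≪≫ unitTensorIso F) 1,
    CurveRR24.finrank_HH_congr k (eqToIso s₃ ≪≫ e₃) 1] at h
  exact h.trans (SerreDual.hpush (red T).subschemeι k rfl _ 1).symm.finrank_eq

end Groth.Agent.TFPush7.TreeGrow
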