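import Groth.Agent.DualMod3.NodeBranch
import Groth.Agent.DualMod3.Adjunction
import Groth.Agent.Hyper24.BiratH1
import Groth.Agent.VarietyLib.TensorExact
import Groth.Agent.TFPush7.PointedNum
import Groth.Agent.Surf15.CurveRestrict
import Groth.Agent.EGA43.InjFibre.Scheme

/-!
# The component sequence of a curve made of two subcurves
-/

set_option autoImplicit false
set_option linter.style.haveILetI false
set_option linter.unusedSectionVars false
set_option backward.isDefEq.respectTransparency false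
set_option backward.isDefEq.respectTransparency.types false
set_option maxHeartbeats 1000000

universe u

open CategoryTheory CategoryTheory.Limits AlgebraicGeometry TopologicalSpace Opposite
open Groth.Agent.Coherent Groth.Agent.PicLib Groth.Agent.AmpleLib Groth.Agent.EulerLib Groth.Agent.CurveRR24
open Groth.Agent.Subcurves24 Groth.Agent.DualMod3 Groth.Agent.CAlgH3.ModCohSeq

namespace Groth.Agent.TFPush7.TreeSeq

variable {X : Scheme.{u}}

/-- An ideal pushes forward to the other ideal of a union. -/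
theorem nonempty_idealMod_iso_push (C₁ C₂ : X.IdealSheafData) (hinf : C₂ ⊓ C₁ = ⊥)
    (P : C₁.subscheme.IdealSheafData) (hP : P.map C₁.subschemeι = C₂ ⊔ C₁) :
    Nonempty (ClSub.idealMod C₂ ≅ (Coh.push C₁.subschemeι).obj (ClSub.idealMod P)) := by
  let ι := C₁.subschemeι
  let F := Scheme.Modules.pushforward ι
  haveI : PreservesLimitsOfSize.{0, 0} F :=
    (Scheme.Modules.pullbackPushforwardAdjunction ι).rightAdjoint_preservesLimits
  haveI : Mono (ClSub.idealModι C₂) := inferInstanceAs (Mono (kernel.ι (ClSub.toSubscheme C₂)))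
  let a : ClSub.idealMod C₂ ⟶ F.obj (Coh.structureModule C₁.subscheme) :=
    ClSub.idealModι C₂ ≫ ClSub.toSubscheme C₁
  let c := F.map (ClSub.toSubscheme P)
  have hmem : ∀ (U : X.Opens) (hU : IsAffineOpen U) (r : Γ(X, U)),
      c.app U ((ClSub.toSubscheme C₁).app U r) = 0 ↔ r ∈ C₂.ideal ⟨U, hU⟩ ⊔ C₁.ideal ⟨U, hU⟩ := fun U hU r => by
    show (ClSub.toSubscheme P).app (ι ⁻¹ᵁ U) (ι.app U r) = 0 ↔ _
    rw [toSub_affine_eq_zero_iff P ⟨ι ⁻¹ᵁ U, hU.preimage ι⟩, ← Pi.sup_apply, ← Scheme.IdealSheafData.ideal_sup,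
      ← hP, Scheme.IdealSheafData.ideal_map_of_isAffineHom]
    exact Iff.rfl
  have w : a ≫ c = 0 := RelVALib.hom_ext_affine _ _ fun U hU x =>
    (hmem U hU _).2 (Ideal.mem_sup_left ((toSub_affine_eq_zero_iff C₂ ⟨U, hU⟩ _).1
      (kernel_ι_app_zero (ClSub.toSubscheme C₂) U x)))
  haveI : Mono a := by
    refine Preadditive.mono_of_cancel_zero a fun {Z} g hg => ?_
    refine (cancel_mono (ClSub.idealModι C₂)).1 ?_
    rw [zero_comp]
    refine Scheme.Modules.hom_ext _ _ fun V => ConcreteCategory.hom_ext _ _ fun x => ?_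
    show (ClSub.idealModι C₂).app V (g.app V x) = (0 : Γ(Coh.structureModule X, V))
    exact eq_zero_of_both hinf _ (kernel_ι_app_zero _ _ _)
      (congrArg (fun t : Z ⟶ F.obj (Coh.structureModule C₁.subscheme) => t.app V x) hg)
  let b : F.obj (ClSub.idealMod P) ⟶ F.obj (Coh.structureModule C₁.subscheme) := F.map (ClSub.idealModι P)
  haveI : Mono (ClSub.idealModι P) := inferInstanceAs (Mono (kernel.ι (ClSub.toSubscheme P)))
  haveI : Mono b := inferInstanceAs (Mono (F.map _))
  let hlim := KernelFork.mapIsLimit _ (shortExact_ideal P).fIsKernel F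
  obtain ⟨u, hu⟩ : ∃ u : ClSub.idealMod C₂ ⟶ F.obj (ClSub.idealMod P), u ≫ b = a :=
    ⟨_, (KernelFork.IsLimit.lift' hlim a w).2⟩
  haveI : Mono u := mono_of_mono_fac hu
  haveI : Epi u := by
    refine Existence.epi_of_affine_surjective u fun U hU v => ?_
    obtain ⟨α, hα⟩ := C₁.subschemeι_app_surjective ⟨U, hU⟩ (b.app U v)
    have hα' : (ClSub.toSubscheme C₁).app U (show Γ(Coh.structureModule X, U) from α) = b.app U v := hα
    have h0 : c.app U ((ClSub.toSubscheme C₁).app U (show Γ(Coh.structureModule X, U) from α)) = 0 := by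
      rw [hα']
      exact kernel_ι_app_zero (ClSub.toSubscheme P) (ι ⁻¹ᵁ U) v
    obtain ⟨i₁, h₁, i₂, h₂, hsum⟩ := Submodule.mem_sup.1 ((hmem U hU α).1 h0)
    obtain ⟨m, hm⟩ := kernel_sections_exact (ClSub.toSubscheme C₂) (show Γ(Coh.structureModule X, U) from i₁)
      ((toSub_affine_eq_zero_iff C₂ ⟨U, hU⟩ _).2 h₁)
    refine ⟨m, app_injective_of_mono b U ?_⟩
    refine (congrArg (fun t : ClSub.idealMod C₂ ⟶ F.obj (Coh.structureModule C₁.subscheme) => t.app U m) hu).trans ?_
    show (ClSub.toSubscheme C₁).app U ((kernel.ι (ClSub.toSubscheme C₂)).app U m) = _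
    rw [hm, ← hα', ← hsum]
    refine Eq.trans ?_ (map_add ((ClSub.toSubscheme C₁).app U).hom
      (show Γ(Coh.structureModule X, U) from i₁) (show Γ(Coh.structureModule X, U) from i₂)).symm
    rw [(toSub_affine_eq_zero_iff C₁ ⟨U, hU⟩ (show Γ(Coh.structureModule X, U) from i₂)).2 h₂, add_zero]
  haveI : IsIso u := isIso_of_mono_of_epi u
  exact ⟨asIso u⟩

variable (k : Type u) [Field k] [X.Over (Spec (CommRingCat.of k))] [IsProper (X ↘ Spec (CommRingCat.of k))]

/-- `h¹` of the quotient when the kernel has no `h¹`. -/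
theorem finrank_h1_eq_right {S : ShortComplex X.Modules} (hS : S.ShortExact) (h1 : V S.X₁ 1) (h1' : V S.X₁ 2) :
    Module.finrank k (Coh.HH X S.X₂ 1) = Module.finrank k (Coh.HH X S.X₃ 1) := by
  rw [(HHBaseEquiv k S.X₂ 1).finrank_eq, (HHBaseEquiv k S.X₃ 1).finrank_eq]
  haveI a : Subsingleton (HA (baseHom k X) S.X₁ (⊤ : X.Opens) 1) := (V_iff_HMod _ 1).1 h1
  haveI a' : Subsingleton (HA (baseHom k X) S.X₁ (⊤ : X.Opens) 2) := (V_iff_HMod _ 2).1 h1'
  refine (LinearEquiv.ofBijective (postA (baseHom k X) S.g (⊤ : X.Opens) 1)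
    ⟨(injective_iff_map_eq_zero _).2 fun v hv => ?_, fun x =>
      (exact_postA_deltaA (baseHom k X) hS ⊤ 1 x).1 (Subsingleton.elim _ _)⟩).finrank_eq
  obtain ⟨w, rfl⟩ := (exact_postA (baseHom k X) hS ⊤ 1 v).1 hv
  rw [Subsingleton.elim w 0, map_zero]

/-- If `H¹(F|C₁ ⊗ I_P) = 0` then `h¹(F) = h¹(F|C₂)`. -/
theorem finrank_h1_eq [IsAlgClosed k] [IsReduced X] [ConnectedSpace X] (hdim : topologicalKrullDim X = 1) (hX : Curv2.AtWorstNodal k X)
    {F : X.Modules} (hF : FlatMod.IsFinLocFree F) (hFc : Coh.IsCoh F)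
    (T₁ T₂ : Closeds X) (hcov : (T₁ : Set X) ∪ T₂ = Set.univ)
    (h₁ : (T₁ : Set X) ⊆ closure (T₂ : Set X)ᶜ)
    (h₂ : (T₂ : Set X) ⊆ closure ((T₂ : Set X) ∩ (T₁ : Set X)ᶜ))
    (P : (red T₁).subscheme.IdealSheafData) [IsReduced P.subscheme]
    (hP : ∀ x : (red T₁).subscheme, x ∈ (P.support : Set (red T₁).subscheme) ↔ (red T₁).subschemeι x ∈ (T₂ : Set X))
    (hvan : Subsingleton (Coh.HH (red T₁).subscheme
        (CohB1.tensorMod ((Scheme.Modules.pullback (red T₁).subschemeι).obj F) (ClSub.idealMod P)) 1)) :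
    letI : (red T₂).subscheme.Over (Spec (CommRingCat.of k)) := ⟨(red T₂).subschemeι ≫ (X ↘ Spec (CommRingCat.of k))⟩
    Module.finrank k (Coh.HH X F 1) =
      Module.finrank k (Coh.HH (red T₂).subscheme ((Scheme.Modules.pullback (red T₂).subschemeι).obj F) 1) := by
  haveI := EulerLib.isNoetherian_of_proper k (X := X)
  haveI := isSeparated_of_proper (X := X) k
  have hcompl : DualMod3.compl (T₂ : Set X) = T₁ := Closeds.ext (Set.Subset.antisymm
    (closure_minimal (fun z hz => ((Set.ext_iff.1 hcov z).2 trivial).resolve_right hz) T₁.isClosed) h₁)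
  have hsup : red T₂ ⊔ red T₁ = red (T₂ ⊓ T₁) := by
    have := sup_vanishing_eq k hdim (fun Z hZ => components_dim_one hdim hZ) hX T₂ (by rw [hcompl]; exact h₂)
    rwa [hcompl] at this
  have hinf : red T₂ ⊓ red T₁ = ⊥ := by
    rw [show red T₂ ⊓ red T₁ = Scheme.IdealSheafData.vanishingIdeal (T₂ ⊔ T₁) from
        (Scheme.IdealSheafData.vanishingIdeal_sup T₂ T₁).symm,
      show T₂ ⊔ T₁ = ⊤ from Closeds.ext (show (T₂ : Set X) ∪ (T₁ : Set X) = Set.univ by rw [Set.union_comm]; exact hcov),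
      Scheme.IdealSheafData.vanishingIdeal_top]
    exact Scheme.nilradical_eq_bot (X := X)
  have hmap : P.map (red T₁).subschemeι = red T₂ ⊔ red T₁ := by
    rw [hsup, DualMod3.eq_vanishingIdeal P, Scheme.IdealSheafData.map_vanishingIdeal]
    refine congrArg _ (Closeds.ext ?_)
    rw [Closeds.coe_closure, Closeds.coe_inf]
    have hr : Set.range (red T₁).subschemeι = (T₁ : Set X) := by
      rw [(red T₁).range_subschemeι, Scheme.IdealSheafData.coe_support_vanishingIdeal]
    have him : (red T₁).subschemeι '' (P.support : Set (red T₁).subscheme) = (T₂ : Set X) ∩ T₁ := by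
      rw [show (P.support : Set (red T₁).subscheme) = (red T₁).subschemeι ⁻¹' (T₂ : Set X) from Set.ext hP,
        Set.image_preimage_eq_inter_range, hr]
    rw [him]
    exact (T₂.isClosed.inter T₁.isClosed).closure_eq
  obtain ⟨e⟩ := nonempty_idealMod_iso_push (red T₁) (red T₂) hinf P hmap
  letI : (red T₂).subscheme.Over (Spec (CommRingCat.of k)) := ⟨(red T₂).subschemeι ≫ (X ↘ Spec (CommRingCat.of k))⟩
  letI : (red T₁).subscheme.Over (Spec (CommRingCat.of k)) := ⟨(red T₁).subschemeι ≫ (X ↘ Spec (CommRingCat.of k))⟩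
  haveI : IsProper ((red T₁).subscheme ↘ Spec (CommRingCat.of k)) :=
    inferInstanceAs (IsProper ((red T₁).subschemeι ≫ (X ↘ Spec (CommRingCat.of k))))
  haveI : IsProper ((red T₂).subscheme ↘ Spec (CommRingCat.of k)) :=
    inferInstanceAs (IsProper ((red T₂).subschemeι ≫ (X ↘ Spec (CommRingCat.of k))))
  haveI := EulerLib.isNoetherian_of_proper k (X := (red T₁).subscheme)
  haveI := isSeparated_of_proper (X := (red T₁).subscheme) k
  haveI := EulerLib.isNoetherian_of_proper k (X := (red T₂).subscheme)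
  haveI := isSeparated_of_proper (X := (red T₂).subscheme) k
  let N := CohB1.tensorMod ((Scheme.Modules.pullback (red T₁).subschemeι).obj F) (ClSub.idealMod P)
  let e₁ : CohB1.tensorMod (ClSub.idealMod (red T₂)) F ≅ (Coh.push (red T₁).subschemeι).obj N :=
    AmpleLib.tensorIso e (Iso.refl F) ≪≫ AmpleLib.tensorComm _ _ ≪≫ (projIso (f := (red T₁).subschemeι) hF).app _
  let e₃ : CohB1.tensorMod (ClSub.quotMod (red T₂)) F ≅
      (Coh.push (red T₂).subschemeι).obj ((Scheme.Modules.pullback (red T₂).subschemeι).obj F) :=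
    AmpleLib.tensorComm _ _ ≪≫ (projIso (f := (red T₂).subschemeι) hF).app _ ≪≫
      (Scheme.Modules.pushforward _).mapIso (AmpleLib.tensorComm _ _ ≪≫ unitTensorIso _)
  haveI hFq : Coh.IsQCoh F := hFc.1
  obtain ⟨S, hS, s₁, s₂, s₃⟩ := VarietyLib.exists_tensorSeq (shortExact_ideal (red T₂)) F fun x => by
    haveI := Props12.free_stalk_of_isFinLocFree F hF x
    infer_instance
  haveI := EGA43.InjFibre.isQCoh_pullback (red T₁).subschemeι F
  haveI := EGA43.InjFibre.isQCoh_pullback (red T₂).subschemeι F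
  haveI := (CurveRR24.isCoh_idealMod' P).1
  haveI := (CurveRR24.isCoh_idealMod' (red T₂)).1
  haveI : Coh.IsQCoh N := isQCoh_tensorMod _ _
  have hV1 : V S.X₁ 1 := V_of_iso (eqToIso s₁ ≪≫ e₁).symm
    ((SerreDual.hpush (red T₁).subschemeι k rfl N 1).symm.toEquiv.subsingleton)
  have hV2 : V S.X₁ 2 := by
    haveI : Coh.IsQCoh S.X₁ := by rw [s₁]; exact isQCoh_tensorMod _ _
    exact subsingleton_HH_of_dim S.X₁ (d := 1) (hdim.le.trans_eq Nat.cast_one.symm) (q := 2) (by norm_num)
  have h := finrank_h1_eq_right k hS hV1 hV2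
  rw [CurveRR24.finrank_HH_congr k (eqToIso s₂ ≪≫ unitTensorIso F) 1,
    CurveRR24.finrank_HH_congr k (eqToIso s₃ ≪≫ e₃) 1] at h
  exact h.trans (SerreDual.hpush (red T₂).subschemeι k rfl _ 1).symm.finrank_eq

end Groth.Agent.TFPush7.TreeSeq
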