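import Groth.Agent.TFPush7.TreeGrow
import Groth.Agent.DCat.TensorAssoc
import Groth.Agent.S2286
import Groth.Agent.BoxRes17.Surjection
import Groth.Agent.EulerPn5.TangentHyp
import Groth.Agent.ParGP23.Tensor
import Groth.Agent.S7749
import Groth.Agent.CurveRR24.GGTensor

/-!
# Global generation on trees
-/

set_option autoImplicit false
set_option linter.style.haveILetI false
set_option linter.unusedSectionVars false
set_option backward.isDefEq.respectTransparency false
set_option backward.isDefEq.respectTransparency.types false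
set_option maxHeartbeats 1000000

universe u

open CategoryTheory CategoryTheory.Limits AlgebraicGeometry TopologicalSpace Opposite
open Groth.Agent.Coherent Groth.Agent.PicLib Groth.Agent.AmpleLib Groth.Agent.EulerLib Groth.Agent.CurveRR24
open Groth.Agent.Subcurves24 Groth.Agent.DualMod3 Groth.Agent.CAlgH3.ModCohSeq

attribute [local instance] HasDerivedCategory.standard

namespace Groth.Agent.TFPush7.TreeGG

variable {X : Scheme.{u}}

/-- The direct image of a generated module along a closed immersion is generated. -/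
theorem gg_push {Y : Scheme.{u}} (i : Y ⟶ X) [IsClosedImmersion i] {M : Y.Modules} [Coh.IsQCoh M]
    (h : Curv2.IsGloballyGenerated M) : Curv2.IsGloballyGenerated ((Coh.push i).obj M) := by
  refine isGloballyGenerated_of_locally fun y => ⟨⊤, trivial, fun W _ a z hz => ?_⟩
  obtain ⟨W', hW', hzW', hle⟩ := exists_isAffineOpen_mem_and_subset (x := z) (U := W) hz
  refine ⟨W', hle, hzW', ?_⟩
  let a' : Γ(M, i ⁻¹ᵁ W') := resM ((Coh.push i).obj M) hle a
  have hb : a' ∈ globalSpan M (i ⁻¹ᵁ W') := mem_globalSpan_of_gg h (hW'.preimage i) a'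
  suffices ∀ v : Γ(M, i ⁻¹ᵁ W'), v ∈ globalSpan M (i ⁻¹ᵁ W') →
      @Membership.mem Γ((Coh.push i).obj M, W') _ _ (globalSpan ((Coh.push i).obj M) W') v from this a' hb
  intro v hv
  induction hv using Submodule.span_induction with
  | mem x hx =>
    obtain ⟨s, rfl⟩ := hx
    exact Submodule.subset_span ⟨s, rfl⟩
  | zero => exact zero_mem _
  | add x y _ _ hx hy => exact add_mem hx hy
  | smul r x _ hx =>
    obtain ⟨r', rfl⟩ := i.app_surjective W' hW' r
    exact Submodule.smul_mem _ r' hx

/-- Restricting a map out of `E` to a subscheme. -/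
theorem toSub_tensor_natural {P : X.Modules} (q : Coh.structureModule X ⟶ P) {E Q : X.Modules} (π : E ⟶ Q) :
    AmpleLib.tensorMap q (𝟙 E) ≫ AmpleLib.tensorMap (𝟙 P) π =
      (unitTensorIso E).hom ≫ π ≫ (unitTensorIso Q).inv ≫ AmpleLib.tensorMap q (𝟙 Q) := by
  have e1 : (unitTensorIso E).hom ≫ π ≫ (unitTensorIso Q).inv =
      AmpleLib.tensorMap (𝟙 (Coh.structureModule X)) π := by
    rw [← Category.assoc, Iso.comp_inv_eq]
    refine AmpleLib.hom_ext fun U a b => ?_
    show π.app U ((unitTensorIso E).hom.app U (tmul a b)) =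
      (unitTensorIso Q).hom.app U ((AmpleLib.tensorMap (𝟙 (Coh.structureModule X)) π).app U (tmul a b))
    rw [AmpleLib.tensorMap_tmul, CurveRR24.unitTensorIso_tmul', CurveRR24.unitTensorIso_tmul']
    exact π.app_smul (show Γ(X, U) from a) b
  rw [← Category.assoc π, ← Category.assoc (unitTensorIso E).hom, e1, BoxRes17.tensorMap_comp_tensorMap,
    BoxRes17.tensorMap_comp_tensorMap, Category.id_comp, Category.comp_id, Category.id_comp, Category.comp_id]

theorem epi_tensorMap_left {P P' : X.Modules} (q : P ⟶ P') [Epi q] (Q : X.Modules) :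
    Epi (AmpleLib.tensorMap q (𝟙 Q)) := by
  haveI : PreservesColimitsOfSize.{u, u} (DCoh.tensorRightMod Q) :=
    CohDer1.FKExact.preservesColimits_tensorRightMod Q
  haveI : PreservesFiniteColimits (DCoh.tensorRightMod Q) :=
    PreservesColimitsOfSize.preservesFiniteColimits _
  rw [← RelExact14.tensorRightMod_map Q q]
  infer_instance

/-- Tensoring with a locally free module keeps the ideal sequence exact. -/
theorem shortExact_tensor_right {S₀ : ShortComplex X.Modules} (hS₀ : S₀.ShortExact) {E : X.Modules}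
    (hE : FlatMod.IsFinLocFree E) : (S₀.map (DCoh.tensorRightMod E)).ShortExact := by
  haveI := hS₀.mono_f
  haveI := hS₀.epi_g
  haveI : PreservesColimitsOfSize.{u, u} (DCoh.tensorRightMod E) :=
    CohDer1.FKExact.preservesColimits_tensorRightMod E
  haveI : PreservesFiniteColimits (DCoh.tensorRightMod E) :=
    PreservesColimitsOfSize.preservesFiniteColimits _
  haveI hm : Mono ((DCoh.tensorRightMod E).map S₀.f) := by
    rw [show (DCoh.tensorRightMod E).map S₀.f = KoszTw.tensorMap S₀.f (𝟙 E) from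
      (RelExact14.tensorRightMod_map E _).trans (ParGP23.koszMap_eq _ _).symm]
    exact EulerPn5.mono_tensorMap_flat _ hE
  exact { exact := hS₀.exact.map_of_epi_of_preservesCokernel (DCoh.tensorRightMod E) inferInstance inferInstance
          mono_f := hm
          epi_g := inferInstanceAs (Epi ((DCoh.tensorRightMod E).map S₀.g)) }

variable (k : Type u) [Field k] [X.Over (Spec (CommRingCat.of k))] [IsProper (X ↘ Spec (CommRingCat.of k))]

include k in
/-- Maps from `O` lift when the kernel has no `H¹`. -/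
theorem exists_lift_unit {S : ShortComplex X.Modules} (hS : S.ShortExact) (h1 : Subsingleton (Coh.HH X S.X₁ 1))
    (t : Coh.structureModule X ⟶ S.X₃) : ∃ u : Coh.structureModule X ⟶ S.X₂, u ≫ S.g = t := by
  obtain ⟨w, hw⟩ := SerreDual.hmap_surjective_of_shortExact k hS 0 h1 ((hhZero k S.X₃).symm (unitVal t ⊤))
  let s : Γ(S.X₂, ⊤) := hhZero k S.X₂ w
  have hs : S.g.app ⊤ s = unitVal t ⊤ := by
    have h2 := congrArg (hhZero k S.X₃) hw
    rw [LinearEquiv.apply_symm_apply] at h2
    refine Eq.trans ?_ h2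
    rw [SerreDual.hmap_eq]
    show S.g.app ⊤ (secA (baseHom k X) S.X₂ (HHBaseEquiv k S.X₂ 0 w)) =
      secA (baseHom k X) S.X₃ (HHBaseEquiv k S.X₃ 0 _)
    rw [SerreDual.hhBaseEquiv_natural k S.g 0 w, secA_natural]
    rfl
  exact ⟨unitDesc S.X₂ s, Existence.unit_hom_ext (by
    show S.g.app ⊤ (unitVal (unitDesc S.X₂ s) ⊤) = _
    rw [unitVal_unitDesc, resM_self, hs])⟩

variable [IsAlgClosed k] [IsReduced X] [ConnectedSpace X]

include k in
/-- A component of generation kills the cokernel. -/
theorem tensor_cokernel_eq_zero (J : X.IdealSheafData) {E : X.Modules} (hE : FlatMod.IsFinLocFree E)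
    (h1 : Subsingleton (Coh.HH X (CohB1.tensorMod (ClSub.idealMod J) E) 1))
    (hgg : Curv2.IsGloballyGenerated (CohB1.tensorMod (ClSub.quotMod J) E))
    {Q : X.Modules} (π : E ⟶ Q) [Epi π] (hπ : ∀ u : Coh.structureModule X ⟶ E, u ≫ π = 0) :
    IsZero (CohB1.tensorMod (ClSub.quotMod J) Q) := by
  haveI : Epi (ClSub.toSubscheme J) := epi_toSubscheme _
  have hS := shortExact_tensor_right (shortExact_ideal J) hE
  obtain ⟨ι, p₃, hp₃⟩ := hgg
  let φ : CohB1.tensorMod (ClSub.quotMod J) E ⟶ CohB1.tensorMod (ClSub.quotMod J) Q :=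
    AmpleLib.tensorMap (𝟙 _) π
  let g := AmpleLib.tensorMap (ClSub.toSubscheme J) (𝟙 E)
  have hnat : g ≫ φ = _ := toSub_tensor_natural (ClSub.toSubscheme J) π
  haveI := epi_tensorMap_left (ClSub.toSubscheme J) Q
  haveI : Epi φ := by
    haveI : Epi (g ≫ φ) := by rw [hnat]; infer_instance
    exact epi_of_epi g φ
  have hφ : φ = 0 := by
    refine (cancel_epi p₃).1 (Eq.trans ?_ comp_zero.symm)
    refine freeMod_hom_ext fun i => ?_
    rw [comp_zero, ← Category.assoc]
    obtain ⟨u, hu⟩ : ∃ u : Coh.structureModule X ⟶ CohB1.tensorMod (Coh.structureModule X) E,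
        u ≫ g = freeInj i ≫ p₃ := by
      obtain ⟨u, hu⟩ := exists_lift_unit k hS h1 (freeInj i ≫ p₃)
      exact ⟨u, by rw [← hu]; exact congrArg (u ≫ ·) (RelExact14.tensorRightMod_map E _).symm⟩
    rw [← hu, Category.assoc, hnat, ← Category.assoc, ← Category.assoc, hπ, zero_comp]
  exact (IsZero.iff_id_eq_zero _).2 ((cancel_epi φ).1 (by rw [hφ, zero_comp, zero_comp]))

/-- Generation on the components of a tree gives generation. -/
theorem isGloballyGenerated (hdim : topologicalKrullDim X = 1) (hg : Curv2.genus k X = 0)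
    {E : X.Modules} (hE : FlatMod.IsFinLocFree E) (hEc : Coh.IsCoh E)
    (hgg : ∀ C : Closeds X, (C : Set X) ∈ irreducibleComponents X →
      Curv2.IsGloballyGenerated ((Scheme.Modules.pullback (red C).subschemeι).obj E)) :
    Curv2.IsGloballyGenerated E := by
  haveI := EulerLib.isNoetherian_of_proper k (X := X)
  haveI := isSeparated_of_proper (X := X) k
  haveI hEq : Coh.IsQCoh E := hEc.1
  let p : freeMod X (ULift.{u} Γ(E, ⊤)) ⟶ E := freeDesc fun s => unitDesc E s.down
  refine ⟨_, p, ?_⟩
  have hGq : Coh.IsQCoh (freeMod X (ULift.{u} Γ(E, ⊤))) :=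
    SerreDual.isQCoh_colimit X _ fun _ => Coherent.isQCoh_structureModule
  have hQ : Coh.IsCoh (cokernel p) := Coherent.isCoh_cokernel p hGq hEc
  refine Abelian.epi_of_cokernel_π_eq_zero _ ((ModStalk.isZero_of_stalks fun x => ?_).eq_of_tgt _ _)
  obtain ⟨C, hC, hxC⟩ := exists_component x
  haveI := EGA43.InjFibre.isQCoh_pullback (red C).subschemeι E
  let e₃ : CohB1.tensorMod (ClSub.quotMod (red C)) E ≅
      (Coh.push (red C).subschemeι).obj ((Scheme.Modules.pullback (red C).subschemeι).obj E) :=
    AmpleLib.tensorComm _ _ ≪≫ (projIso (f := (red C).subschemeι) hE).app _ ≪≫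
      (Scheme.Modules.pushforward _).mapIso (AmpleLib.tensorComm _ _ ≪≫ unitTensorIso _)
  have hz := tensor_cokernel_eq_zero k (red C) hE
    (TreeGrow.subsingleton_h1 k hdim hg hE hEc _ C hC.1.isConnected (components_dim_one hdim hC) le_rfl
      fun D hD _ => hgg D hD)
    (globallyGenerated_of_iso e₃.symm (gg_push _ (hgg C hC))) (cokernel.π p) (fun u => by
      rw [show u = freeInj (⟨unitVal u ⊤⟩ : ULift.{u} Γ(E, ⊤)) ≫ p from
        ((freeInj_freeDesc (fun s : ULift.{u} Γ(E, ⊤) => unitDesc E s.down) _).trans (unitDesc_unitVal u)).symm, Category.assoc, cokernel.condition, comp_zero])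
  have hsupp := SuppTensor.support_tensorMod (ClSub.quotMod (red C)) (cokernel p) (isCoh_quotMod _).1
    (isCoh_quotMod _).2 hQ.1 hQ.2
  rw [Set.eq_empty_of_subset_empty (support_of_isZero hz ∅)] at hsupp
  refine ModuleCat.isZero_iff_subsingleton.2 (not_not.1 fun hx => ?_)
  exact hsupp.ge ⟨S7749.mem_support_quotMod (red C) (by
    rw [← SetLike.mem_coe, Scheme.IdealSheafData.coe_support_vanishingIdeal]; exact hxC), hx⟩

end Groth.Agent.TFPush7.TreeGG
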