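import Groth.Agent.Hyper24.BiratH1
import Groth.Agent.VarietyLib.CurveDegree
import Groth.Agent.VarietyLib.DetDeg
import Groth.Agent.FlatMor12.FlatFun.GenPts
import Groth.Agent.KModel28.Basic
import Groth.Agent.BlowUpLib.FiniteBirational
import Groth.Agent.DualMod3.Separation
import Groth.Agent.Coherent.ProjFormula
import Groth.Agent.CurveRR24.AlgClosed
import Groth.Agent.TFPush7.TreeGG

/-!
# Cohomology of locally free modules on the total transform of a point of a curve
-/

set_option autoImplicit false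
set_option linter.style.haveILetI false
set_option linter.unusedSectionVars false
set_option backward.isDefEq.respectTransparency false
set_option backward.isDefEq.respectTransparency.types false
set_option maxHeartbeats 1000000

universe u

open CategoryTheory CategoryTheory.Limits AlgebraicGeometry Opposite TopologicalSpace
open Groth.Agent.Coherent Groth.Agent.PicLib Groth.Agent.AmpleLib Groth.Agent.EulerLib Groth.Agent.CurveRR24
open Groth.Agent.CAlgH3.ModCohSeq Groth.Agent.AssSch12

attribute [local instance] HasDerivedCategory.standard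

namespace Groth.Agent.TFPush7.TreeTransform

variable {X Y : Scheme.{u}}

/-- The support misses an open with no nonzero sections below it. -/
theorem support_subset_of_sections (M : X.Modules) (O : X.Opens)
    (h : ∀ W : X.Opens, W ≤ O → ∀ s : Γ(M, W), s = 0) : CohB1.support M ⊆ (O : Set X)ᶜ := by
  intro z hz hzO
  refine hz (subsingleton_of_forall_eq 0 fun a => ?_)
  obtain ⟨W, hzW, s, rfl⟩ := M.presheaf.exists_germ_eq a
  have hzWO : z ∈ W ⊓ O := ⟨hzW, hzO⟩
  rw [← M.presheaf.germ_res_apply (homOfLE (inf_le_left : W ⊓ O ≤ W)) z hzWO s,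
    h _ inf_le_right (M.presheaf.map (homOfLE (inf_le_left : W ⊓ O ≤ W)).op s), map_zero]

/-- `O → f_* O` is injective when `f` is an isomorphism over a dense open of a reduced scheme. -/
theorem mono_unitToPush [IsReduced X] (f : Y ⟶ X) {U : X.Opens} (hU : Dense (U : Set X))
    (hfU : IsIso (f ∣_ U)) : Mono (ClSub.unitToPush f) := by
  haveI := hfU
  refine SerreDual.mono_of_app_injective _ fun W => (injective_iff_map_eq_zero _).2 fun a ha => ?_
  have ha' : f.app W a = 0 := ha
  refine eq_zero_of_basicOpen_eq_bot a (Opens.ext ?_)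
  by_contra hne
  obtain ⟨z, hz, hzU⟩ := hU.inter_open_nonempty _ (X.basicOpen a).2 (Set.nonempty_iff_ne_empty.2 hne)
  have hzW : z ∈ W := X.basicOpen_le a hz
  haveI := BlowUpLib.isIso_app_of_le f U (inf_le_right : W ⊓ U ≤ U)
  have h0 : X.presheaf.map (homOfLE (inf_le_left : W ⊓ U ≤ W)).op a = 0 := by
    refine (ConcreteCategory.bijective_of_isIso (f.app (W ⊓ U))).1 ?_
    rw [map_zero]
    refine (congr($(f.naturality (homOfLE (inf_le_left : W ⊓ U ≤ W)).op) a)).trans ?_
    show Y.presheaf.map _ (f.app W a) = 0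
    rw [ha', map_zero]
  have h1 := (Scheme.mem_basicOpen X a z hzW).1 hz
  rw [← X.presheaf.germ_res_apply (homOfLE (inf_le_left : W ⊓ U ≤ W)) z ⟨hzW, hzU⟩ a, h0, map_zero] at h1
  exact not_isUnit_zero h1

/-- The ideal of a reduced closed set through an open where it is everything is supported outside. -/
theorem support_idealMod_subset (I : X.IdealSheafData) (O : X.Opens) (hO : IsIso (I.subschemeι ∣_ O)) :
    CohB1.support (ClSub.idealMod I) ⊆ (O : Set X)ᶜ := by
  haveI := hO
  refine support_subset_of_sections _ O fun W hW s => ?_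
  haveI : Mono (ClSub.idealModι I) := inferInstanceAs (Mono (kernel.ι (ClSub.toSubscheme _)))
  refine app_injective_of_mono (ClSub.idealModι I) W (Eq.trans ?_ (map_zero _).symm)
  haveI := BlowUpLib.isIso_app_of_le I.subschemeι O hW
  refine (ConcreteCategory.bijective_of_isIso (I.subschemeι.app W)).1 (Eq.trans ?_ (map_zero _).symm)
  exact kernel_ι_app_zero (ClSub.toSubscheme I) W s

variable (k : Type u) [Field k]

/-- A pullback along a map into a trivialising open has degree zero. -/
theorem deg_eq_zero_of_trivial [Y.Over (Spec (CommRingCat.of k))] [IsProper (Y ↘ Spec (CommRingCat.of k))]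
    (g : Y ⟶ X) (V : X.Opens) (hg : ∀ y, g y ∈ V) {n : ℕ} (F : X.Modules)
    (e : (Scheme.Modules.restrictFunctor V.ι).obj F ≅ FlatMod.freeMod _ n) :
    Curv2.deg k Y ((Scheme.Modules.pullback g).obj F) n = 0 := by
  have hr : Set.range g ⊆ Set.range V.ι := by
    rintro _ ⟨y, rfl⟩
    exact V.range_ι.symm ▸ hg y
  obtain ⟨e₂⟩ := FlatMor12.FlatFun.nonempty_pullback_freeMod (IsOpenImmersion.lift V.ι g hr) n
  let t : (Scheme.Modules.pullback g).obj F ≅ FlatMod.freeMod Y n :=
    (Scheme.Modules.pullbackCongr (IsOpenImmersion.lift_fac V.ι g hr).symm).app F ≪≫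
      ((Scheme.Modules.pullbackComp _ V.ι).app F).symm ≪≫
      (Scheme.Modules.pullback _).mapIso ((AmpleLib.restrictIsoPullback V.ι F).symm ≪≫ e) ≪≫ e₂
  rw [CurveRR24.deg_congr k t n, Curv2.deg, VarietyLib.euler_freeMod k n, sub_self]

variable [X.Over (Spec (CommRingCat.of k))] [Y.Over (Spec (CommRingCat.of k))]
  [IsProper (X ↘ Spec (CommRingCat.of k))] [IsProper (Y ↘ Spec (CommRingCat.of k))]

/-- Degree is invariant under contracting a closed set over a point of a reduced curve. -/
theorem deg_pullback_eq [IsReduced X] [IsReduced Y] (hdX : topologicalKrullDim X ≤ 1)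
    (hdY : topologicalKrullDim Y ≤ 1) (f : Y ⟶ X)
    (hf : f ≫ (X ↘ Spec (CommRingCat.of k)) = Y ↘ Spec (CommRingCat.of k))
    (p : X) (hpc : IsClosed ({p} : Set X)) (hU : Dense ({p} : Set X)ᶜ)
    (hiso : IsIso (f ∣_ (⟨({p} : Set X)ᶜ, hpc.isOpen_compl⟩ : X.Opens)))
    {n : ℕ} {F : X.Modules} (hF : FlatMod.IsFinLocFreeOfRank n F) :
    Curv2.deg k Y ((Scheme.Modules.pullback f).obj F) n = Curv2.deg k X F n := by
  haveI := EulerLib.isNoetherian_of_proper k (X := X)
  haveI := EulerLib.isNoetherian_of_proper k (X := Y)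
  let U : X.Opens := ⟨({p} : Set X)ᶜ, hpc.isOpen_compl⟩
  let O : Y.Opens := f ⁻¹ᵁ U
  let J : Y.IdealSheafData := Scheme.IdealSheafData.vanishingIdeal ⟨closure (O : Set Y), isClosed_closure⟩
  haveI : IsReduced J.subscheme := Props12.isReduced_subscheme_vanishingIdeal _
  have hrange : Set.range J.subschemeι = closure (O : Set Y) := by
    rw [Scheme.IdealSheafData.range_subschemeι]
    exact Scheme.IdealSheafData.coe_support_vanishingIdeal _
  have hJO : IsIso (J.subschemeι ∣_ O) := by
    haveI : IsClosedImmersion (J.subschemeι ∣_ O) := IsZariskiLocalAtTarget.restrict (P := @IsClosedImmersion) inferInstance _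
    haveI : IsReduced (O : Scheme.{u}) := inferInstance
    haveI : Surjective (J.subschemeι ∣_ O) := ⟨fun y => by
      obtain ⟨x, hx⟩ : y.1 ∈ Set.range J.subschemeι := hrange.symm ▸ subset_closure y.2
      refine ⟨⟨x, show J.subschemeι x ∈ O from hx.symm ▸ y.2⟩, Subtype.ext ?_⟩
      exact (morphismRestrict_base_coe _ _ _).trans hx⟩
    exact isIso_of_isClosedImmersion_of_surjective _
  let q : J.subscheme ⟶ X := J.subschemeι ≫ f
  letI : J.subscheme.Over (Spec (CommRingCat.of k)) := ⟨J.subschemeι ≫ (Y ↘ Spec (CommRingCat.of k))⟩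
  haveI : IsProper (J.subscheme ↘ Spec (CommRingCat.of k)) :=
    inferInstanceAs (IsProper (J.subschemeι ≫ (Y ↘ Spec (CommRingCat.of k))))
  have hq : q ≫ (X ↘ Spec (CommRingCat.of k)) = J.subscheme ↘ Spec (CommRingCat.of k) := by
    show (J.subschemeι ≫ f) ≫ _ = J.subschemeι ≫ _
    rw [Category.assoc, hf]
  haveI : IsProper (f ≫ (X ↘ Spec (CommRingCat.of k))) := hf ▸ inferInstance
  haveI : IsProper f := IsProper.of_comp f (X ↘ Spec (CommRingCat.of k))
  haveI hqU : IsIso (q ∣_ U) := by
    haveI := hiso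
    haveI : IsIso (J.subschemeι ∣_ (f ⁻¹ᵁ U)) := hJO
    show IsIso ((J.subschemeι ≫ f) ∣_ U)
    rw [morphismRestrict_comp]
    exact IsIso.comp_isIso (f := J.subschemeι ∣_ (f ⁻¹ᵁ U)) (h := f ∣_ U)
  have hqd : Dense ((q ⁻¹ᵁ U : J.subscheme.Opens) : Set J.subscheme) := by
    rw [dense_iff_closure_eq]
    refine Set.eq_univ_of_forall fun z => ?_
    have hz : J.subschemeι z ∈ closure (O : Set Y) := hrange ▸ ⟨z, rfl⟩
    rw [J.subschemeι.isEmbedding.closure_eq_preimage_closure_image]
    show J.subschemeι z ∈ closure (J.subschemeι '' (J.subschemeι ⁻¹' (O : Set Y)))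
    rwa [Set.image_preimage_eq_of_subset (hrange.symm ▸ subset_closure)]
  haveI : IsFinite q := Hyper24.isFinite_of_isIso_restrict k hdX q (U := U) hU hqd hqU hq
  -- the curve `X`
  have hG := VarietyLib.isFinLocFreeOfRank_pullback f hF
  have e1 : VarietyLib.degFun k n ((Scheme.Modules.pullback f).obj F) (ClSub.quotMod J) =
      VarietyLib.degFun k n F ((Coh.push q).obj (Coh.structureModule J.subscheme)) := by
    refine (VarietyLib.degFun_push k J.subschemeι rfl hG).trans ?_
    rw [VarietyLib.degFun_push k q hq hF]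
    exact CurveRR24.deg_congr k ((Scheme.Modules.pullbackComp J.subschemeι f).app F) n
  haveI := mono_unitToPush q (U := U) hU hqU
  let SX := ShortComplex.mk (ClSub.unitToPush q) (cokernel.π (ClSub.unitToPush q)) (cokernel.condition _)
  have hSX : SX.ShortExact :=
    { exact := ShortComplex.exact_cokernel _, mono_f := inferInstanceAs (Mono (ClSub.unitToPush q)),
      epi_g := inferInstanceAs (Epi (cokernel.π _)) }
  have cQ : Coh.IsCoh (cokernel (ClSub.unitToPush q)) := by
    have c2 := Hyper24.isCoh_push_structure k (X := X) q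
    haveI := c2.1
    haveI := (isCoh_structureModule X).1
    exact Hyper24.isCoh_of_epi' (cokernel.π (ClSub.unitToPush q)) inferInstance c2 (isQCoh_cokernel _)
  have sQ : CohB1.support (cokernel (ClSub.unitToPush q)) ⊆ ({p} : Set X) := by
    refine (Hyper24.support_cokernel_unitToPush q (U := U) inferInstance).trans ?_
    exact (compl_compl _).subset
  have e2 : VarietyLib.degFun k n F ((Coh.push q).obj (Coh.structureModule J.subscheme)) = Curv2.deg k X F n := by
    have h := VarietyLib.degFun_add k hF SX hSX (isCoh_structureModule X) (Hyper24.isCoh_push_structure k q) cQ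
    rw [show VarietyLib.degFun k n F SX.X₃ = 0 from VarietyLib.degFun_of_dim_lt_one k hF cQ ?_, add_zero] at h
    · exact h.trans (VarietyLib.degFun_structure k F)
    · refine lt_of_le_of_lt ((EulerLib.dim_mono sQ).trans ?_) (show (0 : WithBot ℕ∞) < ((1 : ℕ) : WithBot ℕ∞) by norm_num)
      exact topologicalKrullDim_zero_of_discreteTopology ({p} : Set X)
  -- the ideal of `J`
  have cI := CurveRR24.isCoh_idealMod' J
  have e3 : VarietyLib.degFun k n ((Scheme.Modules.pullback f).obj F) (ClSub.idealMod J) = 0 := by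
    obtain ⟨S, -, -, hsum⟩ := VarietyLib.degFun_eq_sum k hdY hG
    rw [hsum _ cI]
    refine Finset.sum_eq_zero fun ξ _ => ?_
    by_cases hξ : ξ ∈ O
    · rw [VarietyLib.mult_eq_zero fun h => support_idealMod_subset J O hJO h hξ, zero_smul]
    · letI : (clI ξ).subscheme.Over (Spec (CommRingCat.of k)) := ⟨(clI ξ).subschemeι ≫ (Y ↘ Spec (CommRingCat.of k))⟩
      haveI : IsProper ((clI ξ).subscheme ↘ Spec (CommRingCat.of k)) :=
        inferInstanceAs (IsProper ((clI ξ).subschemeι ≫ (Y ↘ Spec (CommRingCat.of k))))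
      have hfib : closure ({ξ} : Set Y) ⊆ f ⁻¹' ({p} : Set X) :=
        closure_minimal (Set.singleton_subset_iff.2 (not_not.1 hξ)) (hpc.preimage f.continuous)
      obtain ⟨V, hpV, ⟨e⟩⟩ := hF p
      have hV : ∀ y, ((clI ξ).subschemeι ≫ f) y ∈ V := fun y => by
        have : f ((clI ξ).subschemeι y) = p := hfib ((range_clι ξ).le ⟨y, rfl⟩)
        show f ((clI ξ).subschemeι y) ∈ V
        rwa [this]
      have h := (VarietyLib.degFun_push k (clI ξ).subschemeι rfl hG).trans
        ((CurveRR24.deg_congr k ((Scheme.Modules.pullbackComp (clI ξ).subschemeι f).app F) n).trans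
          (deg_eq_zero_of_trivial k ((clI ξ).subschemeι ≫ f) V hV F e))
      rw [show VarietyLib.degFun k n ((Scheme.Modules.pullback f).obj F) (clM ξ) = 0 from h, smul_zero]
  have e4 := VarietyLib.degFun_add k hG _ (CurveRR24.shortExact_ideal J) cI (isCoh_structureModule Y)
    (CurveRR24.isCoh_quotMod J)
  change VarietyLib.degFun k n _ (Coh.structureModule Y) =
    VarietyLib.degFun k n _ (ClSub.idealMod J) + VarietyLib.degFun k n _ (ClSub.quotMod J) at e4
  rw [VarietyLib.degFun_structure, e3, e1, e2, zero_add] at e4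
  exact e4

variable [IsAlgClosed k]

/-- `O = f_* O` when there are only constants upstairs and no `H¹(O)` downstairs. -/
theorem isIso_unitToPush [IsReduced X] [IsReduced Y] [ConnectedSpace Y]
    (hg : Subsingleton (Coh.HH X (Coh.structureModule X) 1)) (f : Y ⟶ X)
    (hf : f ≫ (X ↘ Spec (CommRingCat.of k)) = Y ↘ Spec (CommRingCat.of k))
    (p : X) (hpc : IsClosed ({p} : Set X)) (hU : Dense ({p} : Set X)ᶜ)
    (hiso : IsIso (f ∣_ (⟨({p} : Set X)ᶜ, hpc.isOpen_compl⟩ : X.Opens))) :
    IsIso (ClSub.unitToPush f) := by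
  let U : X.Opens := ⟨({p} : Set X)ᶜ, hpc.isOpen_compl⟩
  haveI := hiso
  haveI := mono_unitToPush f (U := U) hU hiso
  let u := ClSub.unitToPush f
  let S := ShortComplex.mk u (cokernel.π u) (cokernel.condition u)
  have hS : S.ShortExact :=
    { exact := ShortComplex.exact_cokernel _, mono_f := inferInstanceAs (Mono u),
      epi_g := inferInstanceAs (Epi (cokernel.π u)) }
  have hsupp : CohB1.support (cokernel u) ⊆ ({p} : Set X) :=
    (Hyper24.support_cokernel_unitToPush f (U := U) inferInstance).trans (compl_compl _).subset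
  have hsurj : ∀ w : Γ(Y, ⊤), ∃ a : Γ(X, ⊤), f.app ⊤ a = w := fun w => by
    obtain ⟨x, hx⟩ := AbSchLib.surjective_appTop_of_isAlgClosed k (Y ↘ Spec (CommRingCat.of k)) w
    refine ⟨(X ↘ Spec (CommRingCat.of k)).appTop x, ?_⟩
    rw [← hx, ← hf, Scheme.Hom.comp_appTop]
    rfl
  have hzero : ∀ z : Γ(cokernel u, ⊤), z = 0 := fun z => by
    obtain ⟨w, hw⟩ := TreeGG.exists_lift_unit k hS hg (unitDesc (cokernel u) z)
    obtain ⟨a, ha⟩ := hsurj (unitVal w ⊤)
    have h1 : (cokernel.π u).app ⊤ (unitVal w ⊤) = unitVal (unitDesc (cokernel u) z) ⊤ := by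
      rw [← hw]; rfl
    rw [unitVal_unitDesc, resM_self] at h1
    rw [← h1, show unitVal w ⊤ = u.app ⊤ a from ha.symm]
    exact congr(($(cokernel.condition u)).app ⊤ a)
  have hz : IsZero (cokernel u) := by
    refine EulerLib.isZero_of_support_eq_empty (Set.eq_empty_iff_forall_notMem.2 fun y hy => ?_)
    obtain rfl : y = p := hsupp hy
    refine hy (subsingleton_of_forall_eq 0 fun a => ?_)
    obtain ⟨V, hV, τ, rfl⟩ := (cokernel u).presheaf.exists_germ_eq a
    obtain ⟨z, hz, -⟩ := DualMod3.exists_glue_point hsupp hpc (V := V) (fun _ _ h => h) τ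
    rw [← hz, hzero z, map_zero, map_zero]
  haveI : Epi u := hS.exact.epi_f (hz.eq_of_tgt _ _)
  exact isIso_of_mono_of_epi u

/-- A locally free module has the same sections on the total transform. -/
theorem finrank_h0_pullback (f : Y ⟶ X) [IsIso (ClSub.unitToPush f)]
    (hf : f ≫ (X ↘ Spec (CommRingCat.of k)) = Y ↘ Spec (CommRingCat.of k)) {F : X.Modules}
    (hF : FlatMod.IsFinLocFree F) :
    Module.finrank k (Coh.HH X F 0) = Module.finrank k (Coh.HH Y ((Scheme.Modules.pullback f).obj F) 0) := by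
  let G := (Scheme.Modules.pullback f).obj F
  let e : F ≅ (Scheme.Modules.pushforward f).obj G :=
    (unitTensorIso F).symm ≪≫ AmpleLib.tensorIso (asIso (ClSub.unitToPush f)) (Iso.refl F) ≪≫
      AmpleLib.tensorComm _ _ ≪≫ (Coherent.projIso (f := f) hF).app (Coh.structureModule Y) ≪≫
      (Scheme.Modules.pushforward f).mapIso (AmpleLib.tensorComm _ _ ≪≫ unitTensorIso G)
  rw [CurveRR24.finrank_HH_congr k e 0, (hhZero k _).finrank_eq, (hhZero k G).finrank_eq]
  refine LinearEquiv.finrank_eq
    { toFun := fun s => s, invFun := fun s => s, left_inv := fun _ => rfl, right_inv := fun _ => rfl,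
      map_add' := fun _ _ => rfl, map_smul' := fun c s => ?_ }
  show (f.appTop (baseHom k X c) : Γ(Y, ⊤)) • (show Γ(G, ⊤) from s) = baseHom k Y c • (show Γ(G, ⊤) from s)
  congr 1
  show f.appTop ((X ↘ Spec (CommRingCat.of k)).appTop ((Scheme.ΓSpecIso (CommRingCat.of k)).inv c)) =
    (Y ↘ Spec (CommRingCat.of k)).appTop _
  rw [← hf, Scheme.Hom.comp_appTop]
  rfl

end Groth.Agent.TFPush7.TreeTransform
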