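import Groth.Agent.TFPush7.NodeRad
import Mathlib.RingTheory.Spectrum.Prime.Topology

/-!
# The maximal ideal at a node splits along two groups of branches
-/

set_option autoImplicit false
set_option linter.style.haveILetI false
set_option backward.isDefEq.respectTransparency false
set_option maxHeartbeats 1000000

universe u

open IsLocalRing

namespace Groth.Agent.TFPush7

open NormSeq24 (Cross toPair toPair_ne_zero_of_mem toPair_injective exists_toPair constantCoeff_toPair)

/-- Two nonzero elements with product zero and regular sum: the maximal ideal is the sum of their annihilators. -/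
theorem exists_ann_add_ann {K : Type u} [Field K] {A : Type u} [CommRing A] [IsLocalRing A] [IsNoetherianRing A]
    (e : AdicCompletion (maximalIdeal A) A ≃+* Cross K) {f g : A} (hfg : f * g = 0)
    (ht : f + g ∈ nonZeroDivisors A) (hf : f ≠ 0) (hg : g ≠ 0) {a : A} (ha : a ∈ maximalIdeal A) :
    ∃ u v : A, u * f = 0 ∧ v * g = 0 ∧ a = u + v := by
  let Ac := AdicCompletion (maximalIdeal A) A
  obtain ⟨hloc, -⟩ := EGA43.ConnFlat.exists_sub_mem_cpl A
  haveI := hloc
  haveI : Module.FaithfullyFlat A Ac := Module.FaithfullyFlat.of_flat_of_isLocalHom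
  let F : A →+* PowerSeries K × PowerSeries K := (toPair K).comp (e.toRingHom.comp (algebraMap A Ac))
  have hFi : Function.Injective F := fun x y h =>
    FaithfulSMul.algebraMap_injective A Ac (e.injective (toPair_injective h))
  have htn : IsSMulRegular Ac (algebraMap A Ac (f + g)) :=
    IsSMulRegular.of_flat fun x y h => sub_eq_zero.1 (mem_nonZeroDivisors_iff_left.1 ht (x - y)
      (by rw [mul_sub]; exact sub_eq_zero.2 h))
  have ht' : e (algebraMap A Ac (f + g)) ∈ nonZeroDivisors (Cross K) := mem_nonZeroDivisors_iff_left.2 fun z hz => by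
    refine e.symm.injective ((htn ?_).trans (map_zero e.symm).symm)
    show algebraMap A Ac (f + g) * e.symm z = algebraMap A Ac (f + g) * 0
    rw [mul_zero, ← e.symm_apply_apply (algebraMap A Ac (f + g)), ← map_mul, hz, map_zero]
  obtain ⟨ht1, ht2⟩ := toPair_ne_zero_of_mem ht'
  replace ht1 : (F f).1 + (F g).1 ≠ 0 := by rw [← Prod.fst_add, ← map_add]; exact ht1
  replace ht2 : (F f).2 + (F g).2 ≠ 0 := by rw [← Prod.snd_add, ← map_add]; exact ht2
  have h0 : F f * F g = 0 := by rw [← map_mul, hfg, map_zero]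
  -- the annihilators contain the two axes
  let If : Ideal A := LinearMap.ker (LinearMap.toSpanSingleton A A f)
  let Ig : Ideal A := LinearMap.ker (LinearMap.toSpanSingleton A A g)
  have hann : ∀ (w : A) (z : Cross K), F w * toPair K z = 0 →
      e.symm z ∈ Ideal.map (algebraMap A Ac) (LinearMap.ker (LinearMap.toSpanSingleton A A w) : Ideal A) := fun w z hz => by
    have hz' : algebraMap A Ac w * e.symm z = 0 := by
      refine e.injective (toPair_injective ?_)
      rw [map_mul, e.apply_symm_apply, map_mul, map_zero, map_zero]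
      exact hz
    have hex : Function.Exact (LinearMap.ker (LinearMap.toSpanSingleton A A w)).subtype
        (LinearMap.toSpanSingleton A A w) := LinearMap.exact_subtype_ker_map _
    have hex' := Module.Flat.lTensor_exact Ac hex
    have hzero : LinearMap.lTensor Ac (LinearMap.toSpanSingleton A A w) (e.symm z ⊗ₜ[A] (1 : A)) = 0 := by
      refine (TensorProduct.rid A Ac).injective ?_
      rw [map_zero, LinearMap.lTensor_tmul, TensorProduct.rid_tmul, LinearMap.toSpanSingleton_apply, one_smul,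
        Algebra.smul_def, hz']
    obtain ⟨t, ht⟩ := (hex' _).1 hzero
    have key : ∀ t : TensorProduct A Ac (LinearMap.ker (LinearMap.toSpanSingleton A A w)),
        TensorProduct.rid A Ac (LinearMap.lTensor Ac (Submodule.subtype _) t) ∈
          Ideal.map (algebraMap A Ac) (LinearMap.ker (LinearMap.toSpanSingleton A A w) : Ideal A) := fun t => by
      induction t using TensorProduct.induction_on with
      | zero => simp
      | tmul b c =>
        rw [LinearMap.lTensor_tmul, TensorProduct.rid_tmul, Algebra.smul_def]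
        exact Ideal.mul_mem_right _ _ (Ideal.mem_map_of_mem _ c.2)
      | add x y hx hy => rw [map_add, map_add]; exact add_mem hx hy
    have := key t
    rwa [ht, TensorProduct.rid_tmul, one_smul] at this
  -- every element of the maximal ideal of the completion decomposes
  have hc : ∀ b ∈ maximalIdeal A,
      PowerSeries.constantCoeff (F b).1 = 0 ∧ PowerSeries.constantCoeff (F b).2 = 0 := fun b hb => by
    have hcc : PowerSeries.constantCoeff (F b).1 = PowerSeries.constantCoeff (F b).2 := constantCoeff_toPair _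
    refine ⟨?_, hcc ▸ ?_⟩ <;>
    · by_contra hne
      obtain ⟨z, hz⟩ := exists_toPair (K := K) (f := (F b).1⁻¹) (h := (F b).2⁻¹) (by
        rw [PowerSeries.constantCoeff_inv, PowerSeries.constantCoeff_inv, hcc])
      have hu : IsUnit (algebraMap A Ac b) := by
        refine .of_mul_eq_one (e.symm z) (e.injective (toPair_injective ?_))
        rw [map_mul, e.apply_symm_apply, map_mul, hz, map_one, map_one]
        exact Prod.ext (PowerSeries.mul_inv_cancel _ hne) (PowerSeries.mul_inv_cancel _ (hcc ▸ hne))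
      exact (mem_maximalIdeal b).1 hb (isUnit_of_map_unit _ b hu)
  obtain ⟨hc1, hc2⟩ := hc a ha
  obtain ⟨z₁, hz₁⟩ := exists_toPair (K := K) (f := (F a).1) (h := 0) (by rw [hc1, map_zero])
  obtain ⟨z₂, hz₂⟩ := exists_toPair (K := K) (f := 0) (h := (F a).2) (by rw [hc2, map_zero])
  have hsum : algebraMap A Ac a = e.symm z₁ + e.symm z₂ := by
    refine e.injective (toPair_injective ?_)
    rw [map_add, e.apply_symm_apply, e.apply_symm_apply, map_add, hz₁, hz₂, Prod.mk_add_mk, add_zero, zero_add]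
    rfl
  have h01 : (F f).1 * (F g).1 = 0 := congrArg Prod.fst h0
  have h02 : (F f).2 * (F g).2 = 0 := congrArg Prod.snd h0
  have hmem : algebraMap A Ac a ∈ (If ⊔ Ig).map (algebraMap A Ac) := by
    rw [Ideal.map_sup, hsum]
    rcases mul_eq_zero.1 h01 with hf1 | hg1
    · rcases mul_eq_zero.1 h02 with hf2 | hg2
      · exact absurd (hFi ((Prod.ext hf1 hf2 : F f = 0).trans (map_zero F).symm)) hf
      · exact Submodule.add_mem_sup
          (hann f z₁ (by rw [hz₁]; exact Prod.ext (mul_eq_zero_of_left hf1 _) (mul_zero _)))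
          (hann g z₂ (by rw [hz₂]; exact Prod.ext (mul_zero _) (mul_eq_zero_of_left hg2 _)))
    · rcases mul_eq_zero.1 h02 with hf2 | hg2
      · rw [add_comm (e.symm z₁)]
        exact Submodule.add_mem_sup
          (hann f z₂ (by rw [hz₂]; exact Prod.ext (mul_zero _) (mul_eq_zero_of_left hf2 _)))
          (hann g z₁ (by rw [hz₁]; exact Prod.ext (mul_eq_zero_of_left hg1 _) (mul_zero _)))
      · exact absurd (hFi ((Prod.ext hg1 hg2 : F g = 0).trans (map_zero F).symm)) hg
  have hA : a ∈ If ⊔ Ig := by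
    rw [← Ideal.comap_map_eq_self_of_faithfullyFlat (B := Ac) (If ⊔ Ig)]
    exact hmem
  obtain ⟨u, hu, v, hv, huv⟩ := Submodule.mem_sup.1 hA
  exact ⟨u, v, hu, hv, huv.symm⟩

/-- Two radical ideals cutting the node into two nonempty groups of branches add up to the maximal ideal. -/
theorem maximalIdeal_le_sup {K : Type u} [Field K] {A : Type u} [CommRing A] [IsLocalRing A] [IsNoetherianRing A]
    [IsReduced A] (e : AdicCompletion (maximalIdeal A) A ≃+* Cross K)
    (hreg : ∃ t ∈ maximalIdeal A, t ∈ nonZeroDivisors A) (I J : Ideal A) (hI : I.IsRadical) (hJ : J.IsRadical)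
    (hIJ : I * J = ⊥) (hI0 : I ≠ ⊥) (hJ0 : J ≠ ⊥)
    (hq : ∀ q : Ideal A, q.IsPrime → I ⊔ J ≤ q → q = maximalIdeal A) :
    maximalIdeal A ≤ I ⊔ J := by
  -- a regular element of `I + J`
  obtain ⟨t, ht, htn⟩ : ∃ t ∈ I ⊔ J, t ∈ nonZeroDivisors A := by
    obtain ⟨s, hs, hsn⟩ := hreg
    have hrad : s ∈ (I ⊔ J).radical := by
      rw [Ideal.radical_eq_sInf, Submodule.mem_sInf]
      rintro q ⟨hle, hqp⟩
      exact (hq q hqp hle).symm ▸ hs
    obtain ⟨n, hn⟩ := hrad
    exact ⟨s ^ n, hn, pow_mem hsn n⟩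
  obtain ⟨g, hg, f, hf, rfl⟩ := Submodule.mem_sup.1 ht
  have hgf : g * f = 0 := by
    rw [← Ideal.mem_bot, ← hIJ]
    exact Ideal.mul_mem_mul hg hf
  have hf0 : f ≠ 0 := fun h => by
    subst h
    rw [add_zero] at htn
    refine hJ0 (eq_bot_iff.2 fun x hx => ?_)
    exact mem_nonZeroDivisors_iff_left.1 htn x (by rw [← Ideal.mem_bot, ← hIJ]; exact Ideal.mul_mem_mul hg hx)
  have hg0 : g ≠ 0 := fun h => by
    subst h
    rw [zero_add] at htn
    refine hI0 (eq_bot_iff.2 fun x hx => ?_)
    exact mem_nonZeroDivisors_iff_left.1 htn x (by rw [mul_comm, ← Ideal.mem_bot, ← hIJ]; exact Ideal.mul_mem_mul hx hf)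
  intro a ha
  obtain ⟨u, v, hu, hv, rfl⟩ := exists_ann_add_ann e (f := g) (g := f) hgf htn hg0 hf0 ha
  -- annihilators of one side lie in the other
  have key : ∀ (I J : Ideal A) (g f u : A), J.IsRadical → I * J = ⊥ → g ∈ I → f ∈ J →
      g + f ∈ nonZeroDivisors A → (∀ q : Ideal A, q.IsPrime → I ⊔ J ≤ q → q = maximalIdeal A) →
      u * g = 0 → u ∈ maximalIdeal A → u ∈ J := fun I J g f u hJ hIJ hg hf htn hq hu hum => by
    refine hJ ?_
    rw [Ideal.radical_eq_sInf, Submodule.mem_sInf]
    rintro q ⟨hle, hqp⟩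
    by_cases hIq : I ≤ q
    · exact (hq q hqp (sup_le hIq hle)).symm ▸ hum
    · obtain ⟨i, hi, hiq⟩ := SetLike.not_le_iff_exists.1 hIq
      have h0 : u * i = 0 := mem_nonZeroDivisors_iff_left.1 htn _ (by
        rw [add_mul, show g * (u * i) = (u * g) * i by ring, hu, zero_mul, zero_add,
          show f * (u * i) = u * (i * f) by ring,
          show i * f = 0 from Ideal.mem_bot.1 (hIJ ▸ Ideal.mul_mem_mul hi hf), mul_zero])
      exact ((hqp.mem_or_mem (h0 ▸ q.zero_mem : u * i ∈ q)).resolve_right hiq)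
  have hum : u ∈ maximalIdeal A := fun h => hg0 ((IsUnit.mul_right_eq_zero h).1 hu)
  have hvm : v ∈ maximalIdeal A := fun h => hf0 ((IsUnit.mul_right_eq_zero h).1 hv)
  refine add_mem (Submodule.mem_sup_right (key I J g f u hJ hIJ hg hf htn hq hu hum))
    (Submodule.mem_sup_left (key J I f g v hI (by rwa [mul_comm]) hf hg (by rwa [add_comm]) ?_ hv hvm))
  exact fun q hqp hle => hq q hqp (by rwa [sup_comm] at hle)

open PrimeSpectrum in
/-- Closed sets covering the spectrum and meeting only in a node: their ideals add up to its prime. -/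
theorem vanishingIdeal_sup_eq {K : Type u} [Field K] {R : Type u} [CommRing R] [IsNoetherianRing R] [IsReduced R]
    (p : PrimeSpectrum R) (hp : p.asIdeal.IsMaximal) (A : Type u) [CommRing A] [Algebra R A]
    [IsLocalization.AtPrime A p.asIdeal] [IsLocalRing A] [IsNoetherianRing A]
    (e : AdicCompletion (maximalIdeal A) A ≃+* Cross K) (hreg : ∃ t ∈ maximalIdeal A, t ∈ nonZeroDivisors A)
    (Z Z' : Set (PrimeSpectrum R)) (hZ : IsClosed Z) (hZ' : IsClosed Z') (hu : Z ∪ Z' = Set.univ)
    (hi : Z ∩ Z' = {p}) (hn : ∀ s ∉ p.asIdeal, ∃ q, s ∉ q.asIdeal ∧ q ∉ Z)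
    (hn' : ∀ s ∉ p.asIdeal, ∃ q, s ∉ q.asIdeal ∧ q ∉ Z') :
    PrimeSpectrum.vanishingIdeal Z ⊔ PrimeSpectrum.vanishingIdeal Z' = p.asIdeal := by
  haveI : _root_.IsReduced A := isReduced_localizationPreserves p.asIdeal.primeCompl A inferInstance
  let I := PrimeSpectrum.vanishingIdeal Z
  let J := PrimeSpectrum.vanishingIdeal Z'
  have hmem : ∀ (S : Set (PrimeSpectrum R)), IsClosed S → ∀ q : PrimeSpectrum R,
      PrimeSpectrum.vanishingIdeal S ≤ q.asIdeal → q ∈ S := fun S hS q hq => by
    have : q ∈ zeroLocus (PrimeSpectrum.vanishingIdeal S : Set R) := hq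
    rwa [zeroLocus_vanishingIdeal_eq_closure, hS.closure_eq] at this
  have hpZ : p ∈ Z ∩ Z' := hi ▸ rfl
  have hle : I ⊔ J ≤ p.asIdeal := sup_le
    (fun f hf => (PrimeSpectrum.mem_vanishingIdeal _ _).1 hf p hpZ.1)
    (fun f hf => (PrimeSpectrum.mem_vanishingIdeal _ _).1 hf p hpZ.2)
  have hq : ∀ q : PrimeSpectrum R, I ⊔ J ≤ q.asIdeal → q = p := fun q h => by
    have : q ∈ ({p} : Set (PrimeSpectrum R)) :=
      hi ▸ ⟨hmem Z hZ q (le_sup_left.trans h), hmem Z' hZ' q (le_sup_right.trans h)⟩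
    exact this
  have hmul : I * J = ⊥ := by
    refine eq_bot_iff.2 (le_trans Ideal.mul_le_inf fun x hx => ?_)
    rw [Ideal.mem_bot]
    refine IsNilpotent.eq_zero (nilradical_eq_sInf R ▸ Submodule.mem_sInf.2 fun q hqp => ?_ : x ∈ nilradical R)
    rcases (hu.symm ▸ Set.mem_univ _ : (⟨q, hqp⟩ : PrimeSpectrum R) ∈ Z ∪ Z') with h | h
    · exact (PrimeSpectrum.mem_vanishingIdeal _ _).1 hx.1 _ h
    · exact (PrimeSpectrum.mem_vanishingIdeal _ _).1 hx.2 _ h
  have hne : ∀ (S : Set (PrimeSpectrum R)), IsClosed S → (∀ s ∉ p.asIdeal, ∃ q, s ∉ q.asIdeal ∧ q ∉ S) →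
      (PrimeSpectrum.vanishingIdeal S).map (algebraMap R A) ≠ ⊥ := fun S hS hnS h0 => by
    have hk : ∀ b ∈ PrimeSpectrum.vanishingIdeal S, ∃ s : p.asIdeal.primeCompl, (s : R) * b = 0 := fun b hb => by
      refine (IsLocalization.map_eq_zero_iff p.asIdeal.primeCompl A b).1 ?_
      exact Ideal.mem_bot.1 (h0 ▸ Ideal.mem_map_of_mem _ hb)
    obtain ⟨G, hG⟩ := (IsNoetherian.noetherian (PrimeSpectrum.vanishingIdeal S) :
      (PrimeSpectrum.vanishingIdeal S).FG)
    choose s hs using fun b : G => hk b.1 (hG ▸ Ideal.subset_span b.2)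
    obtain ⟨q, hq1, hq2⟩ := hnS ((∏ b : G, s b : p.asIdeal.primeCompl) : R) (∏ b : G, s b).2
    refine hq2 (hmem S hS q (hG ▸ Ideal.span_le.2 fun b hb => ?_))
    classical
    have h1 : ((∏ c : G, s c : p.asIdeal.primeCompl) : R) * b = 0 := by
      rw [← Finset.mul_prod_erase Finset.univ s (Finset.mem_univ ⟨b, hb⟩), Submonoid.coe_mul, mul_right_comm,
        hs ⟨b, hb⟩, zero_mul]
    exact (q.2.mem_or_mem (h1 ▸ q.asIdeal.zero_mem : _ * b ∈ q.asIdeal)).resolve_left hq1
  have hrad : ∀ (S : Set (PrimeSpectrum R)), ((PrimeSpectrum.vanishingIdeal S).map (algebraMap R A)).IsRadical :=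
    fun S => by
      rw [← Ideal.radical_eq_iff, ← IsLocalization.map_radical p.asIdeal.primeCompl,
        (PrimeSpectrum.isRadical_vanishingIdeal S).radical]
  have hloc : maximalIdeal A ≤ I.map (algebraMap R A) ⊔ J.map (algebraMap R A) := by
    refine maximalIdeal_le_sup e hreg _ _ (hrad Z) (hrad Z') ?_ (hne Z hZ hn) (hne Z' hZ' hn') fun q hqp hqle => ?_
    · rw [← Ideal.map_mul, hmul, Ideal.map_bot]
    · rw [← Ideal.map_sup, Ideal.map_le_iff_le_comap] at hqle
      have h1 := hq ⟨q.comap (algebraMap R A), Ideal.IsPrime.comap _⟩ hqle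
      rw [← IsLocalization.map_comap p.asIdeal.primeCompl A q,
        show Ideal.under R q = p.asIdeal from congrArg PrimeSpectrum.asIdeal h1]
      exact IsLocalization.AtPrime.map_eq_maximalIdeal p.asIdeal A
  refine le_antisymm hle fun r hr => ?_
  by_contra hrn
  let C : Ideal R :=
    { carrier := {s | s * r ∈ I ⊔ J}
      add_mem' := fun {a b} ha hb => by rw [Set.mem_setOf_eq, add_mul]; exact add_mem ha hb
      zero_mem' := by rw [Set.mem_setOf_eq, zero_mul]; exact zero_mem _
      smul_mem' := fun c x hx => by rw [Set.mem_setOf_eq, smul_eq_mul, mul_assoc]; exact Ideal.mul_mem_left _ c hx }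
  have hC : C ≠ ⊤ := fun h => hrn (by
    have h1 : (1 : R) * r ∈ I ⊔ J := show (1 : R) ∈ C from h ▸ Submodule.mem_top
    rwa [one_mul] at h1)
  obtain ⟨q, hqm, hCq⟩ := Ideal.exists_le_maximal C hC
  have hqp : (⟨q, hqm.isPrime⟩ : PrimeSpectrum R) = p :=
    hq _ fun x hx => hCq (show x * r ∈ I ⊔ J from Ideal.mul_mem_right _ _ hx)
  have h1 : algebraMap R A r ∈ (I ⊔ J).map (algebraMap R A) := by
    rw [Ideal.map_sup]
    refine hloc ?_
    rw [← IsLocalization.AtPrime.map_eq_maximalIdeal p.asIdeal A]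
    exact Ideal.mem_map_of_mem _ hr
  obtain ⟨⟨⟨x, hx⟩, s⟩, hs⟩ := (IsLocalization.mem_map_algebraMap_iff p.asIdeal.primeCompl A).1 h1
  rw [← map_mul] at hs
  obtain ⟨s', hs'⟩ := (IsLocalization.eq_iff_exists p.asIdeal.primeCompl A).1 hs
  have h2 : ((s' * s : p.asIdeal.primeCompl) : R) ∈ C := by
    show ((s' : R) * s) * r ∈ I ⊔ J
    rw [mul_assoc, mul_comm (s : R), hs']
    exact Ideal.mul_mem_left _ _ hx
  have hqe : q = p.asIdeal := congrArg PrimeSpectrum.asIdeal hqp
  exact (show ((s' * s : p.asIdeal.primeCompl) : R) ∉ p.asIdeal from (s' * s).2) (hqe.le (hCq h2))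

end Groth.Agent.TFPush7
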