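import Groth.Agent.TFPush7.NodeRad
import Mathlib.RingTheory.PowerSeries.Inverse

/-!
# Torsion-free modules of rank one over the local ring of a node
-/

set_option autoImplicit false
set_option linter.style.haveILetI false
set_option backward.isDefEq.respectTransparency false
set_option maxHeartbeats 1000000

universe u

open IsLocalRing

namespace Groth.Agent.TFPush7

open NormSeq24 (Cross toPair toPair_ne_zero_of_mem toPair_injective exists_toPair constantCoeff_toPair)

/-- A finite torsion-free module of generic rank one embeds in the ring with regular cokernel annihilator. -/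
theorem exists_embedding {A : Type u} [CommRing A] [IsNoetherianRing A] [_root_.IsReduced A] {L : Type u}
    [AddCommGroup L] [Module A L] [Module.Finite A L]
    (htf : ∀ a ∈ nonZeroDivisors A, ∀ v : L, a • v = 0 → v = 0)
    (hloc : ∀ P ∈ minimalPrimes A, ∃ (K V : Type u) (_ : Field K) (_ : AddCommGroup V) (_ : Module K V)
      (f : A →+* K) (ρ : L →+ V), Module.finrank K V = 1 ∧ (∀ a v, ρ (a • v) = f a • ρ v) ∧
        (∀ a, f a = 0 → a ∈ P) ∧ (∀ z : K, ∃ (b s : A), s ∉ P ∧ f s * z = f b) ∧ (∀ z : V, ∃ (v : L) (s : A), s ∉ P ∧ f s • z = ρ v) ∧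
        (∀ v : L, ρ v = 0 → ∃ s, s ∉ P ∧ s • v = 0)) :
    ∃ ι : L →ₗ[A] A, Function.Injective ι ∧ ∃ t ∈ nonZeroDivisors A, t ∈ LinearMap.range ι := by
  classical
  have hfin := minimalPrimes.finite_of_isNoetherianRing A
  have hnzd : ∀ a : A, (∀ P ∈ minimalPrimes A, a ∉ P) → a ∈ nonZeroDivisors A := fun a ha =>
    mem_nonZeroDivisors_iff_left.2 fun z hz => IsNilpotent.eq_zero (mem_nilradical.1 (by
      rw [nilradical, ← Ideal.sInf_minimalPrimes, Submodule.mem_sInf]
      exact fun P hP => ((hP.1.1).mem_or_mem (hz ▸ P.zero_mem : a * z ∈ P)).resolve_left (ha P hP)))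
  choose K V hK hV hKV f ρ hrk hsmul hker hfrac hsurj hzero using hloc
  -- an element surviving everywhere
  have hne : ∀ P (hP : P ∈ minimalPrimes A), ∃ v : L, ρ P hP v ≠ 0 := fun P hP => by
    letI := hK P hP; letI := hV P hP; letI := hKV P hP
    haveI : Nontrivial (V P hP) := Module.nontrivial_of_finrank_pos (R := K P hP) (by rw [hrk P hP]; exact one_pos)
    obtain ⟨z, hz⟩ := exists_ne (0 : V P hP)
    obtain ⟨v, s, hs, he⟩ := hsurj P hP z
    refine ⟨v, fun h0 => ?_⟩
    rw [h0] at he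
    exact hz ((smul_eq_zero.1 he).resolve_left fun hfs => hs (hker P hP s hfs))
  choose v₀ hv₀ using hne
  haveI := hfin.to_subtype
  haveI := Fintype.ofFinite (minimalPrimes A)
  have hsep : ∀ P : minimalPrimes A, ∃ s : A, s ∉ P.1 ∧ ∀ Q : minimalPrimes A, Q ≠ P → s ∈ Q.1 := fun P => by
    have : ¬ ((Finset.univ.erase P).inf fun Q : minimalPrimes A => Q.1) ≤ P.1 := fun h => by
      obtain ⟨Q, hQ, hle⟩ := (P.2.1.1).inf_le'.1 h
      exact (Finset.mem_erase.1 hQ).1 (Subtype.ext (le_antisymm hle (P.2.2 ⟨Q.2.1.1, bot_le⟩ hle)))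
    obtain ⟨s, hs, hsP⟩ := SetLike.not_le_iff_exists.1 this
    exact ⟨s, hsP, fun Q hQ => Submodule.mem_finsetInf.1 hs Q (Finset.mem_erase.2 ⟨hQ, Finset.mem_univ _⟩)⟩
  choose s hs hs' using hsep
  have hf0 : ∀ P (hP : P ∈ minimalPrimes A) (b : A), b ∈ P → (letI := hK P hP; f P hP b = 0) := fun P hP b hb => by
    letI := hK P hP
    by_contra h
    -- a minimal prime consists of zero divisors
    obtain ⟨c, hc, hcP⟩ : ∃ c, c * b = 0 ∧ c ∉ P := by
      have : ¬ ((Finset.univ.erase (⟨P, hP⟩ : minimalPrimes A)).inf fun Q : minimalPrimes A => Q.1) ≤ P := fun h => by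
        obtain ⟨Q, hQ, hle⟩ := (hP.1.1).inf_le'.1 h
        exact (Finset.mem_erase.1 hQ).1 (Subtype.ext (le_antisymm hle (hP.2 ⟨Q.2.1.1, bot_le⟩ hle)))
      obtain ⟨c, hc, hcP⟩ := SetLike.not_le_iff_exists.1 this
      refine ⟨c, IsNilpotent.eq_zero (mem_nilradical.1 ?_), hcP⟩
      rw [nilradical, ← Ideal.sInf_minimalPrimes, Submodule.mem_sInf]
      intro Q hQ
      by_cases hQP : Q = P
      · subst hQP; exact Ideal.mul_mem_left Q c hb
      · exact Ideal.mul_mem_right b Q (Submodule.mem_finsetInf.1 hc ⟨Q, hQ⟩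
          (Finset.mem_erase.2 ⟨fun h => hQP (congrArg Subtype.val h), Finset.mem_univ _⟩))
    have h1 := congrArg (f P hP) hc
    rw [map_mul, map_zero] at h1
    exact hcP (hker P hP c ((mul_eq_zero.1 h1).resolve_right h))
  let l : L := ∑ P : minimalPrimes A, s P • v₀ P.1 P.2
  have hl : ∀ P (hP : P ∈ minimalPrimes A), ρ P hP l ≠ 0 := fun P hP h0 => by
    letI := hK P hP; letI := hV P hP; letI := hKV P hP
    simp only [l, map_sum, hsmul] at h0
    rw [Finset.sum_eq_single (⟨P, hP⟩ : minimalPrimes A) (fun Q _ hQ => by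
        rw [hf0 P hP (s Q) (hs' Q ⟨P, hP⟩ (Ne.symm hQ)), zero_smul])
      (fun h => absurd (Finset.mem_univ _) h)] at h0
    exact hv₀ P hP ((smul_eq_zero.1 h0).resolve_left fun hfs => hs ⟨P, hP⟩ (hker P hP _ hfs))
  have hinj : Function.Injective (LinearMap.toSpanSingleton A L l) := (injective_iff_map_eq_zero _).2 fun a ha => by
    refine IsNilpotent.eq_zero (mem_nilradical.1 ?_)
    rw [nilradical, ← Ideal.sInf_minimalPrimes, Submodule.mem_sInf]
    intro P hP
    letI := hK P hP; letI := hV P hP; letI := hKV P hP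
    have h1 := congrArg (ρ P hP) ha
    rw [LinearMap.toSpanSingleton_apply, hsmul, map_zero] at h1
    exact hker P hP a ((smul_eq_zero.1 h1).resolve_right (hl P hP))
  let Q := L ⧸ LinearMap.range (LinearMap.toSpanSingleton A L l)
  have hAnn : ∀ P ∈ minimalPrimes A, ¬ Module.annihilator A Q ≤ P := fun P hP hle => by
    letI := hK P hP; letI := hV P hP; letI := hKV P hP
    obtain ⟨G, hG⟩ := (Module.Finite.fg_top : (⊤ : Submodule A L).FG)
    have hv : ∀ v : L, ∃ c, c ∉ P ∧ c • v ∈ LinearMap.range (LinearMap.toSpanSingleton A L l) := fun v => by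
      haveI : Module.Finite (K P hP) (V P hP) := Module.finite_of_finrank_eq_succ (hrk P hP)
      obtain ⟨z, hz⟩ := exists_smul_eq_of_finrank_eq_one (hrk P hP) (hl P hP) (ρ P hP v)
      obtain ⟨b, c, hc, hbc⟩ := hfrac P hP z
      have h0 : ρ P hP (c • v - b • l) = 0 := by
        rw [map_sub, hsmul, hsmul, ← hz, smul_smul, hbc, sub_self]
      obtain ⟨w, hw, hw'⟩ := hzero P hP _ h0
      refine ⟨w * c, fun h => (hP.1.1.mem_or_mem h).elim hw hc, w * b, ?_⟩
      rw [LinearMap.toSpanSingleton_apply, mul_smul, mul_smul]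
      rw [smul_sub, sub_eq_zero] at hw'
      exact hw'.symm
    choose c hc hc' using hv
    have hmem : ∏ g ∈ G, c g ∈ Module.annihilator A Q := by
      rw [Module.mem_annihilator]
      intro q
      obtain ⟨v, rfl⟩ := Submodule.Quotient.mk_surjective _ q
      rw [← Submodule.Quotient.mk_smul, Submodule.Quotient.mk_eq_zero]
      have hv' : v ∈ Submodule.span A (G : Set L) := hG.symm ▸ Submodule.mem_top
      induction hv' using Submodule.span_induction with
      | mem g hg =>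
        rw [← Finset.mul_prod_erase G c hg, mul_comm, mul_smul]
        exact Submodule.smul_mem _ _ (hc' g)
      | zero => rw [smul_zero]; exact zero_mem _
      | add x y _ _ hx hy => rw [smul_add]; exact add_mem hx hy
      | smul r x _ hx => rw [smul_comm]; exact Submodule.smul_mem _ _ hx
    obtain ⟨g, hg, hgP⟩ := (Ideal.IsPrime.prod_mem_iff (hp := hP.1.1)).1 (hle hmem)
    exact hc g hgP
  obtain ⟨t, htA, htP⟩ : ∃ t ∈ Module.annihilator A Q, ∀ P ∈ minimalPrimes A, t ∉ P := by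
    by_contra h
    push Not at h
    have hsub : (Module.annihilator A Q : Set A) ⊆ ⋃ P ∈ (hfin.toFinset : Set (Ideal A)), (P : Set A) := fun t ht => by
      obtain ⟨P, hP, htP⟩ := h t ht
      exact Set.mem_biUnion (hfin.mem_toFinset.2 hP) htP
    obtain ⟨P, hP, hle⟩ := (Ideal.subset_union_prime (f := id) ⊥ ⊥ fun P hP _ _ => (hfin.mem_toFinset.1 hP).1.1).1 hsub
    exact hAnn P (hfin.mem_toFinset.1 hP) hle
  have htn := hnzd t htP
  let e := LinearEquiv.ofInjective _ hinj
  let μ : L →ₗ[A] LinearMap.range (LinearMap.toSpanSingleton A L l) := (t • LinearMap.id : L →ₗ[A] L).codRestrict _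
    fun v => (Submodule.Quotient.mk_eq_zero _).1 ((Submodule.Quotient.mk_smul _ t v).trans
      (Module.mem_annihilator.1 htA _))
  refine ⟨e.symm.toLinearMap.comp μ, e.symm.injective.comp fun v w h => ?_, t, htn, l, ?_⟩
  · have h' : t • v = t • w := congrArg Subtype.val h
    exact sub_eq_zero.1 (htf t htn _ (by rw [smul_sub, h', sub_self]))
  · show e.symm (μ l) = t
    rw [LinearEquiv.symm_apply_eq]
    exact Subtype.ext rfl

/-- An element of the completion is approximated to any order by elements of the ring. -/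
theorem exists_sub_mem_pow (A : Type u) [CommRing A] [IsLocalRing A] [IsNoetherianRing A]
    (N : ℕ) (z : AdicCompletion (maximalIdeal A) A) : ∃ x : A,
      z - algebraMap A (AdicCompletion (maximalIdeal A) A) x ∈
        (maximalIdeal A ^ N).map (algebraMap A (AdicCompletion (maximalIdeal A) A)) := by
  obtain ⟨-, hres⟩ := EGA43.ConnFlat.exists_sub_mem_cpl A
  let f := algebraMap A (AdicCompletion (maximalIdeal A) A)
  induction N generalizing z with
  | zero => exact ⟨0, by rw [pow_zero, Ideal.one_eq_top, Ideal.map_top]; exact Submodule.mem_top⟩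
  | succ N ih =>
    obtain ⟨x, hx⟩ := ih z
    have key : ∀ w ∈ (maximalIdeal A ^ N).map f, ∃ a : A, w - f a ∈ (maximalIdeal A ^ (N + 1)).map f := by
      intro w hw
      suffices H : ∀ b, ∃ a : A, b * w - f a ∈ (maximalIdeal A ^ (N + 1)).map f by
        obtain ⟨a, ha⟩ := H 1
        exact ⟨a, by rwa [one_mul] at ha⟩
      refine Submodule.span_induction ?_ ?_ ?_ ?_ hw
      · rintro _ ⟨c, hc, rfl⟩ b
        obtain ⟨r, hr⟩ := hres b
        refine ⟨r * c, ?_⟩
        rw [map_mul, ← sub_mul, pow_succ', Ideal.map_mul, AdicCompletion.maximalIdeal_eq_map.symm]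
        exact Ideal.mul_mem_mul hr (Ideal.mem_map_of_mem f hc)
      · exact fun b => ⟨0, by rw [mul_zero, map_zero, sub_zero]; exact zero_mem _⟩
      · intro u v _ _ hu hv b
        obtain ⟨a, ha⟩ := hu b
        obtain ⟨a', ha'⟩ := hv b
        exact ⟨a + a', by rw [mul_add, map_add, add_sub_add_comm]; exact add_mem ha ha'⟩
      · intro r u _ hu b
        obtain ⟨a, ha⟩ := hu (b * r)
        exact ⟨a, by rwa [smul_eq_mul, ← mul_assoc]⟩
    obtain ⟨a, ha⟩ := key _ hx
    exact ⟨x + a, by rwa [map_add, ← sub_sub]⟩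

open PowerSeries in
/-- A non-principal ideal of the cross containing a regular element is a product. -/
theorem exists_axes {K : Type u} [Field K] (J : Ideal (Cross K)) {t : Cross K} (ht : t ∈ J)
    (ht0 : t ∈ nonZeroDivisors (Cross K)) (hnp : ∀ j ∈ J, J ≠ Ideal.span {j}) :
    ∃ g₁ g₂ : PowerSeries K, g₁ ≠ 0 ∧ g₂ ≠ 0 ∧ constantCoeff g₁ = 0 ∧ constantCoeff g₂ = 0 ∧
      ∀ z, z ∈ J ↔ g₁ ∣ (toPair K z).1 ∧ g₂ ∣ (toPair K z).2 := by
  let p₁ : Cross K →+* PowerSeries K := (RingHom.fst _ _).comp (toPair K)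
  let p₂ : Cross K →+* PowerSeries K := (RingHom.snd _ _).comp (toPair K)
  obtain ⟨ht1, ht2⟩ := toPair_ne_zero_of_mem ht0
  have hs₁ : Function.Surjective p₁ := fun g => by
    obtain ⟨z, hz⟩ := exists_toPair (f := g) (h := C (constantCoeff g)) (by simp)
    exact ⟨z, congrArg Prod.fst hz⟩
  have hs₂ : Function.Surjective p₂ := fun g => by
    obtain ⟨z, hz⟩ := exists_toPair (f := C (constantCoeff g)) (h := g) (by simp)
    exact ⟨z, congrArg Prod.snd hz⟩
  obtain ⟨g₁, hg₁⟩ : ∃ g, J.map p₁ = Ideal.span {g} := ⟨_, (Ideal.span_singleton_generator _).symm⟩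
  obtain ⟨g₂, hg₂⟩ : ∃ g, J.map p₂ = Ideal.span {g} := ⟨_, (Ideal.span_singleton_generator _).symm⟩
  have hd : ∀ z ∈ J, g₁ ∣ (toPair K z).1 ∧ g₂ ∣ (toPair K z).2 := fun z hz =>
    ⟨Ideal.mem_span_singleton.1 (hg₁ ▸ Ideal.mem_map_of_mem p₁ hz), Ideal.mem_span_singleton.1 (hg₂ ▸ Ideal.mem_map_of_mem p₂ hz)⟩
  have h10 : g₁ ≠ 0 := fun h => ht1 (zero_dvd_iff.1 (h ▸ (hd t ht).1))
  have h20 : g₂ ≠ 0 := fun h => ht2 (zero_dvd_iff.1 (h ▸ (hd t ht).2))
  obtain ⟨j₁, hj₁, hj₁'⟩ := (Ideal.mem_map_iff_of_surjective p₁ hs₁).1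
    (show g₁ ∈ J.map p₁ from hg₁.symm ▸ Ideal.mem_span_singleton_self g₁)
  obtain ⟨β, hβ⟩ := (hd j₁ hj₁).2
  replace hj₁' : (toPair K j₁).1 = g₁ := hj₁'
  -- axis elements of `J`
  have hax₁ : ∀ c : PowerSeries K, constantCoeff c = 0 → ∃ z ∈ J, toPair K z = (c * g₁, 0) := fun c hc => by
    obtain ⟨w, hw⟩ := exists_toPair (f := c) (h := 0) (by rw [hc, map_zero])
    exact ⟨w * j₁, J.mul_mem_left w hj₁, by rw [map_mul, hw, Prod.ext_iff, Prod.fst_mul, Prod.snd_mul, hj₁', zero_mul]; exact ⟨rfl, rfl⟩⟩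
  obtain ⟨j₂, hj₂, hj₂'⟩ := (Ideal.mem_map_iff_of_surjective p₂ hs₂).1
    (show g₂ ∈ J.map p₂ from hg₂.symm ▸ Ideal.mem_span_singleton_self g₂)
  replace hj₂' : (toPair K j₂).2 = g₂ := hj₂'
  have hax₂ : ∀ c : PowerSeries K, constantCoeff c = 0 → ∃ z ∈ J, toPair K z = (0, c * g₂) := fun c hc => by
    obtain ⟨w, hw⟩ := exists_toPair (f := 0) (h := c) (by rw [hc, map_zero])
    exact ⟨w * j₂, J.mul_mem_left w hj₂, by rw [map_mul, hw, Prod.ext_iff, Prod.fst_mul, Prod.snd_mul, hj₂', zero_mul]; exact ⟨rfl, rfl⟩⟩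
  -- subtracting axis elements reduces to constants
  have hconst : ∀ z ∈ J, ∀ a b : PowerSeries K, toPair K z = (a * g₁, b * g₂) →
      ∃ w ∈ J, toPair K w = (C (constantCoeff a) * g₁, C (constantCoeff b) * g₂) := fun z hz a b e => by
    obtain ⟨u, hu, hu'⟩ := hax₁ (a - C (constantCoeff a)) (by simp)
    obtain ⟨v, hv, hv'⟩ := hax₂ (b - C (constantCoeff b)) (by simp)
    refine ⟨z - u - v, J.sub_mem (J.sub_mem hz hu) hv, ?_⟩
    rw [map_sub, map_sub, e, hu', hv', Prod.ext_iff]
    constructor <;> simp only [Prod.fst_sub, Prod.snd_sub] <;> ring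
  -- both pure generators
  have hboth : ∃ u ∈ J, ∃ v ∈ J, toPair K u = (g₁, 0) ∧ toPair K v = (0, g₂) := by
    obtain ⟨w₁, hw₁, hw₁'⟩ := hconst j₁ hj₁ 1 β (Prod.ext (hj₁'.trans (one_mul g₁).symm) (hβ.trans (mul_comm g₂ β)))
    rw [map_one, map_one, one_mul] at hw₁'
    set β₀ := constantCoeff β
    by_cases hall : ∀ z ∈ J, ∀ a b : PowerSeries K, toPair K z = (a * g₁, b * g₂) → constantCoeff b = constantCoeff a * β₀
    · exfalso
      have hβ0 : β₀ ≠ 0 := fun h => by
        obtain ⟨a, ha⟩ := (hd j₂ hj₂).1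
        have := hall j₂ hj₂ a 1 (Prod.ext (ha.trans (mul_comm g₁ a)) (hj₂'.trans (one_mul g₂).symm))
        rw [h, mul_zero, map_one] at this
        exact one_ne_zero this
      refine hnp w₁ hw₁ (le_antisymm (fun z hz => Ideal.mem_span_singleton.2 ?_) (Ideal.span_le.2 (Set.singleton_subset_iff.2 hw₁)))
      obtain ⟨⟨a, ha⟩, b, hb⟩ := hd z hz
      have hab := hall z hz a b (Prod.ext (ha.trans (mul_comm g₁ a)) (hb.trans (mul_comm g₂ b)))
      obtain ⟨q, hq⟩ := exists_toPair (f := a) (h := b * C β₀⁻¹) (by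
        rw [map_mul, constantCoeff_C, hab, mul_assoc, mul_inv_cancel₀ hβ0, mul_one])
      refine ⟨q, toPair_injective ?_⟩
      rw [map_mul, hq, hw₁', Prod.mk_mul_mk]
      refine Prod.ext ha (hb.trans ?_)
      show g₂ * b = C β₀ * g₂ * (b * C β₀⁻¹)
      rw [show C β₀ * g₂ * (b * C β₀⁻¹) = (C β₀ * C β₀⁻¹) * (g₂ * b) by ring, ← map_mul, mul_inv_cancel₀ hβ0,
        map_one, one_mul]
    · push Not at hall
      obtain ⟨z, hz, a, b, e, hne⟩ := hall
      obtain ⟨w, hw, hw'⟩ := hconst z hz a b e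
      set γ := constantCoeff b - constantCoeff a * β₀
      have hγ : γ ≠ 0 := sub_ne_zero.2 hne
      obtain ⟨ca, hca⟩ := exists_toPair (f := (C (constantCoeff a) : PowerSeries K)) (h := C (constantCoeff a)) rfl
      obtain ⟨cg, hcg⟩ := exists_toPair (f := (C γ⁻¹ : PowerSeries K)) (h := C γ⁻¹) rfl
      obtain ⟨cb, hcb⟩ := exists_toPair (f := (C β₀ : PowerSeries K)) (h := C β₀) rfl
      have hv : toPair K (cg * (w - ca * w₁)) = (0, g₂) := by
        rw [map_mul, map_sub, map_mul, hcg, hw', hca, hw₁', Prod.mk_mul_mk, Prod.mk_sub_mk, Prod.mk_mul_mk]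
        refine Prod.ext (by ring) ?_
        show C γ⁻¹ * (C (constantCoeff b) * g₂ - C (constantCoeff a) * (C β₀ * g₂)) = g₂
        rw [show C γ⁻¹ * (C (constantCoeff b) * g₂ - C (constantCoeff a) * (C β₀ * g₂)) =
          C γ⁻¹ * (C (constantCoeff b) - C (constantCoeff a) * C β₀) * g₂ by ring, ← map_mul, ← map_sub,
          ← map_mul, inv_mul_cancel₀ hγ, map_one, one_mul]
      refine ⟨w₁ - cb * (cg * (w - ca * w₁)), J.sub_mem hw₁ (J.mul_mem_left _ (J.mul_mem_left _ (J.sub_mem hw (J.mul_mem_left _ hw₁)))),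
        cg * (w - ca * w₁), J.mul_mem_left _ (J.sub_mem hw (J.mul_mem_left _ hw₁)), ?_, hv⟩
      rw [map_sub, map_mul, hv, hcb, hw₁', Prod.mk_mul_mk, Prod.mk_sub_mk]
      exact Prod.ext (by ring) (by ring)
  obtain ⟨u, hu, v, hv, hu', hv'⟩ := hboth
  refine ⟨g₁, g₂, h10, h20, ?_, ?_, fun z => ⟨hd z, fun ⟨⟨a, ha⟩, b, hb⟩ => ?_⟩⟩
  · have := constantCoeff_toPair u
    rw [hu'] at this
    exact this.trans (map_zero _)
  · have := constantCoeff_toPair v
    rw [hv'] at this
    exact this.symm.trans (map_zero _)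
  · obtain ⟨qa, hqa⟩ := exists_toPair (f := a) (h := C (constantCoeff a)) (by simp)
    obtain ⟨qb, hqb⟩ := exists_toPair (f := C (constantCoeff b)) (h := b) (by simp)
    have : z = qa * u + qb * v := toPair_injective (by
      rw [map_add, map_mul, map_mul, hqa, hqb, hu', hv', Prod.mk_mul_mk, Prod.mk_mul_mk, Prod.mk_add_mk,
        mul_zero, mul_zero, add_zero, zero_add]
      exact Prod.ext (ha.trans (mul_comm _ _)) (hb.trans (mul_comm _ _)))
    exact this ▸ J.add_mem (J.mul_mem_left _ hu) (J.mul_mem_left _ hv)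

open PowerSeries in
/-- A torsion-free module of rank one over a node is free or the maximal ideal. -/
theorem free_or_maximalIdeal {K : Type u} [Field K] {A : Type u} [CommRing A] [IsLocalRing A] [IsNoetherianRing A]
    (e : AdicCompletion (maximalIdeal A) A ≃+* Cross K) (hreg : ∃ t ∈ maximalIdeal A, t ∈ nonZeroDivisors A)
    {L : Type u} [AddCommGroup L] [Module A L] (ι : L →ₗ[A] A) (hι : Function.Injective ι)
    (hL : ∃ t ∈ nonZeroDivisors A, t ∈ LinearMap.range ι) :
    Nonempty (L ≃ₗ[A] A) ∨ Nonempty (L ≃ₗ[A] maximalIdeal A) := by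
  let Ac := AdicCompletion (maximalIdeal A) A
  obtain ⟨hloc, -⟩ := EGA43.ConnFlat.exists_sub_mem_cpl A
  haveI := hloc
  haveI : Module.FaithfullyFlat A Ac := Module.FaithfullyFlat.of_flat_of_isLocalHom
  let f : A →+* Cross K := e.toRingHom.comp (algebraMap A Ac)
  have hfi : Function.Injective f := e.injective.comp (FaithfulSMul.algebraMap_injective A Ac)
  have hcomap : ∀ I : Ideal A, (I.map f).comap f = I := fun I => by
    show (I.map (e.toRingHom.comp (algebraMap A Ac))).comap (e.toRingHom.comp (algebraMap A Ac)) = I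
    rw [← Ideal.map_map, ← Ideal.comap_comap, Ideal.comap_map_of_bijective (e.toRingHom) e.bijective,
      Ideal.comap_map_eq_self_of_faithfullyFlat]
  have hfn : ∀ {t : A}, t ∈ nonZeroDivisors A → f t ∈ nonZeroDivisors (Cross K) := fun {t} ht => by
    have htn : IsSMulRegular Ac (algebraMap A Ac t) := IsSMulRegular.of_flat fun x y hxy => sub_eq_zero.1
      (mem_nonZeroDivisors_iff_left.1 ht (x - y) (by rw [mul_sub]; exact sub_eq_zero.2 hxy))
    refine mem_nonZeroDivisors_iff_left.2 fun z hz => e.symm.injective ((htn ?_).trans (map_zero e.symm).symm)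
    show algebraMap A Ac t * e.symm z = algebraMap A Ac t * 0
    rw [mul_zero, ← e.symm_apply_apply (algebraMap A Ac t), ← map_mul]
    exact (congrArg e.symm hz).trans (map_zero _)
  obtain ⟨s, hs, hsI⟩ := hL
  let I : Ideal A := LinearMap.range ι
  let eI : L ≃ₗ[A] I := LinearEquiv.ofInjective ι hι
  by_cases hp : ∃ j ∈ I.map f, I.map f = Ideal.span {j}
  · -- principal
    obtain ⟨j, hj, hspan⟩ := hp
    left
    have : ∃ i ∈ I, I.map f = Ideal.span {f i} := by
      by_contra h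
      push Not at h
      have hle : I.map f ≤ Ideal.map f (maximalIdeal A) * Ideal.span {j} := Ideal.map_le_iff_le_comap.2 fun i hi => by
        obtain ⟨d, hd⟩ := Ideal.mem_span_singleton.1 (hspan ▸ Ideal.mem_map_of_mem f hi)
        rw [Ideal.mem_comap, hd]
        refine Ideal.mem_mul_span_singleton.2 ⟨d, ?_, mul_comm d j⟩
        by_contra hdm
        refine h i hi (le_antisymm ?_ (Ideal.span_le.2 (Set.singleton_subset_iff.2 (Ideal.mem_map_of_mem f hi))))
        rw [hspan, Ideal.span_le, Set.singleton_subset_iff, hd]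
        have hu : IsUnit d := by
          have hu' : IsUnit (e.symm d) := by
            by_contra hn
            refine hdm ?_
            have h1 : e.symm d ∈ (maximalIdeal A).map (algebraMap A Ac) := by
              rw [AdicCompletion.maximalIdeal_eq_map.symm]; exact (mem_maximalIdeal _).2 hn
            have h2 := Ideal.mem_map_of_mem e.toRingHom h1
            rw [Ideal.map_map] at h2
            simpa [f] using h2
          have h4 := hu'.map e.toRingHom
          rwa [show e.toRingHom (e.symm d) = d from e.apply_symm_apply d] at h4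
        exact Ideal.mem_span_singleton.2 ((associated_mul_unit_right j d hu).symm.dvd)
      obtain ⟨c, hc, hcj⟩ := Ideal.mem_mul_span_singleton.1 (hle hj)
      obtain ⟨hs1, hs2⟩ := toPair_ne_zero_of_mem (hfn hs)
      obtain ⟨d, hd⟩ := Ideal.mem_span_singleton.1 (hspan ▸ Ideal.mem_map_of_mem f hsI)
      have hcu : IsUnit (1 - c) := by
        have h1 : e.symm c ∈ maximalIdeal Ac := by
          rw [AdicCompletion.maximalIdeal_eq_map]
          have h2 : (maximalIdeal A).map f = ((maximalIdeal A).map (algebraMap A Ac)).map e.toRingHom := (Ideal.map_map _ _).symm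
          rw [h2] at hc
          obtain ⟨w, hw, rfl⟩ := (Ideal.mem_map_iff_of_surjective _ e.surjective).1 hc
          show e.symm (e w) ∈ _
          rw [e.symm_apply_apply]
          exact hw
        have h3 := (IsLocalRing.isUnit_one_sub_self_of_mem_nonunits _ h1).map e.toRingHom
        rwa [map_sub, map_one, show e.toRingHom (e.symm c) = c from e.apply_symm_apply c] at h3
      have hj0 : j = 0 := hcu.mul_right_eq_zero.1 (by rw [sub_mul, one_mul, hcj, sub_self])
      rw [hj0, zero_mul] at hd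
      rw [hd, map_zero] at hs1
      exact hs1 rfl
    obtain ⟨i, hi, hi'⟩ := this
    have hI : I = Ideal.span {i} := by
      rw [← hcomap I, hi', show Ideal.span {f i} = (Ideal.span {i}).map f by rw [Ideal.map_span, Set.image_singleton], hcomap]
    obtain ⟨d, hd⟩ := Ideal.mem_span_singleton.1 (hI ▸ hsI : s ∈ Ideal.span {i})
    have hin : Function.Injective (LinearMap.toSpanSingleton A A i) := (injective_iff_map_eq_zero _).2 fun a ha =>
      mem_nonZeroDivisors_iff_left.1 hs a (by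
        rw [LinearMap.toSpanSingleton_apply, smul_eq_mul] at ha
        rw [hd, show i * d * a = a * i * d by ring, ha, zero_mul])
    refine ⟨eI.trans ((LinearEquiv.ofEq _ _ ?_).trans (LinearEquiv.ofInjective _ hin).symm)⟩
    rw [hI, LinearMap.range_toSpanSingleton]
  · -- the maximal ideal
    push Not at hp
    right
    obtain ⟨g₁, g₂, hg₁, hg₂, hc₁, hc₂, hJ⟩ := exists_axes (I.map f) (Ideal.mem_map_of_mem f hsI) (hfn hs) hp
    obtain ⟨t, ht, htn⟩ := hreg
    let F : A →+* PowerSeries K × PowerSeries K := (toPair K).comp f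
    have hX : ∀ z ∈ (maximalIdeal A).map f, PowerSeries.X ∣ (toPair K z).1 ∧ PowerSeries.X ∣ (toPair K z).2 := by
      intro z hz
      have hcz : PowerSeries.constantCoeff (toPair K z).1 = 0 := by
        by_contra hne
        have hne2 : PowerSeries.constantCoeff (toPair K z).2 ≠ 0 := constantCoeff_toPair z ▸ hne
        obtain ⟨w, hw⟩ := exists_toPair (f := (toPair K z).1⁻¹) (h := (toPair K z).2⁻¹) (by
          rw [PowerSeries.constantCoeff_inv, PowerSeries.constantCoeff_inv, constantCoeff_toPair z])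
        have hu : IsUnit z := .of_mul_eq_one w (toPair_injective (by
          rw [map_mul, hw, map_one]
          exact Prod.ext (PowerSeries.mul_inv_cancel _ hne) (PowerSeries.mul_inv_cancel _ hne2)))
        have h2 : (maximalIdeal A).map f = ⊤ := Ideal.eq_top_of_isUnit_mem _ hz hu
        have h3 := hcomap (maximalIdeal A)
        rw [h2, Ideal.comap_top] at h3
        exact (maximalIdeal.isMaximal A).ne_top h3.symm
      exact ⟨X_dvd_iff.2 hcz, X_dvd_iff.2 ((constantCoeff_toPair z).symm.trans hcz)⟩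
    obtain ⟨ht1, ht2⟩ := toPair_ne_zero_of_mem (hfn htn)
    obtain ⟨⟨t₁, htt₁⟩, t₂, htt₂⟩ := hX (f t) (Ideal.mem_map_of_mem f ht)
    obtain ⟨h₁, hh₁⟩ := X_dvd_iff.2 hc₁
    obtain ⟨h₂, hh₂⟩ := X_dvd_iff.2 hc₂
    have hz0 : h₁ * (F t).1 ≠ 0 ∧ h₂ * (F t).2 ≠ 0 :=
      ⟨mul_ne_zero (fun h => hg₁ (by rw [hh₁, h, mul_zero])) ht1, mul_ne_zero (fun h => hg₂ (by rw [hh₂, h, mul_zero])) ht2⟩
    obtain ⟨z, hz⟩ := exists_toPair (f := h₁ * (F t).1) (h := h₂ * (F t).2) (by
      rw [map_mul, map_mul, show (F t).1 = X * t₁ from htt₁, show (F t).2 = X * t₂ from htt₂]; simp)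
    -- approximate
    obtain ⟨N, hN₁, hN₂⟩ : ∃ N : ℕ, ¬ X ^ N ∣ h₁ * (F t).1 ∧ ¬ X ^ N ∣ h₂ * (F t).2 := by
      obtain ⟨n₁, hn₁⟩ := FiniteMultiplicity.of_not_isUnit (PowerSeries.X_irreducible (R := K)).not_isUnit hz0.1
      obtain ⟨n₂, hn₂⟩ := FiniteMultiplicity.of_not_isUnit (PowerSeries.X_irreducible (R := K)).not_isUnit hz0.2
      exact ⟨n₁ + n₂ + 1, fun h => hn₁ ((pow_dvd_pow X (by omega)).trans h), fun h => hn₂ ((pow_dvd_pow X (by omega)).trans h)⟩
    obtain ⟨x, hx⟩ := exists_sub_mem_pow A (N + 1) (e.symm z)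
    have hxN : ∀ w ∈ (maximalIdeal A ^ (N + 1)).map f, X ^ (N + 1) ∣ (toPair K w).1 ∧ X ^ (N + 1) ∣ (toPair K w).2 := by
      intro w hw
      rw [Ideal.map_pow] at hw
      have hle : (maximalIdeal A).map f ^ (N + 1) ≤ (Ideal.span {(X : PowerSeries K)} ^ (N + 1)).comap
          ((RingHom.fst _ _).comp (toPair K)) ⊓ (Ideal.span {(X : PowerSeries K)} ^ (N + 1)).comap
          ((RingHom.snd _ _).comp (toPair K)) := le_inf
        ((Ideal.pow_right_mono (fun z hz => Ideal.mem_comap.2 (Ideal.mem_span_singleton.2 (hX z hz).1)) _).trans (Ideal.le_comap_pow _ _))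
        ((Ideal.pow_right_mono (fun z hz => Ideal.mem_comap.2 (Ideal.mem_span_singleton.2 (hX z hz).2)) _).trans (Ideal.le_comap_pow _ _))
      obtain ⟨h1, h2⟩ := hle hw
      rw [SetLike.mem_coe, Ideal.mem_comap, Ideal.span_singleton_pow, Ideal.mem_span_singleton] at h1 h2
      exact ⟨h1, h2⟩
    have hdiff := hxN (z - f x) (by
      have := Ideal.mem_map_of_mem e.toRingHom hx
      rw [Ideal.map_map, map_sub] at this
      simpa [f] using this)
    rw [map_sub, hz] at hdiff
    have hassoc : ∀ (P D : PowerSeries K), ¬ X ^ N ∣ P → X ^ (N + 1) ∣ P - D → Associated P D := by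
      intro P D hP hPD
      have hP0 : P ≠ 0 := fun h => hP (h ▸ dvd_zero _)
      obtain ⟨d, hd⟩ := hPD
      obtain ⟨n, hn⟩ : ∃ n, Associated P (X ^ n) :=
        IsDiscreteValuationRing.associated_pow_irreducible hP0 PowerSeries.X_irreducible
      have hnN : n < N := by
        by_contra h
        exact hP ((pow_dvd_pow X (not_lt.1 h)).trans hn.dvd')
      obtain ⟨c, hc⟩ := hn.symm
      have hD : D = P * (1 - ((c⁻¹ : (PowerSeries K)ˣ) : PowerSeries K) * X ^ (N + 1 - n) * d) := by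
        have hXc : P * ((c⁻¹ : (PowerSeries K)ˣ) : PowerSeries K) = X ^ n := by rw [← hc, mul_assoc, c.mul_inv, mul_one]
        rw [mul_sub, mul_one, ← mul_assoc, ← mul_assoc, hXc, ← pow_add, show n + (N + 1 - n) = N + 1 by omega, ← hd]
        ring
      refine ⟨(PowerSeries.isUnit_iff_constantCoeff.2 ?_).unit, hD.symm⟩
      simp [zero_pow (show N + 1 - n ≠ 0 by omega)]
    have hF₁ : Associated (h₁ * (F t).1) (F x).1 := hassoc _ _ hN₁ hdiff.1
    have hF₂ : Associated (h₂ * (F t).2) (F x).2 := hassoc _ _ hN₂ hdiff.2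
    have hxn : x ∈ nonZeroDivisors A := mem_nonZeroDivisors_iff_left.2 fun a ha => hfi (toPair_injective (by
      have h0 : F x * F a = 0 := by rw [← map_mul, ha, map_zero]
      rw [map_zero f, map_zero (toPair K)]
      exact Prod.ext ((mul_eq_zero.1 (congrArg Prod.fst h0)).resolve_left (hF₁.ne_zero_iff.1 hz0.1))
        ((mul_eq_zero.1 (congrArg Prod.snd h0)).resolve_left (hF₂.ne_zero_iff.1 hz0.2))))
    have hiff : ∀ a : A, a ∈ Ideal.span {t} * I ↔ a ∈ Ideal.span {x} * maximalIdeal A := by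
      intro a
      rw [← hcomap (Ideal.span {t} * I), ← hcomap (Ideal.span {x} * maximalIdeal A), Ideal.mem_comap, Ideal.mem_comap,
        Ideal.map_mul, Ideal.map_mul, Ideal.map_span, Ideal.map_span, Set.image_singleton, Set.image_singleton]
      constructor <;> intro ha <;> obtain ⟨w, hw, hwa⟩ := Ideal.mem_span_singleton_mul.1 ha <;>
        refine Ideal.mem_span_singleton_mul.2 ?_
      · obtain ⟨⟨a₁, ha₁⟩, a₂, ha₂⟩ := (hJ w).1 hw
        obtain ⟨u₁, hu₁⟩ := hF₁
        obtain ⟨u₂, hu₂⟩ := hF₂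
        obtain ⟨v, hv⟩ := exists_toPair (f := X * (((u₁⁻¹ : (PowerSeries K)ˣ) : PowerSeries K) * a₁)) (h := X * (((u₂⁻¹ : (PowerSeries K)ˣ) : PowerSeries K) * a₂)) (by simp)
        have hvm : v ∈ (maximalIdeal A).map f := by
          have h1 : e.symm v ∈ maximalIdeal Ac := (mem_maximalIdeal _).2 fun hu => by
            have h2 := PowerSeries.isUnit_constantCoeff _ ((hu.map e.toRingHom).map ((RingHom.fst _ _).comp (toPair K)))
            simp [hv] at h2
          rw [AdicCompletion.maximalIdeal_eq_map] at h1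
          have h2 := Ideal.mem_map_of_mem e.toRingHom h1
          rw [Ideal.map_map] at h2
          simpa [f] using h2
        refine ⟨v, hvm, hwa ▸ toPair_injective ?_⟩
        rw [map_mul, map_mul, hv]
        refine Prod.ext ?_ ?_
        · show (F x).1 * (X * (((u₁⁻¹ : (PowerSeries K)ˣ) : PowerSeries K) * a₁)) = (F t).1 * (toPair K w).1
          rw [ha₁, ← hu₁, hh₁]
          linear_combination (h₁ * (F t).1 * X * a₁) * u₁.mul_inv
        · show (F x).2 * (X * (((u₂⁻¹ : (PowerSeries K)ˣ) : PowerSeries K) * a₂)) = (F t).2 * (toPair K w).2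
          rw [ha₂, ← hu₂, hh₂]
          linear_combination (h₂ * (F t).2 * X * a₂) * u₂.mul_inv
      · obtain ⟨⟨c₁, hc₁'⟩, c₂, hc₂'⟩ := hX w hw
        obtain ⟨u₁, hu₁⟩ := hF₁
        obtain ⟨u₂, hu₂⟩ := hF₂
        obtain ⟨v, hv⟩ := exists_toPair (f := g₁ * ((u₁ : PowerSeries K) * c₁)) (h := g₂ * ((u₂ : PowerSeries K) * c₂)) (by simp [hc₁, hc₂])
        refine ⟨v, (hJ v).2 (by rw [hv]; exact ⟨dvd_mul_right _ _, dvd_mul_right _ _⟩), hwa ▸ toPair_injective ?_⟩
        rw [map_mul, map_mul, hv]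
        refine Prod.ext ?_ ?_
        · show (F t).1 * (g₁ * ((u₁ : PowerSeries K) * c₁)) = (F x).1 * (toPair K w).1
          rw [hc₁', ← hu₁, hh₁]; ring
        · show (F t).2 * (g₂ * ((u₂ : PowerSeries K) * c₂)) = (F x).2 * (toPair K w).2
          rw [hc₂', ← hu₂, hh₂]; ring
    have hmul : ∀ (r : A), r ∈ nonZeroDivisors A → ∀ J : Ideal A, Nonempty (J ≃ₗ[A] ↥(Ideal.span {r} * J)) := by
      intro r hr J
      let μ : J →ₗ[A] ↥(Ideal.span {r} * J) := (r • J.subtype).codRestrict _ fun j => by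
        exact Ideal.mul_mem_mul (Ideal.mem_span_singleton_self r) j.2
      refine ⟨LinearEquiv.ofBijective μ ⟨fun a b h => Subtype.ext (sub_eq_zero.1 (mem_nonZeroDivisors_iff_left.1 hr _ ?_)), fun b => ?_⟩⟩
      · have h' : r * (a : A) = r * b := congrArg Subtype.val h
        rw [mul_sub, h', sub_self]
      · obtain ⟨j, hj, hb⟩ := Ideal.mem_span_singleton_mul.1 b.2
        exact ⟨⟨j, hj⟩, Subtype.ext hb⟩
    obtain ⟨e₁⟩ := hmul t htn I
    obtain ⟨e₂⟩ := hmul x hxn (maximalIdeal A)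
    exact ⟨eI.trans (e₁.trans ((LinearEquiv.ofEq _ _ (SetLike.ext hiff)).trans e₂.symm))⟩

end Groth.Agent.TFPush7
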