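import Groth.Agent.TFPush7.PointedSemi
import Groth.Agent.MeroLib.Torsion

/-!
# Degrees on unions of components with one exceptional component
-/

set_option autoImplicit false
set_option linter.style.haveILetI false
set_option linter.unusedSectionVars false
set_option backward.isDefEq.respectTransparency false
set_option backward.isDefEq.respectTransparency.types false
set_option maxHeartbeats 1000000

universe u

open CategoryTheory CategoryTheory.Limits AlgebraicGeometry TopologicalSpace Opposite
open Groth.Agent.Coherent Groth.Agent.PicLib Groth.Agent.AmpleLib Groth.Agent.EulerLib Groth.Agent.CurveRR24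
open Groth.Agent.Subcurves24 Groth.Agent.DualMod3

attribute [local instance] HasDerivedCategory.standard

namespace Groth.Agent.TFPush7.TreeH0

variable (k : Type u) [Field k] {X : Scheme.{u}} [X.Over (Spec (CommRingCat.of k))]
  [IsProper (X ↘ Spec (CommRingCat.of k))] [IsReduced X]

include k in
/-- A subcurve of a reduced curve has multiplicity at most one along each component. -/
theorem mult_quotMod_le_one (hdim : topologicalKrullDim X ≤ 1) (T : X.IdealSheafData) {ξ : X}
    (hξ : topologicalKrullDim (closure ({ξ} : Set X)) = ((1 : ℕ) : WithBot ℕ∞)) :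
    VarietyLib.mult (ClSub.quotMod T) ξ ≤ 1 := by
  haveI := EulerLib.isNoetherian_of_proper k (X := X)
  have hd : topologicalKrullDim (Set.univ : Set X) ≤ ((1 : ℕ) : WithBot ℕ∞) :=
    ((Homeomorph.Set.univ X).isInducing.topologicalKrullDim_le).trans (hdim.trans_eq Nat.cast_one.symm)
  have h : VarietyLib.mult (Coh.structureModule X) ξ =
      VarietyLib.mult (ClSub.idealMod T) ξ + VarietyLib.mult (ClSub.quotMod T) ξ :=
    VarietyLib.mult_add (shortExact_ideal T) (isCoh_structureModule X) isClosed_univ (Set.subset_univ _) hd hξ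
  have hmax : ∀ z : X, z ⤳ ξ → z = ξ := fun z hz => by
    by_contra hne
    have hnm : z ∉ closure ({ξ} : Set X) := fun hm =>
      hne ((hz.antisymm (specializes_iff_mem_closure.2 hm)).eq)
    have hlt := dim_lt_of_notMem isClosed_closure
      (closure_minimal (Set.singleton_subset_iff.2 (specializes_iff_mem_closure.1 hz)) isClosed_closure)
      isClosed_closure rfl hnm ((dim_mono (Set.subset_univ _)).trans hd)
    rw [hξ] at hlt
    exact lt_irrefl _ hlt
  letI : Field (X.presheaf.stalk ξ) := (MeroLib.isField_stalk_of_max hmax).toField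
  obtain ⟨U, hxU, e, he⟩ := exists_isGen (isInvertible_structureModule (X := X)) ξ
  let l : X.presheaf.stalk ξ →ₗ[X.presheaf.stalk ξ] (Coh.structureModule X).presheaf.stalk ξ :=
    LinearMap.toSpanSingleton _ _ ((Coh.structureModule X).presheaf.germ U _ hxU e)
  have h1 : VarietyLib.mult (Coh.structureModule X) ξ = 1 := by
    rw [VarietyLib.mult, ← (LinearEquiv.ofBijective l (VarietyLib.gen_germ_bijective he hxU)).length_eq,
      show Module.length (X.presheaf.stalk ξ) (X.presheaf.stalk ξ) = 1 from
        Module.length_eq_one_iff.2 inferInstance]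
    rfl
  omega

/-- Degree at least `-1` on one component and nonnegative on the others gives at least `-1` on unions. -/
theorem neg_one_le_deg_union (hdim : topologicalKrullDim X ≤ 1) {W : X.Modules} (hW : PicF.IsInvertible W)
    (E₀ : Set X)
    (hc : ∀ C : Closeds X, IsIrreducible (C : Set X) → topologicalKrullDim (C : Set X) = 1 →
      (if (C : Set X) = E₀ then (-1 : ℤ) else 0) ≤
        @Curv2.deg k _ (red C).subscheme ⟨(red C).subschemeι ≫ (X ↘ Spec (CommRingCat.of k))⟩
          ((Scheme.Modules.pullback (red C).subschemeι).obj W) 1)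
    (T : X.IdealSheafData) :
    -1 ≤ @Curv2.deg k _ T.subscheme ⟨T.subschemeι ≫ (X ↘ Spec (CommRingCat.of k))⟩
        ((Scheme.Modules.pullback T.subschemeι).obj W) 1 := by
  classical
  haveI := EulerLib.isNoetherian_of_proper k (X := X)
  have hE := isFinLocFreeOfRank_one hW
  obtain ⟨S, -, hS, hsum⟩ := VarietyLib.degFun_eq_sum k hdim hE
  letI : T.subscheme.Over (Spec (CommRingCat.of k)) := ⟨T.subschemeι ≫ (X ↘ Spec (CommRingCat.of k))⟩
  haveI : IsProper (T.subscheme ↘ Spec (CommRingCat.of k)) :=
    inferInstanceAs (IsProper (T.subschemeι ≫ (X ↘ Spec (CommRingCat.of k))))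
  rw [← VarietyLib.degFun_push k T.subschemeι rfl hE,
    show (Coh.push T.subschemeι).obj (Coh.structureModule T.subscheme) = ClSub.quotMod T from rfl,
    hsum _ (isCoh_quotMod T)]
  have hcard : (S.filter fun ξ => closure ({ξ} : Set X) = E₀).card ≤ 1 :=
    Finset.card_le_one.2 fun a ha b hb => IsGenericPoint.eq (Finset.mem_filter.1 ha).2 (Finset.mem_filter.1 hb).2
  calc (-1 : ℤ) ≤ ∑ ξ ∈ S, (if closure ({ξ} : Set X) = E₀ then (-1 : ℤ) else 0) := by
        rw [← Finset.sum_filter, Finset.sum_const, nsmul_eq_mul]
        omega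
    _ ≤ _ := Finset.sum_le_sum fun ξ hξ => by
        let Z : Closeds X := ⟨closure {ξ}, isClosed_closure⟩
        letI : (red Z).subscheme.Over (Spec (CommRingCat.of k)) := ⟨(red Z).subschemeι ≫ (X ↘ Spec (CommRingCat.of k))⟩
        haveI : IsProper ((red Z).subscheme ↘ Spec (CommRingCat.of k)) :=
          inferInstanceAs (IsProper ((red Z).subschemeι ≫ (X ↘ Spec (CommRingCat.of k))))
        have h := hc Z isIrreducible_singleton.closure ((hS ξ hξ).trans Nat.cast_one)
        rw [← VarietyLib.degFun_push k (red Z).subschemeι rfl hE] at h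
        change (if closure ({ξ} : Set X) = E₀ then (-1 : ℤ) else 0) ≤
          VarietyLib.degFun k 1 W (AssSch12.clM ξ) at h
        have hm := mult_quotMod_le_one k hdim T (hS ξ hξ)
        rw [nsmul_eq_mul]
        generalize VarietyLib.mult (ClSub.quotMod T) ξ = m at hm ⊢
        rcases Nat.le_one_iff_eq_zero_or_eq_one.1 hm with rfl | rfl
        · simp only [Nat.cast_zero, zero_mul]
          split_ifs <;> omega
        · simpa using h

variable [IsAlgClosed k] [ConnectedSpace X]

/-- `H⁰ = 0` on a tree when the degrees are `≤ k_E - 2`, with one exception allowed `k_E - 1`. -/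
theorem subsingleton_h0 (hdim : topologicalKrullDim X = 1) (hX : Curv2.AtWorstNodal k X)
    (hg : Curv2.genus k X = 0) {L : X.Modules} (hL : PicF.IsInvertible L) (E₀ : Set X)
    (hc : ∀ C : Closeds X, (C : Set X) ∈ irreducibleComponents X →
      @Curv2.deg k _ (red C).subscheme ⟨(red C).subschemeι ≫ (X ↘ Spec (CommRingCat.of k))⟩
          ((Scheme.Modules.pullback (red C).subschemeι).obj L) 1 ≤
        (((C : Set X) ∩ closure (C : Set X)ᶜ).ncard : ℤ) - (if (C : Set X) = E₀ then 1 else 2)) :
    Subsingleton (Coh.HH X L 0) := by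
  haveI := EulerLib.isNoetherian_of_proper k (X := X)
  haveI := isSeparated_of_proper (X := X) k
  let f := X ↘ Spec (CommRingCat.of k)
  haveI : CompactSpace X := QuasiCompact.compactSpace_of_compactSpace f
  haveI : QuasiSeparatedSpace X := quasiSeparatedSpace_of_quasiSeparated f
  haveI : DCoh.HasRpush f := DCat.hasRpush f
  have hp : DCoh.RpushPreservesQCoh f := fun K hK => DQCoh.isQCohD_Rpush f K hK
  haveI : DCoh.HasShriek f hp := Dual22Lib.AdjGeom.isLeftAdjoint_RpushQ f hp
  let OY : DCoh.DQCoh (Spec (CommRingCat.of k)) :=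
    ⟨DCoh.inD (Spec (CommRingCat.of k)) (Coh.structureModule _), DCat.RelEquivBC.isQCohD_inD_structure _⟩
  obtain ⟨-, -, hW, ⟨t, ht⟩, hWe, -⟩ := nodal_setup k hdim (CurveRR24.h0_structure k) hX hp OY ⟨Iso.refl _⟩
  generalize DCoh.dualizingMod f hp OY 1 = W at hW t ht hWe
  obtain ⟨L', hL', ⟨e⟩⟩ := exists_inverse k hL
  refine subsingleton_h0_of_deg_lt_delta k hdim hL fun J hJr hJc hJ => ?_
  have h1 := (sub_numerics k hdim hW t ht hWe J hJ).1
  have hgJ := PointedSemi.genus_le k X hdim.le J
  have h2 := neg_one_le_deg_union k hdim.le (isInvertible_tensorMod hW hL') E₀ (fun C hC hd => by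
    have hCc := PointedNum.mem_components k hdim.le hC hd
    haveI : IsIntegral (red C).subscheme := VarietyLib.isIntegral_vanishingIdeal C hC
    have hJd : topologicalKrullDim (red C).subscheme = 1 := (VarietyLib.topologicalKrullDim_vanishingIdeal C).trans hd
    have a1 := (sub_numerics k hdim hW t ht hWe (red C) hJd).1
    have a2 := (PointedNum.delta_eq k hdim hX (red C) hJd).1
    rw [Scheme.IdealSheafData.coe_support_vanishingIdeal] at a2
    have a3 := PointedSemi.genus_le k X hdim.le (red C)
    have a4 := deg_sub_tensor k hdim.le (red C) hW hL'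
    have a5 := deg_sub_tensor k hdim.le (red C) hL hL'
    have a6 := hc C hCc
    letI : (red C).subscheme.Over (Spec (CommRingCat.of k)) := ⟨(red C).subschemeι ≫ (X ↘ Spec (CommRingCat.of k))⟩
    rw [deg_congr k ((Scheme.Modules.pullback (red C).subschemeι).mapIso e) 1, deg_sub_structure k (red C)] at a5
    split_ifs at a6 ⊢ <;> omega) J
  have h4 := deg_sub_tensor k hdim.le J hW hL'
  have h5 := deg_sub_tensor k hdim.le J hL hL'
  letI : J.subscheme.Over (Spec (CommRingCat.of k)) := ⟨J.subschemeι ≫ (X ↘ Spec (CommRingCat.of k))⟩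
  rw [deg_congr k ((Scheme.Modules.pullback J.subschemeι).mapIso e) 1, deg_sub_structure k J] at h5
  omega

end Groth.Agent.TFPush7.TreeH0
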