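import Groth.Agent.DualMod3.Tricanonical
import Groth.Agent.TFPush7.PointGG

/-!
# Very ampleness from the degrees on connected subcurves
-/

set_option autoImplicit false
set_option linter.style.haveILetI false
set_option linter.unusedSectionVars false
set_option backward.isDefEq.respectTransparency false
set_option backward.isDefEq.respectTransparency.types false
set_option maxHeartbeats 1000000

universe u

open CategoryTheory CategoryTheory.Limits AlgebraicGeometry TopologicalSpace Opposite
open Groth.Agent.Coherent Groth.Agent.PicLib Groth.Agent.AmpleLib Groth.Agent.EulerLib Groth.Agent.CurveRR24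
open Groth.Agent.Subcurves24 Groth.Agent.DualMod3

namespace Groth.Agent.TFPush7.PointVA

variable {X : Scheme.{u}} (k : Type u) [Field k] [X.Over (Spec (CommRingCat.of k))]
  [IsProper (X ↘ Spec (CommRingCat.of k))]

include k in
/-- Sections of a bigger finite quotient surject. -/
theorem h0_quot_sup_le (hd : topologicalKrullDim X ≤ 1) (I J : X.IdealSheafData)
    (hI : topologicalKrullDim (I.support : Set X) ≤ 0) :
    Module.finrank k (Coh.HH X (ClSub.quotMod (I ⊔ J)) 0) ≤ Module.finrank k (Coh.HH X (ClSub.quotMod I) 0) := by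
  haveI := isNoetherian_of_proper k (X := X)
  haveI : X.IsSeparated := EulerLib.isSeparated_of_proper (X := X) k
  rw [sup_comm]
  obtain ⟨q, hq⟩ := DualMod3.exists_toSup J I
  haveI : Epi q := by
    haveI : Epi (ClSub.toSubscheme I ≫ q) := by rw [hq]; exact CurveRR24.epi_toSubscheme _
    exact epi_of_epi (ClSub.toSubscheme I) q
  have cA : Coh.IsCoh (ClSub.quotMod I) := isCoh_quotMod I
  have cB : Coh.IsCoh (ClSub.quotMod (J ⊔ I)) := isCoh_quotMod _
  let S : ShortComplex X.Modules := ShortComplex.mk (kernel.ι q) q (kernel.condition q)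
  have hS : S.ShortExact :=
    { exact := ShortComplex.exact_kernel q
      mono_f := inferInstanceAs (Mono (kernel.ι q))
      epi_g := inferInstanceAs (Epi q) }
  haveI := cA.1
  haveI := cB.1
  have h1 : Subsingleton (Coh.HH X (kernel q) 1) :=
    subsingleton_HH_of_support I.support _ (isQCoh_kernel q)
      ((support_subset_of_mono (kernel.ι q)).trans (support_quotMod_subset I)) 1
      (lt_of_le_of_lt hI (by exact_mod_cast zero_lt_one))
  haveI := finite_HH_of_isCoh k cA 0
  exact LinearMap.finrank_le_finrank_of_surjective (SerreDual.hmap_surjective_of_shortExact k hS 0 h1)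

variable [IsAlgClosed k] [IsReduced X] [ConnectedSpace X]

include k in
/-- Degree at least `2g + 1` on every connected subcurve gives very ampleness. -/
theorem exists_closedImmersion_of_deg (hdim : topologicalKrullDim X = 1) {L : X.Modules} (hL : PicF.IsInvertible L)
    (h : ∀ J : X.IdealSheafData, IsReduced J.subscheme → ConnectedSpace J.subscheme →
      topologicalKrullDim J.subscheme = 1 →
      2 * (@Curv2.genus k _ J.subscheme ⟨J.subschemeι ≫ (X ↘ Spec (CommRingCat.of k))⟩ : ℤ) + 1 ≤
        @Curv2.deg k _ J.subscheme ⟨J.subschemeι ≫ (X ↘ Spec (CommRingCat.of k))⟩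
          ((Scheme.Modules.pullback J.subschemeι).obj L) 1) :
    ∃ (n : ℕ) (i : X ⟶ CohB1.ProjSpace n k), IsClosedImmersion i ∧
      i ≫ CohB1.ProjSpace.toSpec n k = X ↘ (Spec (CommRingCat.of k)) ∧
      Nonempty ((Scheme.Modules.pullback i).obj (Twist.twistProjSpace n k 1) ≅ L) := by
  haveI := isNoetherian_of_proper k (X := X)
  haveI : IsIso (Spec.map (CommRingCat.ofHom (algebraMap k k))) := by
    rw [Algebra.algebraMap_self, CommRingCat.ofHom_id, Spec.map_id]
    infer_instance
  refine DualMod3.exists_closedImmersion_of_bc_h1 k (K := k) (𝟙 X)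
    (IsPullback.of_horiz_isIso ⟨by
      rw [Algebra.algebraMap_self, CommRingCat.ofHom_id, Spec.map_id, Category.id_comp, Category.comp_id]⟩) hL
    (fun P hP hgen => ?_) fun I hI hc => ?_
  · have h1 := components_dim_one hdim (Z := closure ({P} : Set X)) hgen
    rw [hP.closure_eq] at h1
    haveI : Subsingleton ({P} : Set X) := ⟨fun a b => Subtype.ext (a.2.trans b.2.symm)⟩
    have h2 : topologicalKrullDim ({P} : Set X) ≤ 0 := topologicalKrullDim_zero_of_discreteTopology _
    rw [h1] at h2
    exact absurd h2 (by decide)
  · by_contra hne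
    rw [not_subsingleton_iff_nontrivial] at hne
    have e : (Scheme.Modules.pullback (𝟙 X)).obj L ≅ L := (Scheme.Modules.pullbackId X).app L
    have hne' : Nontrivial (Coh.HH X (CohB1.tensorMod (ClSub.idealMod I) L) 1) :=
      (HHCongr k (AmpleLib.tensorIso (Iso.refl _) e) 1).symm.toEquiv.nontrivial
    obtain ⟨ω, t, hω, hrep⟩ := CFHR.exists_pair k X hdim.le
    have hlt := dim_lt_one_of_noGeneric hdim.le I.support.isClosed fun C hC η hη =>
      hI η (show closure {η} ∈ irreducibleComponents X by rw [hη.def]; exact hC)
    have hpts : ∀ y ∈ (I.support : Set X), IsClosed ({y} : Set X) := fun y hy =>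
      TF7.isClosed_singleton_of_notGeneric hdim.le fun hg => hI y hg hy
    have hZ : topologicalKrullDim (I.support : Set X) ≤ 0 :=
      VarietyLib.dim_le_zero_of_closed_points I.support.isClosed hpts
    obtain ⟨J, hJr, hJc, hJd, hJ⟩ := CFHR.exists_subcurve k hrep hω hdim I hL hZ hne'
    have h1 := h J hJr hJc hJd
    have h2 := euler_structure_sub k J hJd
    have h3 := h0_quot_sup_le k hdim.le I J hZ
    rw [h2] at hJ
    omega

end Groth.Agent.TFPush7.PointVA
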