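import Groth.Agent.TFPush7.PointedNum

/-!
# Numerics of curves with a finite set of marked smooth points
-/

set_option autoImplicit false
set_option linter.style.haveILetI false
set_option linter.unusedSectionVars false
set_option backward.isDefEq.respectTransparency false
set_option backward.isDefEq.respectTransparency.types false
set_option maxHeartbeats 1000000

universe u

open CategoryTheory CategoryTheory.Limits AlgebraicGeometry TopologicalSpace Opposite
open Groth.Agent.Coherent Groth.Agent.PicLib Groth.Agent.AmpleLib Groth.Agent.EulerLib Groth.Agent.CurveRR24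
open Groth.Agent.Subcurves24 Groth.Agent.DualMod3

namespace Groth.Agent.TFPush7.PointedSet

variable (k : Type u) [Field k] (X : Scheme.{u}) [X.Over (Spec (CommRingCat.of k))]
    [IsProper (X ↘ (Spec (CommRingCat.of k)))]

include k in
theorem closed_points {D : Set X} (hDfin : D.Finite) (hDcl : IsClosed D) : ∀ x ∈ D, IsClosed ({x} : Set X) := by
  haveI : JacobsonSpace X := LocallyOfFiniteType.jacobsonSpace (X ↘ Spec (CommRingCat.of k))
  have hc : IsClosed (D ∩ closedPoints X) := by
    rw [← Set.biUnion_of_singleton (D ∩ closedPoints X)]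
    exact (hDfin.inter_of_left _).isClosed_biUnion fun y hy => hy.2
  intro x hx
  exact (((closure_inter_closedPoints hDcl).ge.trans hc.closure_eq.le) hx).2

theorem smooth_of_formallySmooth (x : X) (h : ((X ↘ Spec (CommRingCat.of k)).stalkMap x).hom.FormallySmooth) :
    ∃ U : X.Opens, x ∈ U ∧ Smooth (U.ι ≫ (X ↘ Spec (CommRingCat.of k))) := by
  let f := X ↘ Spec (CommRingCat.of k)
  refine ⟨f.smoothLocus, h, Scheme.Hom.smoothLocus_eq_top_iff.1 ?_⟩
  rw [← Scheme.Hom.preimage_smoothLocus_eq]
  exact Scheme.Opens.ι_preimage_self _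

variable [IsAlgClosed k] [IsReduced X] [ConnectedSpace X]

/-- The degree of `ω(D)` on subcurves, for dualizing modules of nodal curves. -/
theorem setup (hdim : topologicalKrullDim X = 1) (hX : Curv2.AtWorstNodal k X)
    [DCoh.HasRpush (X ↘ (Spec (CommRingCat.of k)))] (h : DCoh.RpushPreservesQCoh (X ↘ (Spec (CommRingCat.of k))))
    [DCoh.HasShriek (X ↘ (Spec (CommRingCat.of k))) h] (OY : DCoh.DQCoh (Spec (CommRingCat.of k)))
    (hOY : Nonempty (OY.obj ≅ DCoh.inD (Spec (CommRingCat.of k)) (Coh.structureModule (Spec (CommRingCat.of k)))))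
    (D : Set X) (hDfin : D.Finite) (hDcl : IsClosed D)
    (hDsm : ∀ x ∈ D, ∃ U : X.Opens, x ∈ U ∧ Smooth (U.ι ≫ (X ↘ (Spec (CommRingCat.of k)))))
    (LD : X.Modules)
    (hinv : ClSub.IsInverseOf LD (ClSub.idealMod (Scheme.IdealSheafData.vanishingIdeal (⟨D, hDcl⟩ : Closeds X)))) :
    PicF.IsInvertible (CohB1.tensorMod (DCoh.dualizingMod (X ↘ (Spec (CommRingCat.of k))) h OY 1) LD) ∧
    ∀ J : X.IdealSheafData, IsReduced J.subscheme → ConnectedSpace J.subscheme →
      topologicalKrullDim J.subscheme = 1 →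
      @Curv2.deg k _ J.subscheme ⟨J.subschemeι ≫ (X ↘ Spec (CommRingCat.of k))⟩
        ((Scheme.Modules.pullback J.subschemeι).obj
          (CohB1.tensorMod (DCoh.dualizingMod (X ↘ (Spec (CommRingCat.of k))) h OY 1) LD)) 1 =
      2 * (@Curv2.genus k _ J.subscheme ⟨J.subschemeι ≫ (X ↘ Spec (CommRingCat.of k))⟩ : ℤ) - 2 +
        (((J.support : Set X) ∩ closure (J.support : Set X)ᶜ).ncard : ℤ) + ((D ∩ (J.support : Set X)).ncard : ℤ) := by
  obtain ⟨-, -, hW, ⟨t, ht⟩, hWe, -⟩ := nodal_setup k hdim (CurveRR24.h0_structure k) hX h OY hOY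
  obtain ⟨hNi, hdeg⟩ := PointedNum.deg_twisted k hdim hX hW t ht hWe ⟨D, hDcl⟩ hDfin
    (closed_points k X hDfin hDcl) hDsm (N := LD) hinv
  exact ⟨isInvertible_tensorMod hW hNi, hdeg⟩

end Groth.Agent.TFPush7.PointedSet
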