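import Groth.Agent.TFPush7.PointedNum
import Groth.Agent.TFPush7.PointedSemi
import Groth.Agent.DualMod3.TailNum
import Groth.Agent.S1671
import Groth.Agent.S1674
import Groth.Prelude.Def_StCurv

/-!
# Components of a nodal curve: tails and bridges
-/

set_option autoImplicit false
set_option linter.style.haveILetI false
set_option backward.isDefEq.respectTransparency false
set_option backward.isDefEq.respectTransparency.types false
set_option maxHeartbeats 1000000

universe u

open CategoryTheory CategoryTheory.Limits AlgebraicGeometry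

attribute [local instance] HasDerivedCategory.standard

namespace Groth.Agent.TFPush7.StableComp

theorem meetPts_eq {X : Scheme.{u}} [TopologicalSpace.NoetherianSpace X] (E : Set X)
    (hE : E ∈ irreducibleComponents (X : Type u)) : CurvSt.meetPts X E = E ∩ closure Eᶜ := by
    have hfin := TopologicalSpace.NoetherianSpace.finite_irreducibleComponents (α := X)
    ext x
    refine ⟨fun ⟨hxE, E', hE', hne, hxE'⟩ => ⟨hxE, ?_⟩, fun ⟨hxE, hx⟩ => ⟨hxE, ?_⟩⟩
    · obtain ⟨η, hη⟩ := QuasiSober.sober hE'.1 (isClosed_of_mem_irreducibleComponents E' hE')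
      have hηE : η ∉ E := fun h => hne (Set.Subset.antisymm
        (hη.def ▸ closure_minimal (Set.singleton_subset_iff.2 h) (isClosed_of_mem_irreducibleComponents E hE))
        (hE'.2 hE.1 (hη.def ▸ closure_minimal (Set.singleton_subset_iff.2 h) (isClosed_of_mem_irreducibleComponents E hE))))
      exact closure_mono (Set.singleton_subset_iff.2 hηE) (hη.def.symm ▸ hxE' : x ∈ closure {η})
    · have hsub : closure Eᶜ ⊆ ⋃ E' ∈ irreducibleComponents (X : Type u) \ {E}, E' :=
        closure_minimal (fun y hy => Set.mem_iUnion₂.2 ⟨irreducibleComponent y,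
          ⟨irreducibleComponent_mem_irreducibleComponents y,
            fun h => hy (Set.mem_singleton_iff.1 h ▸ mem_irreducibleComponent)⟩, mem_irreducibleComponent⟩)
          (hfin.sdiff.isClosed_biUnion fun E' hE' => isClosed_of_mem_irreducibleComponents E' hE'.1)
      obtain ⟨E', ⟨hE', hne⟩, hxE'⟩ := Set.mem_iUnion₂.1 (hsub hx)
      exact ⟨E', hE', hne, hxE'⟩

theorem delta_eq_finrank (k : Type u) [Field k] {X : Scheme.{u}} [X.Over (Spec (CommRingCat.of k))]
    [IsProper (X ↘ Spec (CommRingCat.of k))] (J : X.IdealSheafData) (Z : TopologicalSpace.Closeds X)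
    (h : (⟨closure ((J.support : Set X)ᶜ), isClosed_closure⟩ : TopologicalSpace.Closeds X) = Z) :
    Groth.Agent.DualMod3.delta k J =
      Module.finrank k (Coh.HH X (ClSub.quotMod (J ⊔ Groth.Agent.Subcurves24.red Z)) 0) := by
  subst h
  rfl

theorem component_data (k : Type u) [Field k] [IsAlgClosed k] (X : Scheme.{u}) [X.Over (Spec (CommRingCat.of k))]
    [IsProper (X ↘ Spec (CommRingCat.of k))] [IsReduced X] [ConnectedSpace X] (hdim : topologicalKrullDim X = 1)
    (hX : Curv2.AtWorstNodal k X) [DCoh.HasRpush (X ↘ Spec (CommRingCat.of k))]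
    (hp : DCoh.RpushPreservesQCoh (X ↘ Spec (CommRingCat.of k))) [DCoh.HasShriek (X ↘ Spec (CommRingCat.of k)) hp]
    (OY : DCoh.DQCoh (Spec (CommRingCat.of k)))
    (hOY : Nonempty (OY.obj ≅ DCoh.inD (Spec (CommRingCat.of k)) (Coh.structureModule (Spec (CommRingCat.of k)))))
    (C : Set X) (hC : C ∈ irreducibleComponents (X : Type u)) :
      ∃ g' δ : ℕ, δ = (C ∩ closure Cᶜ).ncard ∧ (C ∩ closure Cᶜ).Finite ∧
        (g' = 0 ↔ Subsingleton (Coh.HH (Scheme.IdealSheafData.vanishingIdeal ⟨C, isClosed_of_mem_irreducibleComponents C hC⟩).subscheme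
          (Coh.structureModule _) 1)) ∧
        (g' = 0 → δ = 0 → Curv2.genus k X = 0) ∧
        (g' = 0 → δ = 1 → Curv2.IsRationalTail X C hC) ∧
        (g' = 0 → δ = 2 → Curv2.IsRationalBridge k X C hC) ∧
        (g' = 0 → Curv2.IsRationalTail X C hC → δ ≤ 1) ∧
        (g' = 0 → Curv2.IsRationalBridge k X C hC → δ = 2) := by
  haveI := Groth.Agent.EulerLib.isNoetherian_of_proper k (X := X)
  haveI : X.IsSeparated := Groth.Agent.EulerLib.isSeparated_of_proper (X := X) k
  have h0 := Groth.Agent.CurveRR24.h0_structure k (X := X)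
  obtain ⟨-, -, hW, ⟨t, ht⟩, hWe, -⟩ :=
    Groth.Agent.DualMod3.nodal_setup k hdim h0 hX hp OY hOY
  let T : TopologicalSpace.Closeds X := ⟨C, isClosed_of_mem_irreducibleComponents C hC⟩
  let J := Scheme.IdealSheafData.vanishingIdeal T
  haveI : IsIntegral J.subscheme := Groth.Agent.VarietyLib.isIntegral_vanishingIdeal T hC.1
  have hJd : topologicalKrullDim J.subscheme = 1 := (Groth.Agent.VarietyLib.topologicalKrullDim_vanishingIdeal T).trans
    (Groth.Agent.DualMod3.components_dim_one hdim hC)
  obtain ⟨hδ, hfin, -⟩ := Groth.Agent.TFPush7.PointedNum.delta_eq k hdim hX J hJd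
  rw [Scheme.IdealSheafData.coe_support_vanishingIdeal] at hδ hfin
  change _ = (C ∩ closure Cᶜ).ncard at hδ
  change (C ∩ closure Cᶜ).Finite at hfin
  obtain ⟨H, n, m, hpos, hH, hn, hm, hdeg, hm0, hm1, -⟩ := Groth.Agent.DualMod3.sub_data k hdim.le hW t ht hWe J hJd
  letI : J.subscheme.Over (Spec (CommRingCat.of k)) := ⟨J.subschemeι ≫ (X ↘ (Spec (CommRingCat.of k)))⟩
  haveI : IsProper (J.subscheme ↘ Spec (CommRingCat.of k)) :=
    inferInstanceAs (IsProper (J.subschemeι ≫ (X ↘ (Spec (CommRingCat.of k)))))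
  haveI := Groth.Agent.EulerLib.isNoetherian_of_proper k (X := J.subscheme)
  haveI := Groth.Agent.CurveRR24.finite_HH_of_isCoh k (Groth.Agent.Coherent.isCoh_structureModule J.subscheme) 1
  have hH1 : H = 1 := hH.trans (Groth.Agent.CurveRR24.h0_structure k)
  subst hH1
  rw [one_mul] at hn hm
  have hsupp : (⟨closure ((J.support : Set X)ᶜ), isClosed_closure⟩ : TopologicalSpace.Closeds X) =
      Groth.Agent.DualMod3.compl C := TopologicalSpace.Closeds.ext (by
    show closure _ = closure _
    rw [Scheme.IdealSheafData.coe_support_vanishingIdeal]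
    rfl)
  have hker := Groth.Agent.DualMod3.ker_opens_compl (X := X) (isClosed_of_mem_irreducibleComponents C hC)
  have hsub : (n = 0 ↔ Subsingleton (Coh.HH J.subscheme (Coh.structureModule J.subscheme) 1)) := by
    rw [← hn]; exact Module.finrank_zero_iff (R := k)
  refine ⟨n, m, hm.symm.trans hδ, hfin, hsub, fun h1 h2 => ?_, fun h1 h2 => ?_, fun h1 h2 => ?_,
    fun h1 htl => ?_, fun h1 hbr => ?_⟩
  · have := ((Groth.Agent.DualMod3.sub_numerics k hdim hW t ht hWe J hJd).2 (hm.trans h2)).1
    omega
  · refine Groth.Agent.DualMod3.isRationalTail_of k hdim.le C hC (hn.trans h1) ?_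
    have hb := hm1 h2
    have key : ∀ Z : TopologicalSpace.Closeds X, Z = Groth.Agent.DualMod3.compl C →
        Function.Bijective (Scheme.IdealSheafData.inclusion
          (le_sup_left : J ≤ J ⊔ Scheme.IdealSheafData.vanishingIdeal Z)).appTop →
        Function.Bijective (Scheme.IdealSheafData.inclusion
          (le_sup_left : J ≤ J ⊔ Scheme.IdealSheafData.vanishingIdeal (Groth.Agent.DualMod3.compl C))).appTop := by
      rintro _ rfl h; exact h
    exact key _ hsupp hb
  · have hq : Module.finrank k (Coh.HH X (ClSub.quotMod J) 0) = 1 :=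
      (Groth.Agent.Surf15.finrank_h0_quotMod k J rfl).trans (Groth.Agent.CurveRR24.h0_structure k)
    have hQ : Module.finrank k (Coh.HH X (ClSub.quotMod (J ⊔ Groth.Agent.Subcurves24.red (Groth.Agent.DualMod3.compl C))) 0) = 2 := by
      have hd2 : Groth.Agent.DualMod3.delta k J = Module.finrank k (Coh.HH X
          (ClSub.quotMod (J ⊔ Groth.Agent.Subcurves24.red (Groth.Agent.DualMod3.compl C))) 0) := by
        exact delta_eq_finrank k J _ hsupp
      rw [← hd2, hm, h2]
    have key : ∀ IX : X.IdealSheafData, IX = Groth.Agent.Subcurves24.red (Groth.Agent.DualMod3.compl C) →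
        (IX.support : Set X).Nonempty ∧ Module.finrank k (Coh.HH X (ClSub.quotMod (J ⊔ IX)) 0) =
          2 * Module.finrank k (Coh.HH X (ClSub.quotMod J) 0) := by
      rintro _ rfl
      refine ⟨?_, by rw [hQ, hq]⟩
      rw [Scheme.IdealSheafData.coe_support_vanishingIdeal]
      obtain ⟨x, hx⟩ : (C ∩ closure Cᶜ).Nonempty :=
        Set.nonempty_of_ncard_ne_zero (by rw [← hδ, hm, h2]; exact two_ne_zero)
      exact ⟨x, hx.2⟩
    exact ⟨(key _ hker).1, (key _ hker).2, hsub.1 h1⟩
  · have := Groth.Agent.S1671.result k X hdim h0 hX hp OY hOY C hC htl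
    have hdeg' := hdeg
    change Curv2.deg k J.subscheme _ 1 = _ at hdeg'
    change Curv2.deg k J.subscheme _ 1 < 0 at this
    rw [hdeg', h1] at this
    push_cast at this
    omega
  · have := Groth.Agent.S1674.result k X hdim h0 hX hp OY hOY C hC hbr
    have hdeg' := hdeg
    change Curv2.deg k J.subscheme _ 1 = _ at hdeg'
    change Curv2.deg k J.subscheme _ 1 = 0 at this
    rw [hdeg', h1] at this
    push_cast at this
    omega

end Groth.Agent.TFPush7.StableComp
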