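import Mathlib
import Groth.Prelude.Def_ClSub2
import Groth.Agent.RefHullLib.Extend
import Groth.Agent.RefHullLib.LowDim
import Groth.Agent.DQCoh.CosectionLocus17
import Groth.Agent.TFPush7.StalkSub
import Groth.Agent.CurveRR24.Sky
import Groth.Agent.Coherent.Devissage
import Groth.Agent.RelVAFib14.Main
import Groth.Agent.FlatMorLocalStr.SmoothFibres
import Groth.Agent.VarietyLib.SmoothStalk
import Groth.Agent.FlatMor12.MiracleScheme
import Groth.Agent.ZClosLib.Criterion
import Groth.Agent.SerreDual.RegularVanishing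

set_option linter.style.haveILetI false
set_option backward.isDefEq.respectTransparency false
set_option backward.isDefEq.respectTransparency.types false
set_option maxHeartbeats 800000

/-! Extensions of ideal sheaves by invertible modules on surfaces: local freeness criterion. -/

universe u

open CategoryTheory CategoryTheory.Limits AlgebraicGeometry Opposite TopologicalSpace

namespace Groth.Agent.TFPush7.ExtLargerIdeal

variable {X : Scheme.{u}}

/-- torsion freeness of all stalks -/
def TF (F : X.Modules) : Prop := ∀ x : X, Module.IsTorsionFree (X.presheaf.stalk x) (F.presheaf.stalk x)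

theorem tf_of_mono [IsIntegral X] {A B : X.Modules} (i : A ⟶ B) [Mono i] (hB : TF B) : TF A := fun x => by
  haveI := hB x
  refine Module.IsTorsionFree.of_smul_eq_zero fun r m hrm => ?_
  have h : r • RefHull.stalkMapₗ i x m = 0 := by rw [← map_smul, hrm, map_zero]
  rcases smul_eq_zero.1 h with h | h
  · exact Or.inl h
  · exact Or.inr (TFPush7.stalkMap_injective_of_mono i x (h.trans (map_zero _).symm))

theorem tf_of_finLocFree [IsIntegral X] [IsLocallyNoetherian X] {F : X.Modules} (h : FlatMod.IsFinLocFree F) :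
    TF F := fun x => by
  haveI : Coh.IsQCoh F := (Coherent.CohBC.isCoh_of_isFinLocFree h).1
  haveI := Props12.free_stalk_of_isFinLocFree F h x
  infer_instance

theorem stalk_exact {A B C : X.Modules} (i : A ⟶ B) (p : B ⟶ C) (w : i ≫ p = 0)
    (h : (ShortComplex.mk i p w).ShortExact) (x : X) (v : B.presheaf.stalk x) (hv : RefHull.stalkMapₗ p x v = 0) :
    ∃ a, RefHull.stalkMapₗ i x a = v := by
  have hex := (ShortComplex.ShortExact.moduleCat_exact_iff_function_exact _).1
    (h.exact.map (DerSch.stalkFunctor X x))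
  exact (hex v).1 hv

theorem stalk_surjective_of_epi {A B : X.Modules} (p : A ⟶ B) [Epi p] (x : X) :
    Function.Surjective (RefHull.stalkMapₗ p x) :=
  (ModuleCat.epi_iff_surjective ((DerSch.stalkFunctor X x).map p)).1 inferInstance

theorem stalk_comp_apply {A B C : X.Modules} (f : A ⟶ B) (g : B ⟶ C) (x : X) (v : A.presheaf.stalk x) :
    RefHull.stalkMapₗ (f ≫ g) x v = RefHull.stalkMapₗ g x (RefHull.stalkMapₗ f x v) := by
  rw [TFPush7.stalkMap_comp]; rfl

theorem tf_ext [IsIntegral X] {A B C : X.Modules} (i : A ⟶ B) (p : B ⟶ C) (w : i ≫ p = 0)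
    (h : (ShortComplex.mk i p w).ShortExact) (hA : TF A) (hC : TF C) : TF B := fun x => by
  haveI := hA x
  haveI := hC x
  haveI : Mono i := h.mono_f
  refine Module.IsTorsionFree.of_smul_eq_zero fun r m hrm => ?_
  by_cases hr : r = 0
  · exact Or.inl hr
  have h1 : r • RefHull.stalkMapₗ p x m = 0 := by rw [← map_smul, hrm, map_zero]
  obtain ⟨a, rfl⟩ := stalk_exact i p w h x m ((smul_eq_zero.1 h1).resolve_left hr)
  rw [← map_smul] at hrm
  have h2 : r • a = 0 := TFPush7.stalkMap_injective_of_mono i x (hrm.trans (map_zero _).symm)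
  rw [(smul_eq_zero.1 h2).resolve_left hr, map_zero]
  exact Or.inr rfl

theorem hom_ext_tf [IsIntegral X] [IsLocallyNoetherian X] {G F : X.Modules} (hF : Coh.IsCoh F) (htf : TF F)
    {φ ψ : G ⟶ F} (h : RefHull.stalkMapₗ φ (genericPoint X) = RefHull.stalkMapₗ ψ (genericPoint X)) : φ = ψ := by
  refine Scheme.Modules.hom_ext _ _ fun U => ?_
  ext m
  refine RefHullLib.section_ext_of_germ_genericPoint F hF.1 (fun x _ => htf x) _ _ fun hη => ?_
  rw [← RefHull.stalkMapₗ_germ, ← RefHull.stalkMapₗ_germ, h]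

theorem stalk_id_apply (A : X.Modules) (x : X) (v : A.presheaf.stalk x) :
    RefHull.stalkMapₗ (𝟙 A) x v = v := by
  obtain ⟨W, hW, m, rfl⟩ := A.presheaf.exists_germ_eq v
  rw [RefHull.stalkMapₗ_germ]
  rfl

theorem stalk_zero_apply (A B : X.Modules) (x : X) (v : A.presheaf.stalk x) :
    RefHull.stalkMapₗ (0 : A ⟶ B) x v = 0 := by
  obtain ⟨W, hW, m, rfl⟩ := A.presheaf.exists_germ_eq v
  rw [RefHull.stalkMapₗ_germ]
  exact map_zero _

theorem idealι_bijective (I : X.IdealSheafData) {x : X} (hx : x ∉ (I.support : Set X)) :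
    Function.Bijective (RefHull.stalkMapₗ (ClSub.idealModι I) x) := by
  refine ⟨TFPush7.stalkMap_injective_of_mono (kernel.ι (ClSub.toSubscheme I)) x, fun z => ?_⟩
  have hs : Subsingleton ((ClSub.quotMod I).presheaf.stalk x) := by
    by_contra hc
    exact hx (CurveRR24.support_quotMod_subset I hc)
  exact (TFPush7.mem_range_kernel_iff (ClSub.toSubscheme I) x z).2 (hs.elim _ _)

instance mono_idealι (I : X.IdealSheafData) : Mono (ClSub.idealModι I) := inferInstanceAs (Mono (kernel.ι _))

theorem isIso_of_eq {I J : X.IdealSheafData} (h : I = J) (φ : ClSub.idealMod I ⟶ ClSub.idealMod J)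
    (hφ : φ ≫ ClSub.idealModι J = ClSub.idealModι I) : IsIso φ := by
  subst h
  have : φ = 𝟙 _ := by rw [← cancel_mono (ClSub.idealModι I), hφ, Category.id_comp]
  rw [this]
  infer_instance

theorem le_of_hom {I J : X.IdealSheafData} (φ : ClSub.idealMod I ⟶ ClSub.idealMod J)
    (h : φ ≫ ClSub.idealModι J = ClSub.idealModι I) : I ≤ J := fun U f hf => by
  rw [← I.ker_subschemeι_app U, RingHom.mem_ker] at hf
  obtain ⟨k, hk⟩ := (AmpleLib.mem_range_idealModι I U.1 _).2 hf
  rw [← J.ker_subschemeι_app U, RingHom.mem_ker]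
  refine (AmpleLib.mem_range_idealModι J U.1 _).1 ⟨φ.app U.1 k, ?_⟩
  exact (congr(($h).app U.1 k)).trans hk

theorem exists_hom_of_le {I J : X.IdealSheafData} (h : I ≤ J) :
    ∃ φ : ClSub.idealMod I ⟶ ClSub.idealMod J, φ ≫ ClSub.idealModι J = ClSub.idealModι I := by
  refine ⟨kernel.lift _ (ClSub.idealModι I) (InjMod14.Kosz.hom_ext_affine _ _ fun U e => ?_), kernel.lift_ι _ _ _⟩
  have hs : (show Γ(X, U.1) from (ClSub.idealModι I).app U.1 e) ∈ I.ideal U := by
    rw [← I.ker_subschemeι_app U, RingHom.mem_ker]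
    exact (AmpleLib.mem_range_idealModι I U.1 _).1 ⟨e, rfl⟩
  have hJ := h U hs
  rw [← J.ker_subschemeι_app U, RingHom.mem_ker] at hJ
  obtain ⟨k, hk⟩ := (AmpleLib.mem_range_idealModι J U.1 _).2 hJ
  show (ClSub.toSubscheme J).app U.1 ((ClSub.idealModι I).app U.1 e) = 0
  rw [← show (ClSub.idealModι J).app U.1 k = (ClSub.idealModι I).app U.1 e from hk]
  exact congr(($(kernel.condition (ClSub.toSubscheme J))).app U.1 k)

section chase

variable {M F F' : X.Modules} {I I' : X.IdealSheafData} (a : M ⟶ F) (b : F ⟶ ClSub.idealMod I) (w : a ≫ b = 0)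
  (hS : (ShortComplex.mk a b w).ShortExact) (a' : M ⟶ F') (b' : F' ⟶ ClSub.idealMod I') (w' : a' ≫ b' = 0)
  (hS' : (ShortComplex.mk a' b' w').ShortExact) (φ : ClSub.idealMod I ⟶ ClSub.idealMod I') (g : F ⟶ F')
  (hφ : φ ≫ ClSub.idealModι I' = ClSub.idealModι I) (ha : a ≫ g = a') (hb : g ≫ b' = b ≫ φ)

include hS hS' hφ ha hb

theorem chase_injective (x : X) : Function.Injective (RefHull.stalkMapₗ g x) := by
  rw [injective_iff_map_eq_zero]
  intro v hv
  haveI : Mono a' := hS'.mono_f
  have h1 : RefHull.stalkMapₗ φ x (RefHull.stalkMapₗ b x v) = 0 := by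
    rw [← stalk_comp_apply, ← hb, stalk_comp_apply, hv, map_zero]
  have h2 : RefHull.stalkMapₗ b x v = 0 := by
    refine TFPush7.stalkMap_injective_of_mono (kernel.ι (ClSub.toSubscheme I)) x ?_
    show RefHull.stalkMapₗ (ClSub.idealModι I) x _ = RefHull.stalkMapₗ (ClSub.idealModι I) x 0
    rw [map_zero, ← hφ, stalk_comp_apply, h1, map_zero]
  obtain ⟨m, rfl⟩ := stalk_exact a b w hS x v h2
  rw [← stalk_comp_apply, ha] at hv
  rw [TFPush7.stalkMap_injective_of_mono a' x (hv.trans (map_zero _).symm), map_zero]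

theorem chase_bijective (x : X) (hx : x ∉ (I.support : Set X)) :
    Function.Bijective (RefHull.stalkMapₗ g x) := by
  refine ⟨chase_injective a b w hS a' b' w' hS' φ g hφ ha hb x, fun v => ?_⟩
  haveI : Epi b := hS.epi_g
  obtain ⟨z, hz⟩ := (idealι_bijective I hx).2 (RefHull.stalkMapₗ (ClSub.idealModι I') x (RefHull.stalkMapₗ b' x v))
  obtain ⟨y, rfl⟩ := stalk_surjective_of_epi b x z
  have hz' : RefHull.stalkMapₗ b' x (RefHull.stalkMapₗ g x y) = RefHull.stalkMapₗ b' x v := by
    refine TFPush7.stalkMap_injective_of_mono (kernel.ι (ClSub.toSubscheme I')) x ?_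
    show RefHull.stalkMapₗ (ClSub.idealModι I') x _ = RefHull.stalkMapₗ (ClSub.idealModι I') x _
    rw [← hz, ← stalk_comp_apply g b', hb, stalk_comp_apply b φ, ← stalk_comp_apply φ, hφ]
  obtain ⟨m, hm⟩ := stalk_exact a' b' w' hS' x (v - RefHull.stalkMapₗ g x y)
    (by rw [map_sub, hz', sub_self])
  refine ⟨y + RefHull.stalkMapₗ a x m, ?_⟩
  rw [map_add, ← stalk_comp_apply, ha, hm, add_sub_cancel]

end chase

theorem main (k : Type u) [Field k] [X.Over (Spec (CommRingCat.of k))] [IsProper (X ↘ (Spec (CommRingCat.of k)))]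
    [Smooth (X ↘ (Spec (CommRingCat.of k)))] [IrreducibleSpace X] (hdim : topologicalKrullDim X = 2)
    (M : X.Modules) (hM : PicF.IsInvertible M)
    (IZ : X.IdealSheafData) (hZ : (IZ.support : Set X).Finite)
    (F : X.Modules) (a : M ⟶ F) (b : F ⟶ ClSub.idealMod IZ) (w : a ≫ b = 0)
    (hex : (ShortComplex.mk a b w).ShortExact) :
    ¬ FlatMod.IsFinLocFree F ↔
      ∃ (I' : X.IdealSheafData) (F' : X.Modules) (a' : M ⟶ F') (b' : F' ⟶ ClSub.idealMod I') (w' : a' ≫ b' = 0)
        (φ : ClSub.idealMod IZ ⟶ ClSub.idealMod I') (g : F ⟶ F'),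
        IZ < I' ∧ (ShortComplex.mk a' b' w').ShortExact ∧ φ ≫ ClSub.idealModι I' = ClSub.idealModι IZ ∧
          a ≫ g = a' ∧ g ≫ b' = b ≫ φ := by
  let p := X ↘ Spec (CommRingCat.of k)
  haveI : IsLocallyNoetherian X := LocallyOfFiniteType.isLocallyNoetherian p
  haveI : IsReduced X := FlatMorLocalStr.isReduced_of_smooth_field p
  haveI : IsIntegral X := isIntegral_of_irreducibleSpace_of_isReduced X
  have hN : Pi1.IsNormalScheme X := FlatMorLocalStr.isNormalScheme_of_smooth_field p
  have hreg : ∀ x : X, IsRegularLocalRing (X.presheaf.stalk x) :=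
    VarietyLib.isRegularLocalRing_stalk_of_smooth k X p
  have hX : topologicalKrullDim X = ((2 : ℕ) : WithBot ℕ∞) := by rw [hdim]; rfl
  have hgen : ∀ z : X, (∀ w, w ⤳ z → z = w) → DimLib.ptDim p z = (2 : ℕ) := fun z hz => by
    have h := DimLib.topologicalKrullDim_eq_ptDim_genericPoint (X := X) p
    rw [hX] at h
    rw [hz _ (genericPoint_specializes z)]
    exact_mod_cast h.symm
  have hclosed : ∀ x : X, IsClosed ({x} : Set X) → ringKrullDim (X.presheaf.stalk x) = ((2 : ℕ) : WithBot ℕ∞) :=
    fun x hx => by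
      rw [ringKrullDim_stalk_eq_coheight, (FlatMor12.coheight_add_ptDim p 2 hgen x).2,
        (DimLib.ptDim_eq_zero_iff p x).2 hx, Nat.sub_zero]
      rfl
  -- support points are closed of dimension two
  have hsupp : ∀ x ∈ (IZ.support : Set X), IsClosed ({x} : Set X) := by
    intro x hx
    have hfin : (closure ({x} : Set X)).Finite :=
      hZ.subset (closure_minimal (Set.singleton_subset_iff.2 hx) IZ.support.2)
    by_contra hne
    haveI : JacobsonSpace X := LocallyOfFiniteType.jacobsonSpace p
    have hd := (JacobsonSpace.closure_inter_closedPoints (X := X) (isClosed_closure (s := ({x} : Set X))))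
    have hfin' : (closure ({x} : Set X) ∩ closedPoints X).Finite := hfin.subset Set.inter_subset_left
    have hclo : IsClosed (closure ({x} : Set X) ∩ closedPoints X) := by
      rw [← Set.biUnion_of_singleton (closure ({x} : Set X) ∩ closedPoints X)]
      exact hfin'.isClosed_biUnion fun y hy => hy.2
    rw [hclo.closure_eq] at hd
    exact hne (hd.symm.subset (subset_closure rfl)).2
  have hone : ∀ x : X, ringKrullDim (X.presheaf.stalk x) = 1 → x ∉ (IZ.support : Set X) := fun x h1 hx => by
    have h := h1.symm.trans (hclosed x (hsupp x hx))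
    exact absurd h (by decide)
  have hgenS : genericPoint X ∉ (IZ.support : Set X) := fun hx => by
    have h := hclosed _ (hsupp _ hx)
    rw [ringKrullDim_eq_zero_of_isField RefHullLib.isField_stalk_genericPoint] at h
    exact absurd h (by decide)
  have hO : FlatMod.IsFinLocFree (Coh.structureModule X) :=
    Coherent.CohBC.isFinLocFree_structureModule X
  have hOc := Coherent.isCoh_structureModule X
  have hMc : Coh.IsCoh M := Coherent.CohBC.isCoh_of_isFinLocFree (RelVAFib14.isFinLocFree_of_isInvertible hM)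
  have hMtf : TF M := tf_of_finLocFree (RelVAFib14.isFinLocFree_of_isInvertible hM)
  have hItf : ∀ I : X.IdealSheafData, TF (ClSub.idealMod I) := fun I =>
    tf_of_mono (kernel.ι (ClSub.toSubscheme I)) (tf_of_finLocFree hO)
  have hFc : Coh.IsCoh F := Coherent.isCoh_X₂ hex hMc (CurveRR24.isCoh_idealMod' IZ)
  have hFtf : TF F := tf_ext a b w hex hMtf (hItf IZ)
  have hdle : topologicalKrullDim X ≤ 2 := hdim.le
  have hlf : FlatMod.IsFinLocFree F ↔ ∀ x, RefHull.IsReflexiveAt F x :=
    (RefHullLib.isReflexive_iff_isFinLocFree_of_dim_le_two hreg hdle hFc).symm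
  constructor
  · intro hnot
    -- the reflexive hull
    let F' := RefHull.ddual F
    let g : F ⟶ F' := RefHull.bidualMap F
    have hF'c : Coh.IsCoh F' := RefHullLib.isCoh_ddual hFc
    have hF'r : ∀ x, RefHull.IsReflexiveAt F' x := RefHullLib.isReflexiveAt_ddual hFc
    have hF'tf : TF F' := fun x => by
      haveI := AssSch12.finite_stalk hF'c x
      haveI : Module.IsReflexive (X.presheaf.stalk x) (F'.presheaf.stalk x) := hF'r x
      infer_instance
    have hgη : Function.Bijective (RefHull.stalkMapₗ g (genericPoint X)) :=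
      RefHullLib.bijective_stalk_bidualMap_genericPoint hFc
    have hg1 : ∀ y : X, ringKrullDim (X.presheaf.stalk y) ≤ 1 → Function.Bijective (RefHull.stalkMapₗ g y) :=
      fun y hy => (RefHullLib.bijective_stalk_bidualMap_iff hFc y).2 (by
        haveI := hreg y
        haveI := AssSch12.finite_stalk hFc y
        haveI := RefHullLib.free_of_torsionFree_of_dim_le_one hy (hFtf y)
        show Module.IsReflexive _ _
        infer_instance)
    have hginj : ∀ x, Function.Injective (RefHull.stalkMapₗ g x) := fun x u v huv => by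
      refine RefHullLib.toGen_injective F hFc.1 x (hFtf x) (hgη.1 ?_)
      rw [← RefHullLib.toGen_stalkMap, ← RefHullLib.toGen_stalkMap, huv]
    let e := LinearEquiv.ofBijective (RefHull.stalkMapₗ g (genericPoint X)) hgη
    obtain ⟨β, hβ⟩ := RefHullLib.exists_hom_of_genericMap (G := F') hN hOc
      (fun x => by
        haveI := hOc.1
        haveI := Props12.free_stalk_of_isFinLocFree _ hO x
        haveI := AssSch12.finite_stalk hOc x
        show Module.IsReflexive _ _
        infer_instance)
      ((RefHull.stalkMapₗ (b ≫ ClSub.idealModι IZ) (genericPoint X)).comp e.symm.toLinearMap)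
      (fun y hy v => by
        obtain ⟨u, rfl⟩ := (hg1 y hy.le).2 v
        refine ⟨RefHull.stalkMapₗ (b ≫ ClSub.idealModι IZ) y u, ?_⟩
        show _ = RefHull.stalkMapₗ (b ≫ ClSub.idealModι IZ) _ (e.symm _)
        rw [RefHullLib.toGen_stalkMap, RefHullLib.toGen_stalkMap,
          show RefHull.stalkMapₗ g (genericPoint X) (RefHullLib.toGen F y u) = e (RefHullLib.toGen F y u) from rfl,
          e.symm_apply_apply])
    have hgβ : g ≫ β = b ≫ ClSub.idealModι IZ := hom_ext_tf hOc (tf_of_finLocFree hO) (by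
      rw [TFPush7.stalkMap_comp, hβ]
      refine LinearMap.ext fun v => ?_
      show RefHull.stalkMapₗ (b ≫ ClSub.idealModι IZ) _ (e.symm (e v)) = _
      rw [e.symm_apply_apply])
    haveI : Coh.IsQCoh F' := hF'c.1
    let I' := CosecLocus17.imageIdeal β
    obtain ⟨q, hq⟩ := CosecLocus17.exists_toIdealMod β
    haveI : Epi q := ⟨fun {N} α γ hαγ => InjMod14.Kosz.hom_ext_affine _ _ fun U s => by
      have hm : ClSub.idealModι I' ≫ ClSub.toSubscheme I' = 0 := kernel.condition _
      have hs : (show Γ(X, U.1) from (ClSub.idealModι I').app U.1 s) ∈ I'.ideal U := by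
        rw [← I'.ker_subschemeι_app U, RingHom.mem_ker]
        exact (AmpleLib.mem_range_idealModι I' U.1 _).1 ⟨s, rfl⟩
      obtain ⟨e', he'⟩ := (CosecLocus17.mem_imageIdeal β U _).1 hs
      have : q.app U.1 e' = s := ZClosLib.injective_app_of_mono (ClSub.idealModι I') U.1 (by
        exact (congr(($hq).app U.1 e')).trans he')
      rw [← this]
      exact congr(($hαγ).app U.1 e')⟩
    haveI : Mono a := hex.mono_f
    haveI : Epi b := hex.epi_g
    have hgm : Mono g := ZClosLib.mono_of_injective_stalk g hginj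
    let a' : M ⟶ F' := a ≫ g
    have haβ : a' ≫ β = 0 := by rw [Category.assoc, hgβ, reassoc_of% w, zero_comp]
    have w' : a' ≫ q = 0 := by
      rw [← cancel_mono (ClSub.idealModι I'), Category.assoc, hq, haβ, zero_comp]
    haveI : Mono (ClSub.idealModι I') := inferInstanceAs (Mono (kernel.ι _))
    -- M is the kernel of q
    let K := kernel q
    have hKc : Coh.IsCoh K := Coherent.isCoh_kernel q hF'c (CurveRR24.isCoh_idealMod' I').1
    have hKtf : TF K := tf_of_mono (kernel.ι q) hF'tf
    let s : M ⟶ K := kernel.lift q a' w'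
    have hsι : s ≫ kernel.ι q = a' := kernel.lift_ι _ _ _
    have hsinj : ∀ x, Function.Injective (RefHull.stalkMapₗ s x) := fun x u v huv => by
      have := congrArg (RefHull.stalkMapₗ (kernel.ι q) x) huv
      rw [← stalk_comp_apply, ← stalk_comp_apply, hsι] at this
      exact TFPush7.stalkMap_injective_of_mono a' x this
    have hssurj : ∀ x, Function.Bijective (RefHull.stalkMapₗ g x) → Function.Surjective (RefHull.stalkMapₗ s x) := by
      intro x hgx z
      obtain ⟨u, hu⟩ := hgx.2 (RefHull.stalkMapₗ (kernel.ι q) x z)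
      have h0 : RefHull.stalkMapₗ (ClSub.idealModι IZ) x (RefHull.stalkMapₗ b x u) = 0 := by
        rw [← stalk_comp_apply, ← hgβ, stalk_comp_apply, hu]
        have h1 := congrArg (fun f => RefHull.stalkMapₗ f x (RefHull.stalkMapₗ (kernel.ι q) x z)) hq
        rw [← h1, stalk_comp_apply q, ← stalk_comp_apply (kernel.ι q) q, kernel.condition, stalk_zero_apply,
          map_zero]
      have hb0 : RefHull.stalkMapₗ b x u = 0 :=
        TFPush7.stalkMap_injective_of_mono (kernel.ι (ClSub.toSubscheme IZ)) x (h0.trans (map_zero _).symm)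
      obtain ⟨m, hm⟩ := stalk_exact a b w hex x u hb0
      refine ⟨m, TFPush7.stalkMap_injective_of_mono (kernel.ι q) x ?_⟩
      rw [← stalk_comp_apply, hsι, stalk_comp_apply, hm, hu]
    let es := LinearEquiv.ofBijective (RefHull.stalkMapₗ s (genericPoint X)) ⟨hsinj _, hssurj _ hgη⟩
    have hMr : ∀ x, RefHull.IsReflexiveAt M x := fun x => by
      haveI := hMc.1
      haveI := Props12.free_stalk_of_isFinLocFree _ (RelVAFib14.isFinLocFree_of_isInvertible hM) x
      haveI := AssSch12.finite_stalk hMc x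
      show Module.IsReflexive _ _
      infer_instance
    obtain ⟨t, ht⟩ := RefHullLib.exists_hom_of_genericMap (G := K) hN hMc hMr es.symm.toLinearMap
      (fun y hy v => by
        obtain ⟨m, rfl⟩ := hssurj y (hg1 y hy.le) v
        refine ⟨m, ?_⟩
        show _ = es.symm _
        rw [RefHullLib.toGen_stalkMap]
        exact (es.symm_apply_apply _).symm)
    haveI : IsIso s := ⟨t, hom_ext_tf hMc hMtf (LinearMap.ext fun v => by
        rw [stalk_comp_apply, ht]
        refine (es.symm_apply_apply v).trans ?_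
        exact (stalk_id_apply _ _ _).symm),
      hom_ext_tf hKc hKtf (LinearMap.ext fun v => by
        rw [stalk_comp_apply, ht]
        refine (es.apply_symm_apply v).trans ?_
        exact (stalk_id_apply _ _ _).symm)⟩
    haveI : Mono a' := by rw [← hsι]; infer_instance
    have hS' : (ShortComplex.mk a' q w').ShortExact := by
      let S₀ := ShortComplex.mk (kernel.ι q) q (kernel.condition q)
      have hS₀ : S₀.ShortExact := ShortComplex.ShortExact.mk' (S₀.exact_of_f_is_kernel (kernelIsKernel q)) inferInstance ‹_›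
      exact ShortComplex.shortExact_of_iso
        (ShortComplex.isoMk (asIso s).symm (Iso.refl _) (Iso.refl _)
          (by simp [S₀, ← hsι]) (by simp [S₀]) : S₀ ≅ ShortComplex.mk a' q w') hS₀
    have hφ0 : a ≫ g ≫ q = 0 := by rw [← Category.assoc]; exact w'
    let φ : ClSub.idealMod IZ ⟶ ClSub.idealMod I' := hex.exact.desc (g ≫ q) hφ0
    have hbφ : b ≫ φ = g ≫ q := hex.exact.g_desc _ _
    have hφι : φ ≫ ClSub.idealModι I' = ClSub.idealModι IZ := by
      rw [← cancel_epi b, reassoc_of% hbφ, hq, hgβ]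
    refine ⟨I', F', a', q, w', φ, g, lt_of_le_of_ne (le_of_hom φ hφι) fun heq => ?_, hS', hφι, rfl, hbφ.symm⟩
    apply hnot
    rw [hlf]
    intro x
    rw [← RefHullLib.bijective_stalk_bidualMap_iff hFc x]
    refine ⟨hginj x, fun v => ?_⟩
    have hsur : Function.Surjective (RefHull.stalkMapₗ φ x) := by
      have : IsIso φ := isIso_of_eq heq φ hφι
      exact stalk_surjective_of_epi φ x
    obtain ⟨z, hz⟩ := hsur (RefHull.stalkMapₗ q x v)
    obtain ⟨y, rfl⟩ := stalk_surjective_of_epi b x z
    obtain ⟨m, hm⟩ := stalk_exact a' q w' hS' x (v - RefHull.stalkMapₗ g x y) (by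
      rw [map_sub, ← hz, ← stalk_comp_apply g q, ← hbφ, stalk_comp_apply, sub_self])
    refine ⟨y + RefHull.stalkMapₗ a x m, ?_⟩
    rw [map_add, ← stalk_comp_apply, hm, add_sub_cancel]
  · rintro ⟨I', F', a', b', w', φ, g, hlt, hS', hφ, ha, hb⟩ hlfF
    have hFr := hlf.1 hlfF
    have hF'c : Coh.IsCoh F' := Coherent.isCoh_X₂ hS' hMc (CurveRR24.isCoh_idealMod' I')
    have hF'tf : TF F' := tf_ext a' b' w' hS' hMtf (hItf I')
    have hbij : ∀ x, x ∉ (IZ.support : Set X) → Function.Bijective (RefHull.stalkMapₗ g x) :=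
      chase_bijective a b w hex a' b' w' hS' φ g hφ ha hb
    let e := LinearEquiv.ofBijective (RefHull.stalkMapₗ g (genericPoint X)) (hbij _ hgenS)
    obtain ⟨h, hh⟩ := RefHullLib.exists_hom_of_genericMap (G := F') hN hFc hFr e.symm.toLinearMap
      (fun y hy v => by
        obtain ⟨u, rfl⟩ := (hbij y (hone y hy)).2 v
        refine ⟨u, ?_⟩
        show _ = e.symm _
        rw [RefHullLib.toGen_stalkMap]
        exact (e.symm_apply_apply _).symm)
    have hhg : h ≫ g = 𝟙 F' := hom_ext_tf hF'c hF'tf (LinearMap.ext fun v => by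
      rw [stalk_comp_apply, hh]
      refine (e.apply_symm_apply v).trans ?_
      exact (stalk_id_apply _ _ _).symm)
    haveI : Epi (b ≫ φ) := by
      haveI : Epi g := SplitEpi.epi ⟨h, hhg⟩
      haveI : Epi b' := hS'.epi_g
      rw [← hb]
      infer_instance
    haveI : Epi φ := epi_of_epi b φ
    haveI : Mono (ClSub.idealModι IZ) := inferInstanceAs (Mono (kernel.ι _))
    haveI : Mono φ := mono_of_mono_fac hφ
    haveI : IsIso φ := isIso_of_mono_of_epi φ
    exact absurd (le_of_hom (inv φ) (by rw [← hφ, IsIso.inv_hom_id_assoc])) (not_le_of_gt hlt)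

end Groth.Agent.TFPush7.ExtLargerIdeal
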