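import Groth.Agent.TFPush7.TreeGG
import Groth.Agent.DCat.TensorAssoc

/-!
# Deformation ampleness on trees
-/

set_option autoImplicit false
set_option linter.style.haveILetI false
set_option linter.unusedSectionVars false
set_option backward.isDefEq.respectTransparency false
set_option backward.isDefEq.respectTransparency.types false
set_option maxHeartbeats 1000000

universe u

open CategoryTheory CategoryTheory.Limits AlgebraicGeometry TopologicalSpace Opposite
open Groth.Agent.Coherent Groth.Agent.PicLib Groth.Agent.AmpleLib Groth.Agent.EulerLib Groth.Agent.CurveRR24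
open Groth.Agent.Subcurves24 Groth.Agent.DualMod3 Groth.Agent.CAlgH3.ModCohSeq

attribute [local instance] HasDerivedCategory.standard

namespace Groth.Agent.TFPush7.TreeDef

variable {X : Scheme.{u}}

/-- The associator of the tensor product. -/
noncomputable def assoc (A B C : X.Modules) :
    CohB1.tensorMod (CohB1.tensorMod A B) C ≅ CohB1.tensorMod A (CohB1.tensorMod B C) :=
  DCat.TensorAssoc.assocIso A B C

variable (k : Type u) [Field k] [X.Over (Spec (CommRingCat.of k))] [IsProper (X ↘ Spec (CommRingCat.of k))]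

include k in
/-- A generated module with a nonzero map to `O` has `O` as a direct summand. -/
theorem exists_section_one [IsReduced X] [ConnectedSpace X] {E : X.Modules} (hgg : Curv2.IsGloballyGenerated E)
    {ψ : E ⟶ Coh.structureModule X} (hψ : ψ ≠ 0) :
    ∃ u : Coh.structureModule X ⟶ E, u ≫ ψ = 𝟙 _ := by
  obtain ⟨ι, p, hp⟩ := hgg
  obtain ⟨i, hi⟩ : ∃ i, freeInj i ≫ p ≫ ψ ≠ 0 := by
    by_contra h
    push Not at h
    exact hψ ((cancel_epi p).1 ((freeMod_hom_ext fun i => (h i).trans comp_zero.symm).trans comp_zero.symm))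
  let u := freeInj i ≫ p
  let r : Γ(X, ⊤) := unitVal (u ≫ ψ) ⊤
  have hr : r ≠ 0 := fun h => hi (Existence.unit_hom_ext (φ := freeInj i ≫ p ≫ ψ) (ψ := 0) (by
    rw [← Category.assoc]
    exact h))
  obtain ⟨v, hv⟩ := (DualMod3.isField_sections k X).mul_inv_cancel (a := r) hr
  refine ⟨unitDesc E (v • unitVal u ⊤), Existence.unit_hom_ext ?_⟩
  show ψ.app ⊤ (unitVal (unitDesc E (v • unitVal u ⊤)) ⊤) = (1 : Γ(X, ⊤))
  rw [unitVal_unitDesc, resM_self, Scheme.Modules.Hom.app_smul]
  show v * r = 1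
  rw [mul_comm, hv]

include k in
/-- `H¹(E ⊗ ω) = 0` if `E` is generated and this holds on a closed subcurve of genus zero. -/
theorem subsingleton_h1 [IsReduced X] [ConnectedSpace X]
    {W : X.Modules} (hW : PicF.IsInvertible W) (t : Coh.HH X W 1 →ₗ[k] k)
    (hrep : ∀ F : X.Modules, Coh.IsQCoh F → SerreDual.Rep t F)
    {E : X.Modules} [Coh.IsQCoh E] (hgg : Curv2.IsGloballyGenerated E)
    (hsub : ∀ u : Coh.structureModule X ⟶ E, ∀ ψ : E ⟶ Coh.structureModule X, u ≫ ψ ≠ 𝟙 _) :
    Subsingleton (Coh.HH X (CohB1.tensorMod E W) 1) := by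
  haveI := EulerLib.isNoetherian_of_proper k (X := X)
  obtain ⟨W', hW', ⟨e⟩⟩ := exists_inverse k hW
  haveI : Coh.IsQCoh W := isQCoh_of_isInvertible hW
  haveI hT : Coh.IsQCoh (CohB1.tensorMod E W) := isQCoh_tensorMod _ _
  haveI : Subsingleton (CohB1.tensorMod E W ⟶ W) := subsingleton_of_forall_eq 0 fun φ => by
    let α : E ≅ CohB1.tensorMod (CohB1.tensorMod E W) W' :=
      (AmpleLib.tensorComm _ _ ≪≫ unitTensorIso E).symm ≪≫ AmpleLib.tensorIso (Iso.refl E) e.symm ≪≫
        (assoc E W W').symm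
    have hinj := SerreDual.tensorRightHom_injective k (CohB1.tensorMod E W) W hW'
    refine hinj ?_
    rw [map_zero]
    show AmpleLib.tensorMap φ (𝟙 W') = 0
    by_contra hne
    have hψ : α.hom ≫ AmpleLib.tensorMap φ (𝟙 W') ≫ e.hom ≠ 0 := fun h => hne (by
      rw [← cancel_epi α.hom, ← cancel_mono e.hom, Category.assoc, h, comp_zero, zero_comp])
    obtain ⟨u, hu⟩ := exists_section_one k hgg hψ
    exact hsub u _ hu
  haveI : Subsingleton (Module.Dual k (Coh.HH X (CohB1.tensorMod E W) 1)) :=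
    (SerreDual.dualEquiv t (hrep _ hT)).symm.toEquiv.subsingleton
  refine subsingleton_of_forall_eq 0 fun v => ?_
  haveI : Module.Free k (Coh.HH X (CohB1.tensorMod E W) 1) := Module.Free.of_divisionRing k _
  exact (Module.forall_dual_apply_eq_zero_iff k v).1 fun l => by
    rw [Subsingleton.elim l 0, LinearMap.zero_apply]

include k in
/-- No splitting of `O` off `E` when `H¹(E ⊗ ω) = 0` and `χ(ω) ≠ 0`. -/
theorem not_split {W : X.Modules} (t : Coh.HH X W 1 →ₗ[k] k)
    (hrep : ∀ F : X.Modules, Coh.IsQCoh F → SerreDual.Rep t F) (hWe : Curv2.euler k X W ≠ 0) (hWc : Coh.IsCoh W)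
    {E : X.Modules} [Coh.IsQCoh E] (h : Subsingleton (Coh.HH X (CohB1.tensorMod E W) 1))
    (u : Coh.structureModule X ⟶ E) (ψ : E ⟶ Coh.structureModule X) : u ≫ ψ ≠ 𝟙 _ := by
  intro huv
  haveI := EulerLib.isNoetherian_of_proper k (X := X)
  haveI := isSeparated_of_proper (X := X) k
  haveI := hWc.1
  haveI hT : Coh.IsQCoh (CohB1.tensorMod E W) := isQCoh_tensorMod _ _
  haveI : Subsingleton (Module.Dual k (Coh.HH X (CohB1.tensorMod E W) 1)) := by
    refine subsingleton_of_forall_eq 0 fun l => LinearMap.ext fun v => ?_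
    rw [@Subsingleton.elim _ h v 0, map_zero, LinearMap.zero_apply]
  haveI : Subsingleton (CohB1.tensorMod E W ⟶ W) := (SerreDual.dualEquiv t (hrep _ hT)).toEquiv.subsingleton
  have hz : IsZero W := by
    refine (IsZero.iff_id_eq_zero _).2 ?_
    have h1 : (unitTensorIso W).inv ≫ AmpleLib.tensorMap u (𝟙 W) ≫ AmpleLib.tensorMap ψ (𝟙 W) ≫
        (unitTensorIso W).hom = 𝟙 W := by
      rw [← Category.assoc (AmpleLib.tensorMap u _), BoxRes17.tensorMap_comp_tensorMap, huv, Category.id_comp,
        BoxRes17.tensorMap_id_id, Category.id_comp, Iso.inv_hom_id]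
    rw [← h1, Subsingleton.elim (AmpleLib.tensorMap ψ (𝟙 W) ≫ (unitTensorIso W).hom) 0, comp_zero, comp_zero]
  exact hWe (euler_of_isZero k X hz)

end Groth.Agent.TFPush7.TreeDef
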