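import Groth.Agent.TFPush7.Ribbon
import Groth.Agent.TFPush7.BirDual
import Groth.Agent.FComplLib.ZeroNear
import Groth.Agent.CycLib28.PB.ChernLine

/-!
# The dualizing module of a split ribbon on the projective line
-/

set_option autoImplicit false
set_option linter.style.haveILetI false
set_option linter.unusedSectionVars false
set_option backward.isDefEq.respectTransparency false
set_option backward.isDefEq.respectTransparency.types false
set_option maxHeartbeats 1000000

universe u

open CategoryTheory CategoryTheory.Limits AlgebraicGeometry Opposite TopologicalSpace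
open Groth.Agent.Coherent Groth.Agent.PicLib Groth.Agent.AmpleLib Groth.Agent.EulerLib Groth.Agent.CurveRR24

namespace Groth.Agent.TFPush7.Ribbon

variable (k : Type u) [Field k]

/-- Pullback along a retraction is injective on maps. -/
theorem finrank_hom_le_pullback {X Y : Scheme.{u}} [X.Over (Spec (CommRingCat.of k))]
    [Y.Over (Spec (CommRingCat.of k))] (q : Y ⟶ X) (s : X ⟶ Y) (hs : s ≫ q = 𝟙 X)
    (hq : q ≫ (X ↘ Spec (CommRingCat.of k)) = Y ↘ Spec (CommRingCat.of k)) (M N : X.Modules)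
    [Module.Finite k ((Scheme.Modules.pullback q).obj M ⟶ (Scheme.Modules.pullback q).obj N)] :
    Module.finrank k (M ⟶ N) ≤
      Module.finrank k ((Scheme.Modules.pullback q).obj M ⟶ (Scheme.Modules.pullback q).obj N) := by
  let ψ : (M ⟶ N) →ₗ[k] ((Scheme.Modules.pullback q).obj M ⟶ (Scheme.Modules.pullback q).obj N) :=
    { toFun := fun f => (Scheme.Modules.pullback q).map f
      map_add' := fun f f' => Functor.map_add _
      map_smul' := fun c f => TFPush7.pullback_map_smul q hq c f }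
  refine LinearMap.finrank_le_finrank_of_injective (f := ψ) fun f f' hff => ?_
  let α := Scheme.Modules.pullbackComp s q ≪≫ Scheme.Modules.pullbackCongr hs ≪≫ Scheme.Modules.pullbackId X
  have hn : ∀ f : M ⟶ N, f = α.inv.app M ≫ (Scheme.Modules.pullback s).map (ψ f) ≫ α.hom.app N := fun f => by
    show f = α.inv.app M ≫ (Scheme.Modules.pullback q ⋙ Scheme.Modules.pullback s).map f ≫ α.hom.app N
    rw [α.hom.naturality, Iso.inv_hom_id_app_assoc]
    rfl
  rw [hn f, hn f', hff]

variable {C : Scheme.{u}} [C.Over (Spec (CommRingCat.of k))]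
  [IsProper (C ↘ Spec (CommRingCat.of k))]
  (I : C.IdealSheafData) (e : I.subscheme ≅ CohB1.ProjSpace 1 k)
  (he : e.hom ≫ CohB1.ProjSpace.toSpec 1 k = I.subschemeι ≫ (C ↘ Spec (CommRingCat.of k)))
  (hI : I ^ 2 = ⊥)
  {g : ℕ} (hc : Nonempty ((Scheme.Modules.pullback I.subschemeι).obj (ClSub.idealMod I) ≅
      (Scheme.Modules.pullback e.hom).obj (Twist.twistProjSpace 1 k (-((g : ℤ) + 1)))))
  [IsLocallyNoetherian C] [DCoh.HasRpush (C ↘ Spec (CommRingCat.of k))]
  (h : DCoh.RpushPreservesQCoh (C ↘ Spec (CommRingCat.of k))) [DCoh.HasShriek (C ↘ Spec (CommRingCat.of k)) h]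
  (OY : DCoh.DQCoh (Spec (CommRingCat.of k)))
  (hOY : Nonempty (OY.obj ≅ DCoh.inD (Spec (CommRingCat.of k)) (Coh.structureModule (Spec (CommRingCat.of k)))))
  (r : C ⟶ I.subscheme) (hr : I.subschemeι ≫ r = 𝟙 I.subscheme)
  (hrk : r ≫ I.subschemeι ≫ (C ↘ Spec (CommRingCat.of k)) = C ↘ Spec (CommRingCat.of k))

local notation "ω" => DCoh.dualizingMod (C ↘ Spec (CommRingCat.of k)) h OY 1

include he hI hc hOY hr hrk in
theorem omega_iso_of_split (hg : 2 ≤ g) (hω : PicF.IsInvertible ω) :
    Nonempty (ω ≅ (Scheme.Modules.pullback (r ≫ e.hom)).obj (Twist.twistProjSpace 1 k ((g : ℤ) - 1))) := by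
  let P := CohB1.ProjSpace 1 k
  let T := Twist.twistProjSpace 1 k ((g : ℤ) - 1)
  let q : C ⟶ P := r ≫ e.hom
  let s : P ⟶ C := e.inv ≫ I.subschemeι
  have hs : s ≫ q = 𝟙 P := by
    show (e.inv ≫ I.subschemeι) ≫ r ≫ e.hom = 𝟙 P
    rw [Category.assoc, reassoc_of% hr, e.inv_hom_id]
  have hq : q ≫ (P ↘ Spec (CommRingCat.of k)) = C ↘ Spec (CommRingCat.of k) := by
    show (r ≫ e.hom) ≫ CohB1.ProjSpace.toSpec 1 k = _
    rw [Category.assoc, he, hrk]
  let M := (Scheme.Modules.pullback q).obj T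
  have hM : PicF.IsInvertible M := PicLoc.isInvertible_pullback q (SplitP1.inv_twist k _)
  have hMD : Nonempty ((Scheme.Modules.pullback I.subschemeι).obj M ≅ (Scheme.Modules.pullback e.hom).obj T) :=
    ⟨(Scheme.Modules.pullbackComp I.subschemeι q ≪≫
      Scheme.Modules.pullbackCongr (show I.subschemeι ≫ r ≫ e.hom = e.hom by rw [reassoc_of% hr])).app T⟩
  have hd := dim_le_one k I e hI
  have hχ := euler_eq k I e he hI hc hM hMD
  rw [euler_eq_h0_sub_h1 k hd.le _ (isQCoh_of_isInvertible hM)] at hχ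
  have cM := CurveRR24.isCoh_of_isInvertible k hM
  haveI := finite_HH_of_isCoh k cM 0
  have h0M : g ≤ Module.finrank k (Coh.HH C M 0) := by
    obtain ⟨p⟩ := exists_pullStructureIso (X := P) q
    haveI := Module.Finite.equiv ((Linear.homCongr k p (Iso.refl M)).trans (SerreDual.homUnitHH k M)).symm
    have hle := finrank_hom_le_pullback k q s hs hq (Coh.structureModule P) T
    rw [((Linear.homCongr k p (Iso.refl M)).trans (SerreDual.homUnitHH k M)).finrank_eq,
      (SerreDual.homUnitHH k T).finrank_eq, SplitP1.h0_twist] at hle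
    omega
  obtain ⟨t, hrep⟩ := DualMod3.exists_rep k C h OY hOY (d := 1) hd.le
  obtain ⟨hfin, hh1⟩ := SerreDual.finrank_hom_eq_h1 hrep cM
  haveI := hfin
  haveI : Nontrivial (M ⟶ ω) := by
    refine Module.nontrivial_of_finrank_pos (R := k) ?_
    rw [hh1]; omega
  obtain ⟨φ, hφ⟩ := exists_ne (0 : M ⟶ ω)
  have hωD := twist_omega k I e he hI hc h OY hOY hω
  obtain ⟨N, ⟨e1⟩, ⟨e1'⟩⟩ := nonempty_X₁_iso k I e hI hc hω hωD
  obtain ⟨eW⟩ := hωD
  obtain ⟨eM⟩ := hMD
  obtain ⟨e3⟩ := nonempty_X₃_iso I hω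
  let F := Scheme.Modules.pullback e.inv
  let G := Scheme.Modules.pullback e.hom
  let β := Scheme.Modules.pullbackComp e.hom e.inv ≪≫ Scheme.Modules.pullbackCongr e.hom_inv_id ≪≫
    Scheme.Modules.pullbackId I.subscheme
  let γ := Scheme.Modules.pullbackComp e.inv e.hom ≪≫ Scheme.Modules.pullbackCongr e.inv_hom_id ≪≫
    Scheme.Modules.pullbackId P
  have hGF : ∀ {A B : I.subscheme.Modules} (f : A ⟶ B), f = β.inv.app A ≫ G.map (F.map f) ≫ β.hom.app B :=
    fun {A B} f => by
      show f = β.inv.app A ≫ (F ⋙ G).map f ≫ β.hom.app B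
      rw [β.hom.naturality, Iso.inv_hom_id_app_assoc]
      rfl
  -- the restriction of `φ`, seen on the line
  let ψ : T ⟶ T := γ.inv.app T ≫ F.map (eM.inv ≫ (Scheme.Modules.pullback I.subschemeι).map φ ≫ eW.hom) ≫
    γ.hom.app T
  by_cases hz : ψ = 0
  · exfalso
    have hφD : (Scheme.Modules.pullback I.subschemeι).map φ = 0 := by
      have h1 : F.map (eM.inv ≫ (Scheme.Modules.pullback I.subschemeι).map φ ≫ eW.hom) = 0 := by
        rw [← cancel_epi (γ.inv.app T), ← cancel_mono (γ.hom.app T), Category.assoc, comp_zero, zero_comp]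
        exact hz
      have h2 := hGF (eM.inv ≫ (Scheme.Modules.pullback I.subschemeι).map φ ≫ eW.hom)
      rw [h1, Functor.map_zero, zero_comp, comp_zero] at h2
      rw [← cancel_epi eM.inv, ← cancel_mono eW.hom, Category.assoc, h2, comp_zero, zero_comp]
    let q₀ : ω ⟶ (Coh.push I.subschemeι).obj ((Scheme.Modules.pullback I.subschemeι).obj ω) :=
      (unitTensorIso ω).inv ≫ (seq I ω).g ≫ e3.hom
    have hq₀ : q₀ = clUnit I.subschemeι ω ≫ (Coh.push I.subschemeι).map
        (((Scheme.Modules.pullbackPushforwardAdjunction I.subschemeι).homEquiv ω _).symm q₀) :=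
      (((Scheme.Modules.pullbackPushforwardAdjunction I.subschemeι).homEquiv ω _).apply_symm_apply q₀).symm.trans
        (Adjunction.homEquiv_unit _ _ _ _)
    have hu : φ ≫ clUnit I.subschemeι ω = 0 := by
      refine ((Scheme.Modules.pullbackPushforwardAdjunction I.subschemeι).unit.naturality φ).trans ?_
      show _ ≫ (Coh.push I.subschemeι).map ((Scheme.Modules.pullback I.subschemeι).map φ) = _
      rw [hφD, Functor.map_zero, comp_zero]
    have hv : φ ≫ q₀ = 0 := by rw [hq₀, ← Category.assoc, hu, zero_comp]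
    have hv2 : (φ ≫ (unitTensorIso ω).inv) ≫ (seq I ω).g = 0 := by
      rw [← cancel_mono e3.hom, zero_comp, Category.assoc, Category.assoc]; exact hv
    have hS := shortExact_seq I hω
    let l := hS.fIsKernel.lift (KernelFork.ofι _ hv2)
    have hl : l ≫ (seq I ω).f = φ ≫ (unitTensorIso ω).inv := Fork.IsLimit.lift_ι hS.fIsKernel
    let l' : M ⟶ (Coh.push I.subschemeι).obj N := (l : M ⟶ (seq I ω).X₁) ≫ e1.hom
    let m : (Scheme.Modules.pullback e.hom).obj T ⟶ G.obj (Twist.twistProjSpace 1 k ((g : ℤ) - 1 - g - 1)) :=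
      eM.inv ≫ ((Scheme.Modules.pullbackPushforwardAdjunction I.subschemeι).homEquiv M N).symm l' ≫ e1'.hom
    have hm : F.map m = 0 := by
      let m' := γ.inv.app T ≫ F.map m ≫ γ.hom.app _
      have hfr : Module.finrank k (T ⟶ Twist.twistProjSpace 1 k ((g : ℤ) - 1 - g - 1)) = 0 := by
        rw [SplitP1.finrank_hom_twist]; omega
      haveI := SplitP1.finite_hom_twist (k := k) (SplitP1.isCoh_twist_obj k ((g : ℤ) - 1)) ((g : ℤ) - 1 - g - 1)
      haveI : Subsingleton (T ⟶ Twist.twistProjSpace 1 k ((g : ℤ) - 1 - g - 1)) := Module.finrank_zero_iff.1 hfr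
      have hm' : m' = 0 := @Subsingleton.elim (T ⟶ Twist.twistProjSpace 1 k ((g : ℤ) - 1 - g - 1)) _ _ _
      rw [← cancel_epi (γ.inv.app T), ← cancel_mono (γ.hom.app _), Category.assoc, comp_zero, zero_comp]
      exact hm'
    have h2 := hGF m
    rw [hm, Functor.map_zero, zero_comp, comp_zero] at h2
    have h3 : ((Scheme.Modules.pullbackPushforwardAdjunction I.subschemeι).homEquiv M N).symm l' = 0 := by
      rw [← cancel_epi eM.inv, ← cancel_mono e1'.hom, Category.assoc, comp_zero, zero_comp]; exact h2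
    have h4 : l' = 0 := by
      rw [← ((Scheme.Modules.pullbackPushforwardAdjunction I.subschemeι).homEquiv M N).apply_symm_apply l', h3,
        Adjunction.homEquiv_unit, Functor.map_zero, comp_zero]
    have h5 : (l : M ⟶ (seq I ω).X₁) = 0 := (cancel_mono e1.hom).1 (h4.trans zero_comp.symm)
    rw [h5, zero_comp] at hl
    exact hφ ((cancel_mono (unitTensorIso ω).inv).1 (hl.symm.trans zero_comp.symm))
  · have hone : Module.finrank k (T ⟶ T) = 1 := by rw [SplitP1.finrank_hom_twist]; omega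
    have hid : (𝟙 T : T ⟶ T) ≠ 0 := fun h0 => hz (by rw [← Category.id_comp ψ, h0, zero_comp])
    obtain ⟨c, hc'⟩ := (finrank_eq_one_iff_of_nonzero' (𝟙 T) hid).1 hone ψ
    have hc0 : c ≠ 0 := fun h0 => hz (by rw [← hc', h0, zero_smul])
    haveI : IsIso ψ := ⟨c⁻¹ • 𝟙 T, by
      rw [← hc', Linear.smul_comp, Linear.comp_smul, Category.id_comp, smul_smul, mul_inv_cancel₀ hc0, one_smul],
      by rw [← hc', Linear.smul_comp, Linear.comp_smul, Category.id_comp, smul_smul, inv_mul_cancel₀ hc0, one_smul]⟩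
    haveI hF : IsIso (F.map (eM.inv ≫ (Scheme.Modules.pullback I.subschemeι).map φ ≫ eW.hom)) := by
      have : IsIso (γ.inv.app T ≫ F.map (eM.inv ≫ (Scheme.Modules.pullback I.subschemeι).map φ ≫ eW.hom) ≫
        γ.hom.app T) := ‹IsIso ψ›
      haveI := IsIso.of_isIso_comp_left (γ.inv.app T) (F.map (eM.inv ≫ (Scheme.Modules.pullback I.subschemeι).map φ ≫ eW.hom) ≫ γ.hom.app T)
      exact IsIso.of_isIso_comp_right _ (γ.hom.app T)
    haveI : IsIso (eM.inv ≫ (Scheme.Modules.pullback I.subschemeι).map φ ≫ eW.hom) := by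
      rw [hGF (eM.inv ≫ (Scheme.Modules.pullback I.subschemeι).map φ ≫ eW.hom)]
      infer_instance
    haveI : IsIso ((Scheme.Modules.pullback I.subschemeι).map φ) := by
      haveI := IsIso.of_isIso_comp_left eM.inv ((Scheme.Modules.pullback I.subschemeι).map φ ≫ eW.hom)
      exact IsIso.of_isIso_comp_right _ eW.hom
    haveI : Surjective I.subschemeι := ⟨surjective_ι I hI⟩
    have hcok := isCoh_cokernel φ cM.1 (CurveRR24.isCoh_of_isInvertible k hω)
    have hzero : IsZero (cokernel φ) := by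
      refine FComplLib.isZero_of_isZero_pullback I.subschemeι hcok.1 hcok.2 ?_
      haveI : PreservesColimits (Scheme.Modules.pullback I.subschemeι) :=
        (Scheme.Modules.pullbackPushforwardAdjunction I.subschemeι).leftAdjoint_preservesColimits
      exact IsZero.of_iso (isZero_cokernel_of_epi _) (PreservesCokernel.iso _ φ)
    haveI : Epi φ := Preadditive.epi_of_isZero_cokernel φ hzero
    haveI := CycLib28.PB.isIso_of_epi_invertible hM hω φ
    exact ⟨(asIso φ).symm⟩

end Groth.Agent.TFPush7.Ribbon
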