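import Groth.Agent.Surf15.LMStableMain
import Groth.Agent.EulerLib.SlopeBasic
import Groth.Agent.EulerLib.DualPure
import Groth.Agent.RefHullLib.LowDim

/-!
# Slope stability of Lazarsfeld–Mukai bundles with cyclic Picard group
-/

set_option autoImplicit false
set_option linter.style.haveILetI false
set_option linter.unusedSectionVars false
set_option maxHeartbeats 1000000
set_option synthInstance.maxHeartbeats 200000
set_option backward.isDefEq.respectTransparency.types false

universe u

open CategoryTheory CategoryTheory.Abelian CategoryTheory.Limits AlgebraicGeometry Opposite TopologicalSpace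
open Groth.Agent.Coherent Groth.Agent.PicLib Groth.Agent.AmpleLib Groth.Agent.EulerLib
open Groth.Agent.CurveRR24 Groth.Agent.AbCubeLib Groth.Agent.AssSch12 Groth.Agent.VarietyLib
open Groth.Agent.Surf15

namespace Groth.Agent.TFPush7.LMMuStable

section Rank

variable {X : Scheme.{u}} (k : Type u) [Field k] [X.Over (Spec (CommRingCat.of k))]
  [IsProper (X ↘ Spec (CommRingCat.of k))] [IsIntegral X]

/-- The multiplicity of a coherent module on a surface is its rank times that of `O`. -/
theorem alpha_two_eq (hX : topologicalKrullDim X = ((2 : ℕ) : WithBot ℕ∞)) {H : X.Modules} (hH : CohB1.IsAmple H)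
    {G : X.Modules} (hG : Coh.IsCoh G) {P P₀ : Polynomial ℚ} (hP : ShStab.IsHilbPoly k X H G P)
    (h₀ : ShStab.IsHilbPoly k X H (Coh.structureModule X) P₀) :
    StabCat.alpha 2 P = (VB5.grk G : ℚ) * StabCat.alpha 2 P₀ := by
  classical
  haveI := EulerLib.isNoetherian_of_proper k (X := X)
  let ψ : X.Modules → ℚ := fun M => if h : Coh.IsCoh M then
    StabCat.alpha 2 (EulerLib.hp k hH M h) - (VB5.grk M : ℚ) * StabCat.alpha 2 P₀ else 0
  have hψ : ∀ {M : X.Modules} (hM : Coh.IsCoh M) {Q : Polynomial ℚ}, ShStab.IsHilbPoly k X H M Q →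
      ψ M = StabCat.alpha 2 Q - (VB5.grk M : ℚ) * StabCat.alpha 2 P₀ := fun {M} hM {Q} hQ => by
    rw [show ψ M = _ from dif_pos hM, EulerLib.isHilbPoly_unique k (EulerLib.isHilbPoly_hp k hH M hM) hQ]
  have hsub : topologicalKrullDim (Set.univ : Set X) ≤ ((2 : ℕ) : WithBot ℕ∞) :=
    ((Homeomorph.Set.univ X).isInducing.topologicalKrullDim_le).trans hX.le
  have hclo : closure ({genericPoint X} : Set X) = Set.univ := (genericPoint_spec X).def
  have huniv : topologicalKrullDim (closure ({genericPoint X} : Set X)) = ((2 : ℕ) : WithBot ℕ∞) := by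
    rw [hclo, ← hX]
    exact IsHomeomorph.topologicalKrullDim_eq _ (Homeomorph.Set.univ X).isHomeomorph
  have key : ∀ M, Coh.IsCoh M → ψ M = VarietyLib.mult M (genericPoint X) • ψ (clM (genericPoint X)) := by
    intro M hM
    refine (VarietyLib.eq_sum_mult (ψ := ψ) (d := 2) (fun {A B} e => ?_) (fun T hT h1 h2 h3 => ?_) (fun A hA hlt => ?_)
      hM ((EulerLib.dim_mono (Set.subset_univ _)).trans hsub) {genericPoint X} (fun ξ _ hξ => ?_) (fun ξ hξ => ?_)).trans ?_
    · by_cases hA : Coh.IsCoh A
      · have hB := isCoh_iso e hA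
        rw [hψ hA (EulerLib.isHilbPoly_hp k hH A hA), hψ hB (EulerLib.isHilbPoly_iso k e (EulerLib.isHilbPoly_hp k hH A hA)),
          VB5.grk_congr e]
      · rw [show ψ A = 0 from dif_neg hA, show ψ B = 0 from dif_neg fun hB => hA (isCoh_iso e.symm hB)]
    · rw [hψ h1 (EulerLib.isHilbPoly_hp k hH _ h1), hψ h3 (EulerLib.isHilbPoly_hp k hH _ h3),
        hψ h2 (EulerLib.isHilbPoly_add k hH.1 hT h1 h2 h3 (EulerLib.isHilbPoly_hp k hH _ h1) (EulerLib.isHilbPoly_hp k hH _ h3)),
        VB5.grk_additive hT h2, StabCat.alpha, StabCat.alpha, StabCat.alpha, StabCat.alpha, Polynomial.coeff_add]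
      push_cast; ring
    · rw [hψ hA (EulerLib.isHilbPoly_hp k hH A hA),
        EulerLib.alpha_eq_zero_of_dim_lt k hH.1 hA (EulerLib.isHilbPoly_hp k hH A hA) hlt]
      have hnot : genericPoint X ∉ CohB1.support A := fun h => by
        have hle : closure ({genericPoint X} : Set X) ⊆ CohB1.support A :=
          closure_minimal (Set.singleton_subset_iff.2 h) (isClosed_support A (locallyFinGen_of_isFT A hA.2))
        exact absurd ((huniv.symm.trans_le (EulerLib.dim_mono hle)).trans_lt hlt) (lt_irrefl _)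
      haveI : Subsingleton (A.presheaf.stalk (genericPoint X)) := not_not.1 hnot
      rw [show VB5.grk A = 0 from Module.finrank_zero_of_subsingleton]
      simp
    · refine Finset.mem_singleton.2 ?_
      by_contra hne
      have hnm : genericPoint X ∉ closure ({ξ} : Set X) := fun hm =>
        hne ((genericPoint_specializes ξ).antisymm (specializes_iff_mem_closure.2 hm)).eq.symm
      have := EulerLib.dim_lt_of_notMem isClosed_closure (Set.subset_univ _) isClosed_univ hclo hnm hsub
      exact this.ne hξ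
    · rw [Finset.mem_singleton.1 hξ]; exact huniv
    · simp
  have hO := isCoh_structureModule X
  have hm : VarietyLib.mult (Coh.structureModule X) (genericPoint X) = 1 := by
    letI : Field (X.presheaf.stalk (genericPoint X)) := (Field.toIsField X.functionField).toField
    obtain ⟨U, hxU, e, he⟩ := exists_isGen (isInvertible_structureModule (X := X)) (genericPoint X)
    let l : X.presheaf.stalk (genericPoint X) →ₗ[X.presheaf.stalk (genericPoint X)]
        (Coh.structureModule X).presheaf.stalk (genericPoint X) :=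
      LinearMap.toSpanSingleton _ _ ((Coh.structureModule X).presheaf.germ U _ hxU e)
    rw [VarietyLib.mult, ← (LinearEquiv.ofBijective l (VarietyLib.gen_germ_bijective he hxU)).length_eq,
      show Module.length (X.presheaf.stalk (genericPoint X)) (X.presheaf.stalk (genericPoint X)) = 1 from
        Module.length_eq_one_iff.2 inferInstance]
    rfl
  have h1 : ψ (clM (genericPoint X)) = 0 := by
    have h := key _ hO
    rw [hm, one_smul, hψ hO h₀, VB5.grk_eq (PicLib.isFinLocFreeOfRank_one isInvertible_structureModule),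
      Nat.cast_one, one_mul, sub_self] at h
    exact h.symm
  have h := key G hG
  rw [h1, smul_zero, hψ hG hP] at h
  linarith

/-- The first coefficient in terms of the rank and the degree. -/
theorem alpha_one_eq (hX : topologicalKrullDim X = ((2 : ℕ) : WithBot ℕ∞)) {H : X.Modules} (hH : CohB1.IsAmple H)
    {G : X.Modules} (hG : Coh.IsCoh G) {P P₀ : Polynomial ℚ} (hP : ShStab.IsHilbPoly k X H G P)
    (h₀ : ShStab.IsHilbPoly k X H (Coh.structureModule X) P₀) :
    StabCat.alpha 1 P = (VB5.grk G : ℚ) * StabCat.alpha 1 P₀ + (dH k (InvCl.mk H hH.1) G : ℚ) := by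
  haveI := EulerLib.isNoetherian_of_proper k (X := X)
  have hd : ∀ {M : X.Modules}, Coh.IsCoh M → ∀ {Q : Polynomial ℚ}, ShStab.IsHilbPoly k X H M Q →
      (Surf15.deg k M (InvCl.mk H hH.1) : ℚ) = StabCat.alpha 1 Q + StabCat.alpha 2 Q / 2 := by
    intro M hM Q hQ
    have hdeg := (EulerLib.alpha_eq_interDeg k hH.1 hM hQ ((EulerLib.dim_mono (Set.subset_univ _)).trans
      (((Homeomorph.Set.univ X).isInducing.topologicalKrullDim_le).trans hX.le))).1
    have h1 := (hQ 1).symm.trans (congrArg Int.cast (EulerLib.euler_twist_eq k hH.1 M 1))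
    have h0 := (hQ 0).symm.trans (congrArg Int.cast (EulerLib.euler_twist_eq k hH.1 M 0))
    rw [pow_one] at h1
    rw [pow_zero] at h0
    rw [Surf15.deg, Int.cast_sub, ← h1, ← h0,
      Polynomial.eq_quadratic_of_degree_le_two (Polynomial.natDegree_le_iff_degree_le.1 hdeg)]
    simp [StabCat.alpha, Polynomial.coeff_C]
    ring
  rw [dH, Int.cast_sub, Int.cast_mul, Int.cast_natCast, hd hG hP, hd (isCoh_structureModule X) h₀,
    alpha_two_eq k hX hH hG hP h₀]
  ring

end Rank

section LM

variable {X C : Scheme.{u}} (k : Type u) [Field k] [IsAlgClosed k] [X.Over (Spec (CommRingCat.of k))]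
  [IsProper (X ↘ Spec (CommRingCat.of k))] [IsIntegral X] [Smooth (X ↘ Spec (CommRingCat.of k))]
  [PicGrp.Law X] (hX : topologicalKrullDim X = ((2 : ℕ) : WithBot ℕ∞))
  [C.Over (Spec (CommRingCat.of k))] [IsIntegral C] [Smooth (C ↘ Spec (CommRingCat.of k))]
  (hC : topologicalKrullDim C = 1) (i : C ⟶ X) [IsClosedImmersion i]
  (hi : i ≫ (X ↘ Spec (CommRingCat.of k)) = C ↘ Spec (CommRingCat.of k))
  (hK : ExtPow.IsExtPow 2 (Omega.sheaf (X ↘ Spec (CommRingCat.of k))) (Coh.structureModule X))
  (hq : Module.finrank k (Coh.HH X (Coh.structureModule X) 1) = 0)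
  (hI : PicF.IsInvertible (ClSub.idealMod i.ker))
  (hgen : ∀ c : PicLoc.PicSet X, ∃ n : ℤ, c = PicGrp.cls (ClSub.idealMod i.ker) hI ^ n)
  {A : C.Modules} (hA : PicF.IsInvertible A) {n : ℕ} (lam : FlatMod.freeMod X n ⟶ (Coh.push i).obj A)
  [Epi lam] (hlam : Function.Bijective (SerreDual.hmap k lam 0))
  {H : X.Modules} (hH : CohB1.IsAmple H)
include k hX hC hi hK hq hI hgen hA hlam hH

/-- The degrees of the subsheaves of the kernel. -/
theorem exists_delta : ∃ δ : ℤ, 0 < δ ∧ dH k (InvCl.mk H hH.1) (kernel lam) = - δ ∧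
    ∀ (G : X.Modules), Coh.IsCoh G → ∀ (a : G ⟶ kernel lam) [Mono a], ¬ IsZero G →
      dH k (InvCl.mk H hH.1) G ≤ - δ := by
  classical
  haveI := isNoetherian_of_proper (X := X) k
  haveI := isSeparated_of_proper (X := X) k
  haveI := isProper_curve k hX hC i hi
  haveI := isNoetherian_of_proper (X := C) k
  haveI := isQCoh_of_isInvertible hA
  haveI := isQCoh_of_isInvertible (isInvertible_structureModule (X := C))
  have hreg := smooth_regular k hX
  have hE := effCartier_ker k hX hC i hi
  obtain ⟨hint, hdk⟩ := isCrv_ker i hC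
  haveI := hint
  set h := InvCl.mk H hH.1
  set δ := - B k (clI' i.ker hE) h with hδdef
  have hne : i.ker ≠ ⊤ := by
    intro h'
    rw [h', Scheme.IdealSheafData.support_top] at hdk
    exact (dim_empty_lt' 1).ne hdk
  have hneg : B k (clI' i.ker hE) h < 0 := B_clI'_ample_neg k hX hE hne hH
  have hδ : 0 < δ := by omega
  have hmin : ∀ (D : X.IdealSheafData) (hD : BlowUp.IsEffCartierIdeal D), IsIntegral D.subscheme →
      topologicalKrullDim (D.support : Set X) = ((1 : ℕ) : WithBot ℕ∞) → B k (clI' D hD) h ≤ - δ :=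
    fun D hD hDi hDd => by
      have : B k (clI' D hD) h ≤ B k (clI' i.ker hE) h := hmin_of_cyclic k hX hE hI hgen hH hneg D hD hDi hDd
      omega
  have hFf := isFinLocFree_lm k hX hC i hi hA lam
  have hFc := CohBC.isCoh_of_isFinLocFree hFf
  have hPc := CohBC.isCoh_of_isFinLocFree (isFinLocFree_freeMod' (X := X) n)
  have hMc := isCoh_push_line k hX hC i hi hA (M := A) hA
  -- the degree of the kernel
  have hdegF : dH k h (kernel lam) = - δ := by
    have hS : (ShortComplex.mk (kernel.ι lam) lam (kernel.condition lam)).ShortExact :=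
      { exact := ShortComplex.exact_kernel lam }
    have hadd := dH_additive k h hS hFc hPc hMc
    dsimp only at hadd
    rw [dH_free k h n] at hadd
    have hM : dH k h ((Coh.push i).obj A) = δ := by
      rw [dH, grk_push k hX hC i hi A, Nat.cast_zero, zero_mul, sub_zero]
      rw [show h = InvCl.mk H hH.1 from rfl, deg_mk, euler_congr k X (tensorComm _ H),
        euler_tensor_push_line k i hi hC (isFinLocFreeOfRank_one hH.1) hA,
        ← AbCubeLib.euler_push k i hi A]
      obtain ⟨eQ⟩ := nonempty_push_iso_quotMod i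
      have h1 := deg_quotMod k hE h
      rw [show h = InvCl.mk H hH.1 from rfl, deg_mk,
        euler_congr k X (AmpleLib.tensorIso eQ.symm (Iso.refl H) ≪≫ tensorComm _ _),
        euler_congr k X eQ.symm, ← AbCubeLib.euler_push k i hi (Coh.structureModule C)] at h1
      rw [hδdef, show h = InvCl.mk H hH.1 from rfl]
      push_cast
      linarith
    omega
  -- no subsheaf of degree zero
  have hsub : ∀ (G : X.Modules), Coh.IsCoh G → ∀ (a : G ⟶ kernel lam) [Mono a], ¬ IsZero G → dH k h G ≤ - δ := by
    intro G hG a _ hG0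
    rcases sub_free_cases k hX hK hδ hmin n hG (a ≫ kernel.ι lam) hG0 with h1 | ⟨I, ι, v, u, hd, hv, huv, -⟩
    · exact h1
    exfalso
    have hz : ι ≫ (v ≫ lam) = 0 := by
      rw [← Category.assoc, ← huv, Category.assoc, Category.assoc, kernel.condition, comp_zero, comp_zero]
    obtain ⟨ψ, hψ⟩ : ∃ ψ : cokernel ι ⟶ (Coh.push i).obj A, cokernel.π ι ≫ ψ = v ≫ lam :=
      ⟨cokernel.desc ι _ hz, cokernel.π_desc _ _ _⟩
    have hv1 : v ≫ lam ≠ 0 := by
      intro h0
      obtain ⟨h00, -⟩ := h0_h1_lm k hX hC i hi hA lam hK hq hlam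
      haveI := h00
      haveI : Subsingleton (Coh.structureModule X ⟶ kernel lam) :=
        (SerreDual.homUnitHH k (kernel lam)).toEquiv.subsingleton
      refine hv ?_
      rw [← kernel.lift_ι lam v h0, Subsingleton.elim (kernel.lift lam v h0) 0, zero_comp]
    refine hv1 ((SerreDual.homUnitEquiv k _).injective ?_)
    rw [map_zero]
    show (v ≫ lam).app ⊤ (1 : Γ(X, ⊤)) = 0
    set s : Γ(A, i ⁻¹ᵁ ⊤) := (v ≫ lam).app ⊤ (1 : Γ(X, ⊤)) with hs
    have hgen' : i (genericPoint C) ∉ CohB1.support (cokernel ι) := by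
      intro hin
      have hcl : Set.range i ⊆ CohB1.support (cokernel ι) := by
        rintro _ ⟨c, rfl⟩
        have hT : IsClosed (CohB1.support (cokernel ι)) :=
          isClosed_support _ (locallyFinGen_of_isFT _
            (isFT_of_epi (cokernel.π ι) (isCoh_structureModule X).2))
        exact ((genericPoint_specializes c).map i.continuous).mem_closed hT hin
      have h1 : topologicalKrullDim (Set.range i) < ((1 : ℕ) : WithBot ℕ∞) := (dim_mono hcl).trans_lt hd
      rw [← IsHomeomorph.topologicalKrullDim_eq _ i.isClosedEmbedding.isEmbedding.toHomeomorph.isHomeomorph, hC] at h1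
      exact absurd h1 (by norm_num)
    have hgerm : ((Coh.push i).obj A).presheaf.germ ⊤ (i (genericPoint C)) trivial
        (show Γ((Coh.push i).obj A, ⊤) from s) = 0 := by
      have h1 := stalk_map_germ (cokernel.π ι) (W := (⊤ : X.Opens)) (y := i (genericPoint C)) trivial
        (show Γ(Coh.structureModule X, ⊤) from (1 : Γ(X, ⊤)))
      haveI : Subsingleton ((cokernel ι).presheaf.stalk (i (genericPoint C))) := not_not.1 hgen'
      have h2 := stalk_map_germ ψ (W := (⊤ : X.Opens)) (y := i (genericPoint C)) trivial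
        ((cokernel.π ι).app ⊤ (show Γ(Coh.structureModule X, ⊤) from (1 : Γ(X, ⊤))))
      haveI : Subsingleton ((DerSch.stalkFunctor X (i (genericPoint C))).obj (cokernel ι)) := not_not.1 hgen'
      have h3 := h2.symm.trans ((congrArg _ (Subsingleton.elim _ 0)).trans (map_zero _))
      rw [hs]
      refine Eq.trans ?_ h3
      rw [← hψ]
      rfl
    have hgA : A.presheaf.germ (i ⁻¹ᵁ ⊤) (genericPoint C) trivial s = 0 := by
      have h3 := CycLib28.pushGerm_germ i A (i (genericPoint C)) (genericPoint C) rfl ⊤ trivial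
        (show Γ((Coh.push i).obj A, ⊤) from s)
      rw [hgerm, map_zero] at h3
      exact h3.symm
    show s = 0
    refine RefHullLib.section_ext_of_germ_genericPoint (F := A) (isQCoh_of_isInvertible hA)
      (fun x _ => isTorsionFree_stalk_of_isFinLocFree (isFinLocFree_of_rank (isFinLocFreeOfRank_one hA)) x)
      s 0 fun hη => ?_
    rw [map_zero]
    exact hgA
  exact ⟨δ, hδ, hdegF, hsub⟩

/-- The kernel is slope stable. -/
theorem isMuStable : Coh.IsCoh (kernel lam) ∧ TorSh.IsTorsionFree (kernel lam) ∧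
    ShStab.IsMuStable k X H (kernel lam) 2 := by
  haveI := isNoetherian_of_proper (X := X) k
  obtain ⟨δ, hδ, hdegF, hsub⟩ := exists_delta k hX hC i hi hK hq hI hgen hA lam hlam hH
  have hFf := isFinLocFree_lm k hX hC i hi hA lam
  have hFc := CohBC.isCoh_of_isFinLocFree hFf
  have hFr := rank_lm k hX hC i hi hA lam
  have hr := (RefHullLib.isReflexive_iff_isFinLocFree_of_dim_le_two (smooth_regular k hX) hX.le hFc).2 hFf
  have hFp : ShStab.IsPure X (kernel lam) 2 :=
    EulerLib.isPure_of_isReflexive ((RefHullLib.isReflexive_iff_stalks hFc).2 hr) hX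
  have hne : ¬ IsZero (kernel lam) := fun h => by
    rw [dH_isZero k _ h] at hdegF
    omega
  refine ⟨hFc, fun x => ?_, hFc, hne, hFp _ (𝟙 _) inferInstance hFc hne, fun G a ha hG hd => ?_, ?_⟩
  · haveI := hr x
    haveI := AssSch12.finite_stalk hFc x
    infer_instance
  · haveI := ha
    by_cases hz : IsZero G
    · rw [Set.subset_empty_iff.1 (Coherent.support_of_isZero hz ∅)] at hd
      have hbot : topologicalKrullDim (∅ : Set X) = ⊥ := by
        haveI : IsEmpty (IrreducibleCloseds (∅ : Set X)) := ⟨fun A => A.2.1.elim fun a _ => a.2⟩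
        exact Order.krullDim_eq_bot
      rw [hbot, WithBot.bot_add] at hd
      exact WithBot.bot_ne_coe hd
    · rw [hFp G a inferInstance hG hz] at hd
      exact absurd hd (by norm_num)
  intro G a ha hG pG pF hpG hpF hpos hlt
  haveI := ha
  have h₀ := EulerLib.isHilbPoly_hp k hH _ (isCoh_structureModule X)
  have hGne : ¬ IsZero G := fun h => by
    rw [EulerLib.hilb_zero k hH h hpG] at hpos
    simp [StabCat.alpha] at hpos
  have hG1 := alpha_one_eq k hX hH hG hpG h₀
  have hG2 := alpha_two_eq k hX hH hG hpG h₀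
  have hF1 := alpha_one_eq k hX hH hFc hpF h₀
  have hF2 := alpha_two_eq k hX hH hFc hpF h₀
  rw [hdegF] at hF1
  rw [VB5.grk_eq hFr] at hF1 hF2
  have hdG : (dH k (InvCl.mk H hH.1) G : ℚ) ≤ - (δ : ℚ) := by exact_mod_cast hsub G hG a hGne
  have hδ' : (0 : ℚ) < δ := by exact_mod_cast hδ
  show StabCat.alpha 1 pG / StabCat.alpha 2 pG < StabCat.alpha 1 pF / StabCat.alpha 2 pF
  rw [div_lt_div_iff₀ hpos (hpos.trans hlt), hG1, hG2, hF1, hF2]
  rw [hG2, hF2] at hlt
  rw [hG2] at hpos
  generalize (VB5.grk G : ℚ) = g at *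
  generalize StabCat.alpha 2 (EulerLib.hp k hH _ (isCoh_structureModule X)) = a₀ at *
  generalize StabCat.alpha 1 (EulerLib.hp k hH _ (isCoh_structureModule X)) = b₀ at *
  push_cast
  nlinarith [mul_nonneg (mul_nonneg (Nat.cast_nonneg (α := ℚ) n) (hpos.trans hlt).le) (sub_nonneg.2 hdG)]

end LM

end Groth.Agent.TFPush7.LMMuStable
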