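import Groth.Agent.TFPush7.PointedNum
import Groth.Agent.TFPush7.PointVA
import Groth.Agent.CurveRR24.VeryAmple
import Groth.Agent.CurveRR24.RR
import Groth.Agent.Hyper24.BiratH1
import Groth.Agent.TFPush7.PointedSemi

/-!
# Invertible modules of large degree on every component of a reduced curve
-/

set_option autoImplicit false
set_option linter.style.haveILetI false
set_option linter.unusedSectionVars false
set_option backward.isDefEq.respectTransparency false
set_option backward.isDefEq.respectTransparency.types false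
set_option maxHeartbeats 1000000

universe u

open CategoryTheory CategoryTheory.Limits AlgebraicGeometry TopologicalSpace Opposite
open Groth.Agent.Coherent Groth.Agent.PicLib Groth.Agent.AmpleLib Groth.Agent.EulerLib Groth.Agent.CurveRR24
open Groth.Agent.Subcurves24 Groth.Agent.DualMod3

namespace Groth.Agent.TFPush7.BigBundle

variable (k : Type u) [Field k] [IsAlgClosed k] {X : Scheme.{u}} [X.Over (Spec (CommRingCat.of k))]
  [IsProper (X ↘ Spec (CommRingCat.of k))] [IsReduced X] [ConnectedSpace X]

/-- The divisor module of a smooth point of a component. -/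
theorem exists_point_bundle (hdim : topologicalKrullDim X = 1) {C : Closeds X}
    (hC : (C : Set X) ∈ irreducibleComponents X) :
    ∃ (P : X) (N : X.Modules), P ∈ C ∧ PicF.IsInvertible N ∧ Curv2.deg k X N 1 = 1 ∧
      ∀ J : X.IdealSheafData, IsReduced J.subscheme → ConnectedSpace J.subscheme →
        topologicalKrullDim J.subscheme = 1 →
        0 ≤ @Curv2.deg k _ J.subscheme ⟨J.subschemeι ≫ (X ↘ Spec (CommRingCat.of k))⟩
            ((Scheme.Modules.pullback J.subschemeι).obj N) 1 ∧
        ((C : Set X) ⊆ J.support →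
          1 ≤ @Curv2.deg k _ J.subscheme ⟨J.subschemeι ≫ (X ↘ Spec (CommRingCat.of k))⟩
            ((Scheme.Modules.pullback J.subschemeι).obj N) 1) := by
  haveI := EulerLib.isNoetherian_of_proper k (X := X)
  let f := X ↘ Spec (CommRingCat.of k)
  haveI : JacobsonSpace X := LocallyOfFiniteType.jacobsonSpace f
  obtain ⟨η, hηC, hη⟩ := exists_genericPoint hC
  have hint : η ∈ interior (C : Set X) := mem_interior_of_subset hC hη subset_rfl
  obtain ⟨P, ⟨hPC, hPs⟩, hP⟩ := nonempty_inter_closedPoints (X := X)
    (f.dense_smoothLocus_of_perfectField.inter_open_nonempty _ isOpen_interior ⟨η, hint⟩)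
    (isOpen_interior.inter f.smoothLocus.2).isLocallyClosed
  have hPcl : IsClosed ({P} : Set X) := hP
  have hsm : ∃ U : X.Opens, P ∈ U ∧ Smooth (U.ι ≫ f) := by
    refine ⟨f.smoothLocus, hPs, ?_⟩
    rw [← Scheme.Hom.smoothLocus_eq_top_iff, ← Scheme.Hom.preimage_smoothLocus_eq]
    exact Scheme.Opens.ι_preimage_self _
  have hreg : IsRegularLocalRing (X.presheaf.stalk P) := by
    obtain ⟨U, hPU, hU⟩ := hsm
    haveI : IsRegularLocalRing (U.toScheme.presheaf.stalk ⟨P, hPU⟩) :=
      VarietyLib.isRegularLocalRing_stalk_of_smooth k U.toScheme (U.ι ≫ f) _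
    exact IsRegularLocalRing.of_ringEquiv (U.stalkIso ⟨P, hPU⟩).commRingCatIsoToRingEquiv
  have hdimP : ringKrullDim (X.presheaf.stalk P) = 1 := by
    refine le_antisymm ((CurvesLib24.stalk_dim_le_topologicalKrullDim P).trans hdim.le) ?_
    rw [ringKrullDim_stalk_eq_coheight]
    have hsp : η ⤳ P := hη.specializes (interior_subset hPC)
    have hne : P ≠ η := fun e => by
      have h1 := components_dim_one hdim hC
      rw [show (C : Set X) = {P} by rw [← hη.def, ← e, hPcl.closure_eq]] at h1
      haveI : Subsingleton ({P} : Set X) := ⟨fun a b => Subtype.ext (a.2.trans b.2.symm)⟩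
      have h2 : topologicalKrullDim ({P} : Set X) ≤ 0 := topologicalKrullDim_zero_of_discreteTopology _
      rw [h1] at h2
      exact absurd h2 (by decide)
    have hlt : P < η := lt_of_le_not_ge hsp fun h'' => hne (Specializes.antisymm h'' hsp).eq
    have h1 : (1 : ℕ∞) ≤ Order.coheight P := le_trans le_add_self (Order.coheight_add_one_le hlt)
    exact_mod_cast h1
  let D : Closeds X := ⟨{P}, hPcl⟩
  have hI : PicF.IsInvertible (ClSub.idealMod (red D)) :=
    CurveRR24.isInvertible_ptIdeal_of_regular k hPcl hreg hdimP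
  obtain ⟨N, hN, ⟨e⟩⟩ := exists_inverse k hI
  refine ⟨P, N, interior_subset hPC, hN, ?_, fun J hJr hJc hJ => ?_⟩
  · have h1 := deg_tensor k hdim.le hI hN
    rw [deg_congr k e, deg_structure] at h1
    have h2 : Curv2.deg k X (ClSub.idealMod (red D)) 1 = -1 := by
      refine (CurveRR24.deg_ptIdeal k hPcl).trans ?_
      rw [CurveRR24.finrank_resField k hPcl]
      rfl
    omega
  · have h1 := deg_sub_tensor k hdim.le J hI hN
    have h2 := PointedNum.deg_idealPoints k hdim.le D (Set.finite_singleton P)
      (fun x hx => by rw [show x = P from hx]; exact hPcl) (fun x hx => by rw [show x = P from hx]; exact hsm) hI J hJ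
    have h3 := deg_sub_structure k J
    letI : J.subscheme.Over (Spec (CommRingCat.of k)) := ⟨J.subschemeι ≫ (X ↘ Spec (CommRingCat.of k))⟩
    rw [deg_congr k ((Scheme.Modules.pullback J.subschemeι).mapIso e) 1, h3, h2] at h1
    refine ⟨by omega, fun hsub => ?_⟩
    have h4 : ({P} : Set X) ∩ (J.support : Set X) = {P} :=
      Set.inter_eq_left.2 (Set.singleton_subset_iff.2 (hsub (interior_subset hPC)))
    change _ = -(((D : Set X) ∩ (J.support : Set X)).ncard : ℤ) + _ at h1
    rw [show ((D : Set X) ∩ (J.support : Set X)) = {P} from h4, Set.ncard_singleton] at h1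
    omega

/-- Degree at least `b` on every connected subcurve and at most `e·b` in all. -/
theorem exists_bundle (hdim : topologicalKrullDim X = 1) (b : ℕ) (S : Finset (Closeds X))
    (hS : ∀ C ∈ S, (C : Set X) ∈ irreducibleComponents X) :
    ∃ L : X.Modules, PicF.IsInvertible L ∧ Curv2.deg k X L 1 ≤ (S.card * b : ℕ) ∧
      ∀ J : X.IdealSheafData, IsReduced J.subscheme → ConnectedSpace J.subscheme →
        topologicalKrullDim J.subscheme = 1 →
        0 ≤ @Curv2.deg k _ J.subscheme ⟨J.subschemeι ≫ (X ↘ Spec (CommRingCat.of k))⟩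
            ((Scheme.Modules.pullback J.subschemeι).obj L) 1 ∧
        ((∃ C ∈ S, (C : Set X) ⊆ J.support) →
          (b : ℤ) ≤ @Curv2.deg k _ J.subscheme ⟨J.subschemeι ≫ (X ↘ Spec (CommRingCat.of k))⟩
            ((Scheme.Modules.pullback J.subschemeι).obj L) 1) := by
  classical
  induction S using Finset.induction_on with
  | empty =>
    refine ⟨Coh.structureModule X, isInvertible_structureModule, by rw [deg_structure]; simp,
      fun J _ _ _ => ⟨(deg_sub_structure k J).ge, fun h => ?_⟩⟩
    obtain ⟨C, hC, -⟩ := h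
    simp at hC
  | insert C S hCS ih =>
    obtain ⟨L, hL, hdeg, hJ⟩ := ih fun D hD => hS D (Finset.mem_insert_of_mem hD)
    obtain ⟨P, N, -, hN, hNd, hNJ⟩ := exists_point_bundle k hdim (hS C (Finset.mem_insert_self C S))
    have hNb := isInvertible_tensorPow hN b
    refine ⟨CohB1.tensorMod L (CohB1.tensorPow N b), isInvertible_tensorMod hL hNb, ?_, fun J hJr hJc hJd => ?_⟩
    · rw [deg_tensor k hdim.le hL hNb, DualMod3.deg_pow k hdim.le hN b, hNd, Finset.card_insert_of_notMem hCS,
        add_mul, one_mul]
      push_cast at hdeg ⊢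
      linarith
    · have h1 := deg_sub_tensor k hdim.le J hL hNb
      have h2 := deg_sub_pow k hdim.le J hN b
      obtain ⟨h3, h4⟩ := hJ J hJr hJc hJd
      obtain ⟨h5, h6⟩ := hNJ J hJr hJc hJd
      letI : J.subscheme.Over (Spec (CommRingCat.of k)) := ⟨J.subschemeι ≫ (X ↘ Spec (CommRingCat.of k))⟩
      rw [h1, h2]
      refine ⟨add_nonneg h3 (mul_nonneg (Int.natCast_nonneg b) h5), fun hex => ?_⟩
      obtain ⟨D, hD, hDJ⟩ := hex
      rcases Finset.mem_insert.1 hD with rfl | hD
      · exact (le_mul_of_one_le_right (Int.natCast_nonneg b) (h6 hDJ)).trans (le_add_of_nonneg_left h3)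
      · exact (h4 ⟨D, hD, hDJ⟩).trans (le_add_of_nonneg_right (mul_nonneg (Int.natCast_nonneg b) h5))

end Groth.Agent.TFPush7.BigBundle

namespace Groth.Agent.TFPush7.BigBundle

variable (k : Type u) [Field k] [IsAlgClosed k] {X : Scheme.{u}} [X.Over (Spec (CommRingCat.of k))]
  [IsProper (X ↘ Spec (CommRingCat.of k))] [IsReduced X] [ConnectedSpace X]

include k in
/-- `H¹(L) = 0` when the degree on every connected subcurve is at least `2g_J`. -/
theorem subsingleton_h1 (hdim : topologicalKrullDim X = 1) {L : X.Modules} (hL : PicF.IsInvertible L)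
    (h : ∀ J : X.IdealSheafData, IsReduced J.subscheme → ConnectedSpace J.subscheme →
      topologicalKrullDim J.subscheme = 1 →
      2 * (@Curv2.genus k _ J.subscheme ⟨J.subschemeι ≫ (X ↘ Spec (CommRingCat.of k))⟩ : ℤ) ≤
        @Curv2.deg k _ J.subscheme ⟨J.subschemeι ≫ (X ↘ Spec (CommRingCat.of k))⟩
          ((Scheme.Modules.pullback J.subschemeι).obj L) 1) :
    Subsingleton (Coh.HH X L 1) := by
  haveI := isNoetherian_of_proper k (X := X)
  haveI := isSeparated_of_proper (X := X) k
  obtain ⟨x, -, hx⟩ := (isClosed_univ (X := X)).exists_closed_singleton ⟨Classical.arbitrary X, trivial⟩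
  let D : Closeds X := ⟨{x}, hx⟩
  have hpts : ∀ y ∈ (D : Set X), IsClosed ({y} : Set X) := fun y hy => by
    rw [show y = x from hy]; exact hx
  have hZ0 : topologicalKrullDim ((red D).support : Set X) ≤ 0 := by
    rw [Scheme.IdealSheafData.coe_support_vanishingIdeal]
    exact VarietyLib.dim_le_zero_of_closed_points D.isClosed hpts
  have hI1 : Subsingleton (Coh.HH X (CohB1.tensorMod (ClSub.idealMod (red D)) L) 1) := by
    by_contra hne
    rw [not_subsingleton_iff_nontrivial] at hne
    obtain ⟨ω, t, hω, hrep⟩ := CFHR.exists_pair k X hdim.le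
    obtain ⟨J, hJr, hJc, hJd, hJ⟩ := CFHR.exists_subcurve k hrep hω hdim (red D) hL hZ0 hne
    have h1 := h J hJr hJc hJd
    have h2 := euler_structure_sub k J hJd
    have h3 : Module.finrank k (Coh.HH X (ClSub.quotMod (red D ⊔ J)) 0) ≤ 1 := by
      refine (PointVA.h0_quot_sup_le k hdim.le (red D) J hZ0).trans (le_of_eq ?_)
      rw [(PointedNum.quot_points k hdim.le D (Set.finite_singleton x) hpts).1]
      exact Set.ncard_singleton x
    rw [h2] at hJ
    omega
  have hS := EulerLib.twistSeq_shortExact hL (shortExact_ideal (red D))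
  have c3 : Coh.IsCoh (CohB1.tensorMod (ClSub.quotMod (red D)) L) := isCoh_twist hL (isCoh_quotMod _)
  have h3 : Subsingleton (Coh.HH X (CohB1.tensorMod (ClSub.quotMod (red D)) L) 1) :=
    subsingleton_HH_of_support (red D).support _ c3.1
      ((EulerLib.support_twist hL _).subset.trans (support_quotMod_subset _)) 1
      (lt_of_le_of_lt hZ0 (by exact_mod_cast zero_lt_one))
  have c1 : Coh.IsCoh (CohB1.tensorMod (ClSub.idealMod (red D)) L) := isCoh_twist hL (isCoh_idealMod' _)
  have hle : Module.finrank k (Coh.HH X (CohB1.tensorMod (Coh.structureModule X) L) 1) ≤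
      Module.finrank k (Coh.HH X (CohB1.tensorMod (ClSub.idealMod (red D)) L) 1) := by
    have := Hyper24.finrank_h1_mid_le (k := k) (S := EulerLib.twistSeq (ShortComplex.mk (ClSub.idealModι (red D))
      (ClSub.toSubscheme (red D)) (kernel.condition _)) L) hS h3 c1
    exact this
  rw [CurveRR24.finrank_HH_congr k (unitTensorIso L) 1, @Module.finrank_zero_of_subsingleton k _ _ _ _ _ hI1] at hle
  haveI := finite_HH_of_isCoh k (isCoh_iso (unitTensorIso L) (isCoh_twist hL (isCoh_structureModule X))) 1
  exact (Module.finrank_zero_iff (R := k)).1 (Nat.le_zero.1 hle)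

end Groth.Agent.TFPush7.BigBundle
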