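import Groth.Agent.VB5.DualDeg
import Groth.Agent.FinCovLib29.Trace
import Groth.Agent.EGA43.DvrCrit.ReducedStalk
import Groth.Prelude.Def_RelSpec
import Mathlib.RingTheory.Localization.NormTrace
import Mathlib.RingTheory.Artinian.Module
import Mathlib.LinearAlgebra.Trace

/-!
# The degree of a finite flat algebra with reduced generic fibre is nonpositive
-/

set_option autoImplicit false
set_option linter.style.haveILetI false
set_option linter.unusedSectionVars false
set_option maxHeartbeats 1000000
set_option backward.isDefEq.respectTransparency.types false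

universe u

open CategoryTheory CategoryTheory.Limits AlgebraicGeometry Opposite TopologicalSpace
open Groth.Agent.Coherent Groth.Agent.PicLib Groth.Agent.AmpleLib

namespace Groth.Agent.TFPush7.TraceDeg

/-- The trace form of a torsion-free finite free algebra, reduced and of characteristic zero, is nondegenerate. -/
theorem eq_zero_of_trace_mul_eq_zero {R B : Type u} [CommRing R] [IsDomain R] [CharZero R] [CommRing B]
    [Algebra R B] [Module.Free R B] [Module.Finite R B] [_root_.IsReduced B] (a : B)
    (h : ∀ b, Algebra.trace R B (a * b) = 0) : a = 0 := by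
  let K := FractionRing R
  let M := Algebra.algebraMapSubmonoid B (nonZeroDivisors R)
  let L := Localization M
  haveI : CharZero K := charZero_of_injective_algebraMap (IsFractionRing.injective R K)
  letI : Algebra K L := localizationAlgebra (nonZeroDivisors R) B
  haveI : IsScalarTower R K L :=
    IsScalarTower.of_algebraMap_eq (fun x => by
      rw [IsScalarTower.algebraMap_apply R B L, RingHom.algebraMap_toAlgebra]
      exact (IsLocalization.map_eq _ _).symm)
  haveI : _root_.IsReduced L := isReduced_localizationPreserves M L inferInstance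
  let bb := (Module.Free.chooseBasis R B).localizationLocalization K (nonZeroDivisors R) L
  haveI : Module.Finite K L := Module.Finite.of_basis bb
  haveI : IsArtinianRing L := IsArtinianRing.of_finite K L
  haveI : IsSemisimpleRing L := IsArtinianRing.isSemisimpleRing_of_isReduced L
  obtain ⟨e, he, hspan⟩ := IsSemisimpleRing.ideal_eq_span_idempotent (Ideal.span {algebraMap B L a})
  obtain ⟨c, hc⟩ := Ideal.mem_span_singleton'.1 (show e ∈ Ideal.span {algebraMap B L a} from
    hspan ▸ Ideal.mem_span_singleton_self e)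
  obtain ⟨⟨b, ⟨_, r, hr, rfl⟩⟩, hb⟩ := IsLocalization.surj M c
  have htr : Algebra.trace K L e = 0 := by
    have h2 : algebraMap R K r • Algebra.trace K L e = 0 := by
      rw [← map_smul, ← hc, Algebra.smul_def, ← IsScalarTower.algebraMap_apply,
        IsScalarTower.algebraMap_apply R B L, ← mul_assoc, mul_comm _ c, hb, ← map_mul, mul_comm b a,
        Algebra.trace_localization R (nonZeroDivisors R), h, map_zero]
    exact (smul_eq_zero.1 h2).resolve_left fun h0 =>
      nonZeroDivisors.ne_zero hr (IsFractionRing.injective R K (h0.trans (map_zero _).symm))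
  have hid : IsIdempotentElem (LinearMap.mulLeft K e) :=
    LinearMap.ext fun x => by simp [← mul_assoc, he.eq]
  have he0 : LinearMap.mulLeft K e = 0 :=
    LinearMap.IsIdempotentElem.eq_zero_of_trace_eq_zero hid htr
  have he1 : e = 0 := by simpa using LinearMap.congr_fun he0 1
  have ha : algebraMap B L a = 0 := by
    have : algebraMap B L a ∈ Ideal.span {e} := hspan ▸ Ideal.mem_span_singleton_self _
    rwa [he1, Ideal.span_singleton_zero, Ideal.mem_bot] at this
  obtain ⟨⟨_, r', hr', rfl⟩, hra⟩ := (IsLocalization.map_eq_zero_iff M L a).1 ha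
  rw [show algebraMap R B r' * a = r' • a from (Algebra.smul_def r' a).symm] at hra
  exact (smul_eq_zero.1 hra).resolve_left (nonZeroDivisors.ne_zero hr')

variable (k : Type u) [Field k] [CharZero k] {C : Scheme.{u}} [C.Over (Spec (CommRingCat.of k))] [IsIntegral C]
  [IsLocallyNoetherian C] {Y : Scheme.{u}} (g : Y ⟶ C) [IsFinite g] [Flat g]

/-- Nilpotents over a small open die, with a reduced generic fibre. -/
theorem isReduced_sections [IsLocallyNoetherian Y] (hred : AlgebraicGeometry.IsReduced (g.fiber (genericPoint C)))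
    {W : C.Opens} (hW : IsAffineOpen W) [Nonempty W] :
    _root_.IsReduced Γ(Y, g ⁻¹ᵁ W) := by
  have hV : IsAffineOpen (g ⁻¹ᵁ W) := hW.preimage g
  haveI := AssSch12.isNoetherianRing_of_isAffineOpen hW
  haveI := AssSch12.isNoetherianRing_of_isAffineOpen hV
  letI : Algebra Γ(C, W) Γ(Y, g ⁻¹ᵁ W) := (g.appLE W (g ⁻¹ᵁ W) le_rfl).hom.toAlgebra
  haveI : Module.Flat Γ(C, W) Γ(Y, g ⁻¹ᵁ W) :=
    Flat.flat_appLE g hW hV le_rfl
  refine ⟨fun a ha => ?_⟩
  by_contra hne
  obtain ⟨P, hP, hle⟩ := exists_le_isAssociatedPrime_of_isNoetherianRing (Γ(Y, g ⁻¹ᵁ W)) a hne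
  haveI := hP.isPrime
  have hmin := EGA43.DvrCrit.comap_mem_minimalPrimes (A := Γ(C, W)) hP
  rw [minimalPrimes_eq_minimals] at hmin
  have hbot : P.comap (algebraMap Γ(C, W) Γ(Y, g ⁻¹ᵁ W)) = ⊥ :=
    le_bot_iff.1 (hmin.2 (Ideal.isPrime_bot) bot_le)
  let y : Y := hV.fromSpec ⟨P, hP.isPrime⟩
  have hy : y ∈ g ⁻¹ᵁ W := hV.range_fromSpec.le ⟨_, rfl⟩
  have hyP : hV.primeIdealOf ⟨y, hy⟩ = ⟨P, hP.isPrime⟩ :=
    hV.fromSpec.isOpenEmbedding.injective (hV.fromSpec_primeIdealOf _)
  have hgy : g y = genericPoint C := by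
    have h1 := IsAffineOpen.comap_primeIdealOf_appLE W hW (g ⁻¹ᵁ W) hV le_rfl hy
    rw [hyP] at h1
    have h2 : hW.primeIdealOf ⟨g y, hy⟩ = ⟨⊥, Ideal.isPrime_bot⟩ :=
      h1.symm.trans (PrimeSpectrum.ext hbot)
    have hη : genericPoint C ∈ W :=
      ((genericPoint_spec C).mem_open_set_iff W.2).2 ⟨g y, trivial, hy⟩
    have h3 : g y ⤳ genericPoint C := by
      have hs : (⟨⊥, Ideal.isPrime_bot⟩ : PrimeSpectrum Γ(C, W)) ⤳ hW.primeIdealOf ⟨genericPoint C, hη⟩ :=
        (PrimeSpectrum.le_iff_specializes _ _).1 (bot_le : (⊥ : Ideal Γ(C, W)) ≤ _)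
      rw [← h2] at hs
      have := hs.map hW.fromSpec.continuous
      rwa [hW.fromSpec_primeIdealOf, hW.fromSpec_primeIdealOf] at this
    exact (h3.antisymm ((genericPoint_spec C).specializes trivial)).eq
  haveI : _root_.IsReduced (Y.presheaf.stalk y) := by
    refine EGA43.DvrCrit.isReduced_stalk_of_flat g y inferInstance (Flat.stalkMap g y) fun x' hx' => ?_
    have hgx : g x' = genericPoint C := by
      have := hx'.map g.continuous
      rw [hgy] at this
      exact (this.antisymm ((genericPoint_spec C).specializes trivial)).eq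
    haveI : AlgebraicGeometry.IsReduced (g.fiber (g x')) := hgx ▸ hred
    infer_instance
  letI := TopCat.Presheaf.algebra_section_stalk Y.presheaf ⟨y, hy⟩
  haveI := hV.isLocalization_stalk ⟨y, hy⟩
  obtain ⟨s, hs, hsa⟩ := EGA43.DvrCrit.exists_mul_eq_zero_of_reduced (hV.primeIdealOf ⟨y, hy⟩).asIdeal
    (IsLocalization.algEquiv (hV.primeIdealOf ⟨y, hy⟩).asIdeal.primeCompl (Y.presheaf.stalk y)
      (Localization.AtPrime (hV.primeIdealOf ⟨y, hy⟩).asIdeal)).toRingEquiv ha
  rw [hyP] at hs
  refine hs (hle ?_)
  rw [Submodule.mem_colon_singleton, Submodule.mem_bot]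
  exact hsa

variable [IsProper (C ↘ Spec (CommRingCat.of k))] [Smooth (C ↘ Spec (CommRingCat.of k))]

/-- The trace pairing as a bilinear map. -/
noncomputable def traceBilin (hA : FlatMod.IsFinLocFree (RelSpec.QCAlg.directImage g).toModule) :
    Bilin (RelSpec.QCAlg.directImage g).toModule (RelSpec.QCAlg.directImage g).toModule
      (Coh.structureModule C) where
  app U a b := (FinCovLib29.tau (RelSpec.QCAlg.directImage g) hA).app U
    (FinCovLib29.toM _ (FinCovLib29.toR _ a * FinCovLib29.toR _ b))
  add_left U a a' b := by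
    rw [← map_add]
    exact congrArg _ (add_mul (FinCovLib29.toR (RelSpec.QCAlg.directImage g) a) _ _)
  add_right U a b b' := by
    rw [← map_add]
    exact congrArg _ (mul_add (FinCovLib29.toR (RelSpec.QCAlg.directImage g) a) _ _)
  smul_left U r a b := by
    rw [← Scheme.Modules.Hom.app_smul]
    exact congrArg _ (mul_assoc _ (FinCovLib29.toR (RelSpec.QCAlg.directImage g) a) _)
  smul_right U r a b := by
    rw [← Scheme.Modules.Hom.app_smul]
    exact congrArg _ (mul_left_comm (FinCovLib29.toR (RelSpec.QCAlg.directImage g) a) _ _)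
  res U V h a b := by
    refine (app_resM _ h _).symm.trans (congrArg _ ?_)
    exact map_mul ((RelSpec.QCAlg.directImage g).presheaf.map (homOfLE h).op).hom _ _

include k in
theorem deg_nonpos (hdim : topologicalKrullDim C = 1) [IsLocallyNoetherian Y] {d : ℕ}
    (hd : FlatMod.IsFinLocFreeOfRank d ((Coh.push g).obj (Coh.structureModule Y)))
    (hred : AlgebraicGeometry.IsReduced (g.fiber (genericPoint C))) :
    Curv2.deg k C ((Coh.push g).obj (Coh.structureModule Y)) d ≤ 0 := by
  let A := RelSpec.QCAlg.directImage g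
  have hd' : FlatMod.IsFinLocFreeOfRank d A.toModule := hd
  have hA : FlatMod.IsFinLocFree A.toModule := LocFreeLib.isFinLocFree_of_rank hd'
  have hn := VB5.isIntegrallyClosed_stalk k (X := C)
  let φ : A.toModule ⟶ CycLib28.PB.Ops.dual A.toModule := curry (traceBilin g hA)
  have hD := CycLib28.PB.Ops.isFinLocFreeOfRank_dual hd'
  have hMc := SplitP1.isCoh_of_rank hd'
  have hDc := SplitP1.isCoh_of_rank hD
  have hkey : ∀ (W : C.Opens) (_ : IsAffineOpen W) (_ : FinCovLib29.Good A W) (_ : Nonempty W)
      (a : Γ(A.toModule, W)), φ.app W a = 0 → a = 0 := by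
    intro W hW hgood hne a ha
    letI := FinCovLib29.secAlg A W
    obtain ⟨hfree, hfin⟩ := FinCovLib29.good_iff_affine_free A hgood
    haveI := hfree
    haveI := hfin
    haveI : _root_.IsReduced (A.presheaf.obj (op W)) := isReduced_sections g hred hW
    haveI : CharZero Γ(C, W) :=
      charZero_of_injective_ringHom
        (((C ↘ Spec (CommRingCat.of k)).appLE ⊤ W le_top).hom.comp
          (Scheme.ΓSpecIso (CommRingCat.of k)).inv.hom).injective
    have h := fun b : A.presheaf.obj (op W) => congrArg
      (fun ψ => ev (secHom ψ) W le_rfl (FinCovLib29.toM A b)) ha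
    refine eq_zero_of_trace_mul_eq_zero (R := Γ(C, W)) (FinCovLib29.toR A a) fun b => ?_
    have hb : (traceBilin g hA).app W (FinCovLib29.toM A b) (resM A.toModule le_rfl a) = 0 := by
      have := h b
      simp only at this
      rw [ev_curry] at this
      exact this.trans rfl
    rw [resM_self] at hb
    have h' := (FinCovLib29.isTrace_app_good A (FinCovLib29.isTrace_tau A hA) hA hgood
      (FinCovLib29.toM A (FinCovLib29.toR A (FinCovLib29.toM A b) * FinCovLib29.toR A a))).symm.trans hb
    rw [mul_comm]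
    exact h'
  have hK : Coh.IsCoh (kernel φ) := Coherent.isCoh_kernel φ hMc hDc.1
  have hK0 : VB5.grk (kernel φ) = 0 := by
    haveI : Subsingleton ((kernel φ).presheaf.stalk (genericPoint C)) := by
      refine subsingleton_of_forall_eq 0 fun m => ?_
      obtain ⟨U, hU, s, rfl⟩ := TopCat.Presheaf.exists_germ_eq (kernel φ).presheaf m
      obtain ⟨W, hWU, hηW, hgood, hW⟩ := FinCovLib29.exists_affine_good A U (genericPoint C) hU hA
      haveI : Nonempty W := ⟨⟨_, hηW⟩⟩
      rw [← TopCat.Presheaf.germ_res_apply (kernel φ).presheaf (homOfLE hWU) _ hηW s]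
      have h0 : (kernel.ι φ).app W (resM (kernel φ) hWU s) = 0 := hkey W hW hgood inferInstance _ (by
        rw [← ConcreteCategory.comp_apply, ← Scheme.Modules.Hom.comp_app, kernel.condition]
        rfl)
      have h1 : resM (kernel φ) hWU s = 0 :=
        (map_eq_zero_iff _ (Coherent.app_injective_of_mono (kernel.ι φ) W)).1 h0
      exact (congrArg ((kernel φ).presheaf.germ W _ hηW) h1).trans (map_zero _)
    exact Module.finrank_zero_of_subsingleton
  haveI : Mono φ := Preadditive.mono_of_isZero_kernel _
    (VB5.zero_rank_sub k hdim hn hd' (kernel.ι φ) hK hK0).1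
  have hle := (VB5.full_rank k hdim φ hMc hDc ((VB5.grk_eq hd').trans (VB5.grk_eq hD).symm)).1
  rw [VB5.gdeg_dual k hdim hn d hd'] at hle
  rw [VB5.deg_eq_gdeg k hd]
  change VB5.gdeg k A.toModule ≤ 0
  omega

end Groth.Agent.TFPush7.TraceDeg
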