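import Groth.Agent.EulerLib.SlopeBasic
import Groth.Agent.EulerLib.DualPure
import Groth.Agent.RefHullLib.RankOne
import Groth.Agent.RefHullLib.Extend
import Groth.Agent.RefHullLib.LowDim
import Groth.Agent.RefHullLib.TensorGen
import Groth.Agent.TFPush7.TreeGG
import Groth.Agent.DCat.TensorAssoc
import Groth.Agent.KModel28.Basic
import Groth.Agent.Clifford24.Sub
import Groth.Agent.Hyper24.BiratH1
import Groth.Agent.TFPush7.CFHR
import Groth.Agent.SerreDual.HomLinear
import Groth.Agent.SplitP1.Split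
import Groth.Agent.TwistLib.TwistInv
import Groth.Agent.UPLib.SecKernel
import Groth.Agent.AbCubeLib.AmpleOfFiniteKL
import Groth.Agent.Desc19b.GGFpqc

/-!
# Rank two extensions on a polarised surface with cyclic Picard group
-/

set_option autoImplicit false
set_option linter.style.haveILetI false
set_option linter.unusedSectionVars false
set_option backward.isDefEq.respectTransparency false
set_option backward.isDefEq.respectTransparency.types false
set_option maxHeartbeats 1000000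

universe u

open CategoryTheory CategoryTheory.Limits AlgebraicGeometry TopologicalSpace Opposite StabCat Polynomial
open Groth.Agent.Coherent Groth.Agent.PicLib Groth.Agent.AmpleLib Groth.Agent.EulerLib

namespace Groth.Agent.TFPush7.UlrichStab

theorem alpha_shift (P : ℚ[X]) (hP : P.natDegree ≤ 2) (a : ℚ) :
    alpha 2 (P.comp (Polynomial.X + C a)) = alpha 2 P ∧
      alpha 1 (P.comp (Polynomial.X + C a)) = alpha 1 P + a * alpha 2 P := by
  have hP' : P = C (P.coeff 2) * Polynomial.X ^ 2 + C (P.coeff 1) * Polynomial.X + C (P.coeff 0) :=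
    Polynomial.eq_quadratic_of_degree_le_two (Polynomial.natDegree_le_iff_degree_le.1 hP)
  generalize P.coeff 2 = p at hP'
  generalize P.coeff 1 = q at hP'
  generalize P.coeff 0 = r at hP'
  subst hP'
  have he : (C p * Polynomial.X ^ 2 + C q * Polynomial.X + C r).comp (Polynomial.X + C a) =
      C p * Polynomial.X ^ 2 + C (q + 2 * a * p) * Polynomial.X + C (r + q * a + p * a ^ 2) := by
    simp only [add_comp, mul_comp, C_comp, X_pow_comp, X_comp, map_add, map_mul, map_pow, map_ofNat]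
    ring
  rw [he]
  generalize r + q * a + p * a ^ 2 = t
  simp [alpha, coeff_C]
  ring

theorem not_isZero_invertible {X : Scheme.{u}} [Nonempty X] {N : X.Modules} (hN : PicF.IsInvertible N) :
    ¬ IsZero N := fun hz => by
  obtain ⟨x⟩ := (inferInstance : Nonempty X)
  obtain ⟨U, hxU, g, hg⟩ := PicLib.exists_isGen hN x
  have hne : ¬ Subsingleton (N.presheaf.stalk x) := fun hs =>
    zero_ne_one (α := X.presheaf.stalk x) ((VarietyLib.gen_germ_bijective hg hxU).1 (Subsingleton.elim _ _))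
  exact Set.notMem_empty x ((Coherent.support_of_isZero hz ∅) hne)

section Twist

variable {X : Scheme.{u}} (k : Type u) [Field k] {n : ℕ} (ι : X ⟶ CohB1.ProjSpace n k)

/-- The twists pulled back to `X`. -/
noncomputable abbrev T (a : ℤ) : X.Modules := (Scheme.Modules.pullback ι).obj (Twist.twistProjSpace n k a)

theorem cov (x : ProjectiveSpectrum (CohB1.polyGrading n k)) :
    ∃ f ∈ CohB1.polyGrading n k 1, f ∉ x.asHomogeneousIdeal.toIdeal := by
  obtain ⟨i, hi⟩ := UPLib.exists_degOne_projSpace (R := CommRingCat.of k) n x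
  exact ⟨_, MvPolynomial.isHomogeneous_X k i, hi⟩

theorem isInvertible_T (a : ℤ) : PicF.IsInvertible (T k ι a) :=
  PicLoc.isInvertible_pullback ι (SerreDual.isInvertible_twist n k a)

theorem nonempty_T_add {a b c : ℤ} (h : a + b = c) : Nonempty (CohB1.tensorMod (T k ι a) (T k ι b) ≅ T k ι c) := by
  obtain ⟨e⟩ : Nonempty (CohB1.tensorMod (Twist.twistProjSpace n k a) (Twist.twistProjSpace n k b) ≅
      Twist.twistProjSpace n k c) := TwistLib.nonempty_tensor_twist_iso (cov k) h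
  obtain ⟨e'⟩ := AmpleLib.exists_pullTensorIso ι (SerreDual.isInvertible_twist n k a) (SerreDual.isInvertible_twist n k b)
  exact ⟨e'.symm ≪≫ (Scheme.Modules.pullback ι).mapIso e⟩

theorem nonempty_T_zero : Nonempty (T k ι 0 ≅ Coh.structureModule X) := by
  obtain ⟨o⟩ := AmpleLib.exists_pullStructureIso ι
  obtain ⟨e⟩ : Nonempty (Twist.twistProjSpace n k 0 ≅ Coh.structureModule (CohB1.ProjSpace n k)) :=
    TwistLib.nonempty_twist_zero_iso
  exact ⟨(Scheme.Modules.pullback ι).mapIso e ≪≫ o⟩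

theorem nonempty_T_pow : ∀ m : ℕ, Nonempty (CohB1.tensorPow (T k ι 1) m ≅ T k ι (m : ℤ))
  | 0 => ⟨(nonempty_T_zero k ι).some.symm⟩
  | m + 1 => by
    obtain ⟨e⟩ := nonempty_T_pow m
    obtain ⟨e'⟩ := nonempty_T_add k ι (show (m : ℤ) + 1 = ((m + 1 : ℕ) : ℤ) by push_cast; ring)
    exact ⟨AmpleLib.tensorIso e (Iso.refl _) ≪≫ e'⟩

theorem gg_T_one : Curv2.IsGloballyGenerated (T k ι 1) := by
  refine Desc19b.isGloballyGenerated_pullback (π := ι) ?_
  refine AbCubeLib.isGloballyGenerated_of_glocus fun z => ?_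
  obtain ⟨f, hf, hz⟩ := cov k (n := n) z
  exact ⟨_, TwistLib.basicOpen_le_glocus_globalOf (i := 1) hf hz⟩

variable [X.Over (Spec (CommRingCat.of k))] [IsProper (X ↘ Spec (CommRingCat.of k))] [IsIntegral X]

include k in
theorem exists_ne_zero_T : ∀ m : ℕ, ∃ σ : Coh.structureModule X ⟶ T k ι (m : ℤ), Mono σ
  | 0 => ⟨(nonempty_T_zero k ι).some.inv, inferInstance⟩
  | m + 1 => by
    haveI := EulerLib.isNoetherian_of_proper k (X := X)
    obtain ⟨σ, hσ⟩ := exists_ne_zero_T m
    obtain ⟨J, p, hp⟩ := gg_T_one k ι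
    obtain ⟨i, hi⟩ : ∃ i, freeInj i ≫ p ≠ 0 := by
      by_contra h
      push Not at h
      have hp0 : p = 0 := freeMod_hom_ext fun i => (h i).trans comp_zero.symm
      exact not_isZero_invertible (isInvertible_T k ι 1)
        ((IsZero.iff_id_eq_zero _).2 ((cancel_epi p).1 (by rw [hp0, Limits.zero_comp, Limits.zero_comp])))
    obtain ⟨e⟩ := nonempty_T_add k ι (show (m : ℤ) + 1 = ((m + 1 : ℕ) : ℤ) by push_cast; ring)
    haveI hμ : Mono (freeInj i ≫ p) :=
      SplitP1.mono_of_ne_zero' (CurveRR24.isCoh_of_isInvertible k (isInvertible_T k ι 1))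
        (fun x => (SplitP1.nonempty_basis_stalk (PicLib.isFinLocFreeOfRank_one (isInvertible_T k ι 1)) x).elim
          fun b => Module.Free.of_basis b) isInvertible_structureModule _ hi
    let μ := freeInj i ≫ p
    haveI hτ : Mono (AmpleLib.tensorMap μ (𝟙 (T k ι (m : ℤ)))) :=
      ParGP23.koszMap_eq μ (𝟙 _) ▸ EulerPn5.mono_tensorMap_flat μ (VarietyLib.isFinLocFree_of_rank (PicLib.isFinLocFreeOfRank_one (isInvertible_T k ι m)))
    exact ⟨σ ≫ (unitTensorIso _).inv ≫ AmpleLib.tensorMap μ (𝟙 _) ≫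
      (AmpleLib.tensorComm _ _).hom ≫ e.hom, inferInstance⟩

variable (hA : CohB1.IsAmple (T k ι 1)) (hX : topologicalKrullDim X ≤ ((2 : ℕ) : WithBot ℕ∞))

theorem natDegree_le {G : X.Modules} (hG : Coh.IsCoh G) {P : ℚ[X]} (hP : ShStab.IsHilbPoly k X (T k ι 1) G P)
    (hX : topologicalKrullDim X ≤ ((2 : ℕ) : WithBot ℕ∞)) (hA : CohB1.IsAmple (T k ι 1)) : P.natDegree ≤ 2 :=
  (EulerLib.alpha_eq_interDeg k hA.1 hG hP (((EulerLib.dim_mono (Set.subset_univ _)).trans
    ((Homeomorph.Set.univ X).isInducing.topologicalKrullDim_le)).trans hX)).1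

include hA hX in
/-- Hilbert polynomials of the twists. -/
theorem alpha_T (a : ℤ) {P₀ P : ℚ[X]} (h₀ : ShStab.IsHilbPoly k X (T k ι 1) (Coh.structureModule X) P₀)
    (hP : ShStab.IsHilbPoly k X (T k ι 1) (T k ι a) P) :
    alpha 2 P = alpha 2 P₀ ∧ alpha 1 P = alpha 1 P₀ + (a : ℚ) * alpha 2 P₀ := by
  haveI := EulerLib.isNoetherian_of_proper k (X := X)
  have e0 : ∀ m : ℕ, P₀.eval (m : ℚ) = (Curv2.euler k X (T k ι (m : ℤ)) : ℚ) := fun m => by
    rw [← h₀ m]
    exact congrArg Int.cast (EulerLib.euler_congr k X (unitTensorIso _ ≪≫ (nonempty_T_pow k ι m).some))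
  have ea : ∀ m : ℕ, P.eval (m : ℚ) = (Curv2.euler k X (T k ι (a + (m : ℤ))) : ℚ) := fun m => by
    rw [← hP m]
    exact congrArg Int.cast (EulerLib.euler_congr k X
      (AmpleLib.tensorIso (Iso.refl _) (nonempty_T_pow k ι m).some ≪≫ (nonempty_T_add k ι rfl).some))
  have hEq : P = P₀.comp (Polynomial.X + C (a : ℚ)) := by
    refine Polynomial.eq_of_infinite_eval_eq _ _ (Set.infinite_of_injective_forall_mem
      (f := fun m : ℕ => ((a.natAbs + m : ℕ) : ℚ)) (fun p q h => Nat.add_left_cancel (Nat.cast_injective h)) fun m => ?_)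
    show P.eval ((a.natAbs + m : ℕ) : ℚ) = (P₀.comp (Polynomial.X + C (a : ℚ))).eval ((a.natAbs + m : ℕ) : ℚ)
    obtain ⟨j, hj⟩ : ∃ j : ℕ, (j : ℤ) = a + ((a.natAbs + m : ℕ) : ℤ) :=
      ⟨(a + ((a.natAbs + m : ℕ) : ℤ)).toNat, Int.toNat_of_nonneg (by omega)⟩
    have hc : ((a.natAbs + m : ℕ) : ℚ) + (a : ℚ) = (j : ℚ) := by
      rw [← Int.cast_natCast j, hj, Int.cast_add, Int.cast_natCast]
      ring
    rw [eval_comp, eval_add, eval_X, eval_C, hc, ea, ← hj, ← e0]
  rw [hEq]
  exact alpha_shift _ (natDegree_le k ι (isCoh_structureModule X) h₀ hX hA) _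

end Twist

section Integral

variable {X : Scheme.{u}} [IsIntegral X]

theorem stalk_comp {A B C : X.Modules} (a : A ⟶ B) (b : B ⟶ C) (x : X) (v : A.presheaf.stalk x) :
    RefHull.stalkMapₗ (a ≫ b) x v = RefHull.stalkMapₗ b x (RefHull.stalkMapₗ a x v) := by
  obtain ⟨U, hU, m, rfl⟩ := TopCat.Presheaf.exists_germ_eq _ v
  rw [RefHull.stalkMapₗ_germ, RefHull.stalkMapₗ_germ, RefHull.stalkMapₗ_germ]
  rfl

theorem stalk_zero {A B : X.Modules} (x : X) (v : A.presheaf.stalk x) :
    RefHull.stalkMapₗ (0 : A ⟶ B) x v = 0 := by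
  obtain ⟨U, hU, m, rfl⟩ := TopCat.Presheaf.exists_germ_eq _ v
  rw [RefHull.stalkMapₗ_germ]
  exact map_zero _

variable [IsLocallyNoetherian X]

theorem dim_lt_generic {d : ℕ} (hX : topologicalKrullDim X = d) {M : X.Modules} (hM : Coh.IsCoh M)
    (h : genericPoint X ∉ CohB1.support M) : topologicalKrullDim (CohB1.support M) < (d : WithBot ℕ∞) :=
  EulerLib.dim_lt_of_notMem (isClosed_support M (locallyFinGen_of_isFT M hM.2)) (Set.subset_univ _)
    isClosed_univ (genericPoint_spec X) h ((Topology.IsInducing.subtypeVal.topologicalKrullDim_le).trans hX.le)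

/-- A map out of a pure module, injective at the generic point, is injective. -/
theorem mono_of_generic {d : ℕ} (hX : topologicalKrullDim X = d) {F G : X.Modules} (hF : Coh.IsCoh F)
    (hG : Coh.IsQCoh G) (hp : ShStab.IsPure X F d) (θ : F ⟶ G)
    (hθ : Function.Injective (RefHull.stalkMapₗ θ (genericPoint X))) : Mono θ := by
  refine Preadditive.mono_of_isZero_kernel _ ?_
  by_contra hne
  have hK := Coherent.isCoh_kernel θ hF hG
  have hnot : genericPoint X ∉ CohB1.support (kernel θ) := fun h => h (subsingleton_of_forall_eq 0 fun v => by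
    apply CFHR.stalk_injective_of_mono (kernel.ι θ) (genericPoint X)
    apply hθ
    rw [← stalk_comp, kernel.condition, stalk_zero, map_zero, map_zero])
  have h1 := dim_lt_generic hX hK hnot
  exact absurd (hp _ (kernel.ι θ) inferInstance hK hne) h1.ne

/-- A nonzero module, pure and generically of rank one. -/
theorem generic_bijective {F N : X.Modules} (hN : PicF.IsInvertible N) (j : F ⟶ N) [Mono j]
    {v : F.presheaf.stalk (genericPoint X)} (hv : v ≠ 0) :
    Function.Bijective (RefHull.stalkMapₗ j (genericPoint X)) ∧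
      Function.Bijective (fun a : X.presheaf.stalk (genericPoint X) => a • v) := by
  letI : Field (X.presheaf.stalk (genericPoint X)) := RefHullLib.isField_stalk_genericPoint.toField
  obtain ⟨U, hU, g, hg⟩ := PicLib.exists_isGen hN (genericPoint X)
  have hb := VarietyLib.gen_germ_bijective hg hU
  have hj := CFHR.stalk_injective_of_mono j (genericPoint X)
  obtain ⟨c, hc⟩ := hb.2 (RefHull.stalkMapₗ j _ v)
  have hc0 : c ≠ 0 := by
    rintro rfl
    exact hv (hj (by rw [← hc, map_zero]; exact zero_smul _ _))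
  have key : ∀ w, ∃ a : X.presheaf.stalk (genericPoint X), RefHull.stalkMapₗ j _ (a • v) = w := fun w => by
    obtain ⟨d, rfl⟩ := hb.2 w
    refine ⟨d * c⁻¹, ?_⟩
    rw [map_smul, ← hc, ← mul_smul, mul_assoc, inv_mul_cancel₀ hc0, mul_one]
  refine ⟨⟨hj, fun w => ⟨_, (key w).choose_spec⟩⟩, fun a b hab => ?_, fun w => ?_⟩
  · by_contra hne
    have h0 : (a - b) • v = 0 := by rw [sub_smul]; exact sub_eq_zero.2 hab
    exact hv (by simpa [← mul_smul, inv_mul_cancel₀ (sub_ne_zero.2 hne)] using congrArg ((a - b)⁻¹ • ·) h0)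
  · obtain ⟨a, ha⟩ := key (RefHull.stalkMapₗ j _ w)
    exact ⟨a, hj ha⟩

end Integral

variable (k : Type u) [Field k] {X : Scheme.{u}} [X.Over (Spec (CommRingCat.of k))]
  [IsProper (X ↘ Spec (CommRingCat.of k))] [IsIntegral X] {L : X.Modules} (hL : CohB1.IsAmple L)

include hL in
/-- A map which is bijective at the generic point keeps the multiplicity and raises the next one. -/
theorem alpha_le_of_generic (hX : topologicalKrullDim X = ((2 : ℕ) : WithBot ℕ∞)) {F G : X.Modules}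
    (hF : Coh.IsCoh F) (hG : Coh.IsCoh G) (θ : F ⟶ G) [Mono θ]
    (hθ : Function.Surjective (RefHull.stalkMapₗ θ (genericPoint X))) {P Q : ℚ[X]}
    (hP : ShStab.IsHilbPoly k X L F P) (hQ : ShStab.IsHilbPoly k X L G Q) :
    alpha 2 P = alpha 2 Q ∧ alpha 1 P ≤ alpha 1 Q := by
  haveI := EulerLib.isNoetherian_of_proper k (X := X)
  have hC := Coherent.isCoh_cokernel θ hF.1 hG
  have hnot : genericPoint X ∉ CohB1.support (cokernel θ) := fun h => h (subsingleton_of_forall_eq 0 fun v => by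
    obtain ⟨w, rfl⟩ := CFHR.stalk_surjective_of_epi (cokernel.π θ) (genericPoint X) v
    obtain ⟨a, rfl⟩ := hθ w
    rw [← stalk_comp, cokernel.condition, stalk_zero])
  have hd := dim_lt_generic hX hC hnot
  obtain ⟨R, hR, rfl⟩ := EulerLib.hilb_mono k hL θ hF hG hP hQ
  have h0 : alpha 2 R = 0 := EulerLib.alpha_eq_zero_of_dim_lt k hL.1 hC hR hd
  have h1 : 0 ≤ alpha 1 R := EulerLib.alpha_pred_nonneg k hL hC hd.le hR h0
  simp only [alpha, coeff_add, mul_add] at h0 h1 ⊢
  constructor <;> linarith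

include k in
/-- A finite closed set has dimension zero. -/
theorem dim_le_zero_of_finite {S : Set X} (hS : IsClosed S) (hf : S.Finite) :
    topologicalKrullDim S ≤ ((0 : ℕ) : WithBot ℕ∞) := by
  haveI : JacobsonSpace X := LocallyOfFiniteType.jacobsonSpace (X ↘ Spec (CommRingCat.of k))
  haveI : JacobsonSpace S := JacobsonSpace.of_isClosedEmbedding hS.isClosedEmbedding_subtypeVal
  haveI := hf.to_subtype
  exact (topologicalKrullDim_zero_of_discreteTopology S).trans_eq Nat.cast_zero.symm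

omit [X.Over (Spec (CommRingCat.of k))] [IsProper (X ↘ Spec (CommRingCat.of k))] in
theorem exists_ne_zero_generic [IsLocallyNoetherian X] {d : ℕ} (hX : topologicalKrullDim X = d) {F : X.Modules}
    (hF : Coh.IsCoh F) (hp : ShStab.IsPure X F d) (h0 : ¬ IsZero F) :
    ∃ v : F.presheaf.stalk (genericPoint X), v ≠ 0 := by
  by_contra h
  push Not at h
  exact (dim_lt_generic hX hF fun hs => hs (subsingleton_of_forall_eq 0 h)).ne (hp F (𝟙 F) inferInstance hF h0)

variable {n : ℕ} (ι : X ⟶ CohB1.ProjSpace n k)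

/-- An extension of a twisted ideal of points by `O` without destabilising sections is slope stable. -/
theorem isMuStable_of_presentation (hA : CohB1.IsAmple (T k ι 1)) (hX : topologicalKrullDim X = ((2 : ℕ) : WithBot ℕ∞))
    (hnormal : Pi1.IsNormalScheme X) (hreg : ∀ x : X, IsRegularLocalRing (X.presheaf.stalk x))
    (d : ℕ) (hd : 2 ≤ d) (hPic : ∀ M : X.Modules, PicF.IsInvertible M → ∃ a : ℤ, Nonempty (M ≅ T k ι a))
    (Z : X.IdealSheafData) (hZfin : (Z.support : Set X).Finite)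
    (hZ : Subsingleton (Coh.HH X (CohB1.tensorMod (ClSub.idealMod Z) (T k ι ((d : ℤ) - 2))) 0))
    (S : ShortComplex X.Modules) (hS : S.ShortExact) (e₁ : S.X₁ ≅ Coh.structureModule X)
    (e₃ : S.X₃ ≅ CohB1.tensorMod (ClSub.idealMod Z) (T k ι ((d : ℤ) - 1)))
    (hE : FlatMod.IsFinLocFreeOfRank 2 S.X₂) :
    ShStab.IsMuStable k X (T k ι 1) S.X₂ 2 := by
  classical
  haveI := EulerLib.isNoetherian_of_proper k (X := X)
  haveI := hS.mono_f
  haveI := hS.epi_g
  have hufd : ∀ x : X, UniqueFactorizationMonoid (X.presheaf.stalk x) := fun x =>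
    haveI := hreg x
    CAlgH3.ufm_of_regular _
  have hI : ∀ a : ℤ, PicF.IsInvertible (T k ι a) := isInvertible_T k ι
  have hc : ∀ a : ℤ, Coh.IsCoh (T k ι a) := fun a => CurveRR24.isCoh_of_isInvertible k (hI a)
  have hEc : Coh.IsCoh S.X₂ := CohBC.isCoh_of_isFinLocFree (VarietyLib.isFinLocFree_of_rank hE)
  have hrefl : ∀ {M : X.Modules}, Coh.IsCoh M → FlatMod.IsFinLocFree M →
      (∀ x : X, RefHull.IsReflexiveAt M x) ∧ ShStab.IsPure X M 2 := fun {M} hM hf => by
    have h := (RefHullLib.isReflexive_iff_isFinLocFree_of_dim_le_two hreg hX.le hM).2 hf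
    exact ⟨h, EulerLib.isPure_of_isReflexive ((RefHullLib.isReflexive_iff_stalks hM).2 h) hX⟩
  obtain ⟨hEr, hEp⟩ := hrefl hEc (VarietyLib.isFinLocFree_of_rank hE)
  have hTp : ∀ a : ℤ, ShStab.IsPure X (T k ι a) 2 := fun a =>
    (hrefl (hc a) (VarietyLib.isFinLocFree_of_rank (PicLib.isFinLocFreeOfRank_one (hI a)))).2
  have hO := isCoh_structureModule X
  have hOp : ShStab.IsPure X (Coh.structureModule X) 2 :=
    (hrefl hO (VarietyLib.isFinLocFree_of_rank KModel28.rank_structure)).2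
  have h₁c : Coh.IsCoh S.X₁ := isCoh_iso e₁.symm hO
  have hI3 : Coh.IsCoh (CohB1.tensorMod (ClSub.idealMod Z) (T k ι ((d : ℤ) - 1))) :=
    VarietyLib.isCoh_tensor' (CurveRR24.isCoh_idealMod' Z) (hc _)
  have h₃c : Coh.IsCoh S.X₃ := isCoh_iso e₃.symm hI3
  -- the inclusion of the quotient in a line bundle
  have hT1 := TreeGG.shortExact_tensor_right (CurveRR24.shortExact_ideal Z)
    (VarietyLib.isFinLocFree_of_rank (PicLib.isFinLocFreeOfRank_one (hI ((d : ℤ) - 1))))
  haveI := hT1.mono_f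
  let incl : S.X₃ ⟶ T k ι ((d : ℤ) - 1) :=
    (e₃.hom ≫ (DCoh.tensorRightMod (T k ι ((d : ℤ) - 1))).map (ClSub.idealModι Z)) ≫ (unitTensorIso _).hom
  haveI hincl : Mono incl := by
    haveI : Mono ((DCoh.tensorRightMod (T k ι ((d : ℤ) - 1))).map (ClSub.idealModι Z)) := hT1.mono_f
    infer_instance
  -- Hilbert polynomials
  let L := T k ι 1
  let P₀ := EulerLib.hp k hA _ hO
  have hP₀ : ShStab.IsHilbPoly k X L (Coh.structureModule X) P₀ := EulerLib.isHilbPoly_hp k hA _ hO
  have hneO : ¬ IsZero (Coh.structureModule X) := not_isZero_invertible isInvertible_structureModule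
  have ha₀ : 0 < alpha 2 P₀ := EulerLib.alpha_pos_self k hA hO hneO hOp hP₀
  have hTd := alpha_T k ι hA hX.le ((d : ℤ) - 1) hP₀ (EulerLib.isHilbPoly_hp k hA _ (hc ((d : ℤ) - 1)))
  have hQ : alpha 2 (EulerLib.hp k hA _ hI3) = alpha 2 P₀ ∧
      alpha 1 (EulerLib.hp k hA _ hI3) = alpha 1 P₀ + ((d : ℚ) - 1) * alpha 2 P₀ := by
    let Q := CohB1.tensorMod (ClSub.quotMod Z) (T k ι ((d : ℤ) - 1))
    have hQc : Coh.IsCoh Q := VarietyLib.isCoh_tensor' (CurveRR24.isCoh_quotMod Z) (hc _)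
    have hT' : ShStab.IsHilbPoly k X L (CohB1.tensorMod (Coh.structureModule X) (T k ι ((d : ℤ) - 1)))
        (EulerLib.hp k hA _ (hc ((d : ℤ) - 1))) :=
      EulerLib.isHilbPoly_iso k (unitTensorIso _).symm (EulerLib.isHilbPoly_hp k hA _ _)
    have h := EulerLib.hilb_ses k hA hT1 hI3 (VarietyLib.isCoh_tensor' hO (hc _)) hQc
      (EulerLib.isHilbPoly_hp k hA _ hI3) hT' (EulerLib.isHilbPoly_hp k hA _ hQc)
    have hd0 : topologicalKrullDim (CohB1.support Q) ≤ ((0 : ℕ) : WithBot ℕ∞) :=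
      (EulerLib.dim_mono ((support_twist (hI _) (ClSub.quotMod Z)).subset.trans (CurveRR24.support_quotMod_subset Z))).trans
        (dim_le_zero_of_finite k Z.support.isClosed hZfin)
    have q2 : alpha 2 (EulerLib.hp k hA _ hQc) = 0 :=
      EulerLib.alpha_eq_zero_of_dim_lt k hA.1 hQc (EulerLib.isHilbPoly_hp k hA _ hQc)
        (hd0.trans_lt (by norm_num))
    have q1 : alpha 1 (EulerLib.hp k hA _ hQc) = 0 :=
      EulerLib.alpha_eq_zero_of_dim_lt k hA.1 hQc (EulerLib.isHilbPoly_hp k hA _ hQc)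
        (hd0.trans_lt (by norm_num))
    have t := hTd
    rw [h] at t
    simp only [alpha, coeff_add, mul_add] at t q1 q2 ⊢
    push_cast at t
    constructor <;> linarith [t.1, t.2]
  have hPE : ∀ pE : ℚ[X], ShStab.IsHilbPoly k X L S.X₂ pE →
      alpha 2 pE = 2 * alpha 2 P₀ ∧ alpha 1 pE = 2 * alpha 1 P₀ + ((d : ℚ) - 1) * alpha 2 P₀ := fun pE hp => by
    rw [EulerLib.hilb_ses k hA hS h₁c hEc h₃c (EulerLib.isHilbPoly_iso k e₁.symm hP₀) hp
      (EulerLib.isHilbPoly_iso k e₃.symm (EulerLib.isHilbPoly_hp k hA _ hI3))]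
    simp only [alpha, coeff_add, mul_add] at hQ ⊢
    constructor <;> linarith [hQ.1, hQ.2]
  have hEne : ¬ IsZero S.X₂ := fun h => hneO (((IsZero.of_mono S.f h)).of_iso e₁.symm)
  refine ⟨hEc, hEne, hEp S.X₂ (𝟙 _) inferInstance hEc hEne, fun G i _ hG hdim => ?_, ?_⟩
  · by_cases hz : IsZero G
    · rw [Set.subset_empty_iff.1 (Coherent.support_of_isZero hz ∅)] at hdim
      have hbot : topologicalKrullDim (∅ : Set X) = ⊥ := by
        haveI : IsEmpty (IrreducibleCloseds (∅ : Set X)) := ⟨fun A => A.2.1.elim fun a _ => a.2⟩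
        exact Order.krullDim_eq_bot
      rw [hbot, WithBot.bot_add] at hdim
      exact WithBot.bot_ne_coe hdim
    · rw [hEp G i inferInstance hG hz] at hdim
      exact absurd hdim (by norm_num)
  intro F i hi hF pF pE hpF hpE hpos hlt
  haveI := hi
  obtain ⟨hE2, hE1⟩ := hPE pE hpE
  have hFne : ¬ IsZero F := fun h => by
    rw [EulerLib.hilb_zero k hA h hpF] at hpos
    simp [alpha] at hpos
  have hFp : ShStab.IsPure X F 2 := EulerLib.isPure_of_mono hEp i
  obtain ⟨v, hv⟩ := exists_ne_zero_generic hX hF hFp hFne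
  -- it suffices to bound the slope by that of `O`
  have concl : alpha 2 pF = alpha 2 P₀ → alpha 1 pF ≤ alpha 1 P₀ → hatSlope 2 pF < hatSlope 2 pE := by
    intro h2 h1
    show alpha 1 pF / alpha 2 pF < alpha 1 pE / alpha 2 pE
    rw [h2, hE2, hE1, div_lt_div_iff₀ ha₀ (by linarith)]
    have hd' : (2 : ℚ) ≤ d := by exact_mod_cast hd
    nlinarith [mul_le_mul_of_nonneg_right h1 ha₀.le, mul_pos ha₀ ha₀]
  by_cases hφ : i ≫ S.g = 0
  · let j : F ⟶ Coh.structureModule X := hS.exact.lift i hφ ≫ e₁.hom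
    haveI : Mono (hS.exact.lift i hφ) := by
      haveI : Mono (hS.exact.lift i hφ ≫ S.f) := by rw [hS.exact.lift_f]; infer_instance
      exact mono_of_mono _ S.f
    obtain ⟨hb, -⟩ := generic_bijective isInvertible_structureModule j hv
    obtain ⟨h2, h1⟩ := alpha_le_of_generic k hA hX hF hO j hb.2 hpF hP₀
    exact concl h2 h1
  obtain ⟨M, p, m, w₁, w₂, hpm, hS₁, hS₂, ⟨eM⟩⟩ := Hyper24.exists_image_ses (i ≫ S.g)
  haveI := hS₁.epi_g
  haveI : Mono m := hS₂.mono_f
  have hM : Coh.IsCoh M := isCoh_iso eM.symm (EulerLib.isCoh_image (i ≫ S.g) hF h₃c)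
  have hMne : ¬ IsZero M := fun h => hφ (by rw [← hpm, h.eq_of_tgt p 0, Limits.zero_comp])
  have hMp : ShStab.IsPure X M 2 := EulerLib.isPure_of_mono (hTp ((d : ℤ) - 1)) (m ≫ incl)
  by_cases hK : ¬ IsZero (kernel (i ≫ S.g))
  · exfalso
    have hKc := Coherent.isCoh_kernel (i ≫ S.g) hF h₃c.1
    have hKp : ShStab.IsPure X (kernel (i ≫ S.g)) 2 := EulerLib.isPure_of_mono hFp (kernel.ι _)
    obtain ⟨w, hw⟩ := exists_ne_zero_generic hX hKc hKp hK
    have hz : (kernel.ι (i ≫ S.g) ≫ i) ≫ S.g = 0 := by rw [Category.assoc, kernel.condition]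
    let l := hS.exact.lift (kernel.ι (i ≫ S.g) ≫ i) hz
    haveI : Mono l := by
      haveI : Mono (l ≫ S.f) := by rw [hS.exact.lift_f]; infer_instance
      exact mono_of_mono _ S.f
    obtain ⟨hb, -⟩ := generic_bijective isInvertible_structureModule (l ≫ e₁.hom) hw
    obtain ⟨k2, -⟩ := alpha_le_of_generic k hA hX hKc hO (l ≫ e₁.hom) hb.2 (EulerLib.isHilbPoly_hp k hA _ hKc) hP₀
    obtain ⟨u, hu⟩ := exists_ne_zero_generic hX hM hMp hMne
    obtain ⟨hb', -⟩ := generic_bijective (hI ((d : ℤ) - 1)) (m ≫ incl) hu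
    obtain ⟨m2, -⟩ := alpha_le_of_generic k hA hX hM (hc _) (m ≫ incl) hb'.2 (EulerLib.isHilbPoly_hp k hA _ hM)
      (EulerLib.isHilbPoly_hp k hA _ (hc ((d : ℤ) - 1)))
    rw [EulerLib.hilb_ses k hA hS₁ hKc hF hM (EulerLib.isHilbPoly_hp k hA _ hKc) hpF (EulerLib.isHilbPoly_hp k hA _ hM)] at hlt
    have t := hTd.1
    simp only [alpha, coeff_add, mul_add] at hlt hE2 k2 m2 t ⊢
    linarith
  rw [not_not] at hK
  haveI : Mono (i ≫ S.g) := Preadditive.mono_of_isZero_kernel _ hK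
  let j : F ⟶ T k ι ((d : ℤ) - 1) := (i ≫ S.g) ≫ incl
  obtain ⟨-, hvb⟩ := generic_bijective (hI ((d : ℤ) - 1)) j hv
  -- the reflexive hull
  let θ := RefHull.bidualMap F
  have hθ : Function.Bijective (RefHull.stalkMapₗ θ (genericPoint X)) :=
    RefHullLib.bijective_stalk_bidualMap_genericPoint hF
  have hHc : Coh.IsCoh (RefHull.ddual F) := RefHullLib.isCoh_ddual hF
  haveI : Mono θ := mono_of_generic hX hF hHc.1 hFp θ hθ.1
  have hgen : RefHull.GenInvertible (RefHull.ddual F) := by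
    refine RefHullLib.genInvertible_of_bijective_genericPoint hHc (RefHull.stalkMapₗ θ _ v) ?_
    have he : (fun a : X.presheaf.stalk (genericPoint X) => a • RefHull.stalkMapₗ θ (genericPoint X) v) =
        RefHull.stalkMapₗ θ (genericPoint X) ∘ fun a => a • v := funext fun a => (map_smul _ _ _).symm
    rw [he]
    exact hθ.comp hvb
  have hHi := RefHullLib.isInvertible_of_isReflexive_of_genInvertible hufd hHc (RefHullLib.isReflexiveAt_ddual hF) hgen
  obtain ⟨a, ⟨eH⟩⟩ := hPic _ hHi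
  obtain ⟨h2, h1⟩ := alpha_le_of_generic k hA hX hF hHc θ hθ.2 hpF (EulerLib.isHilbPoly_hp k hA _ hHc)
  have hH := alpha_T k ι hA hX.le a hP₀ (EulerLib.isHilbPoly_iso k eH (EulerLib.isHilbPoly_hp k hA _ hHc))
  by_cases ha : a ≤ 0
  · refine concl (h2.trans hH.1) (h1.trans (hH.2.trans_le ?_))
    have : (a : ℚ) ≤ 0 := by exact_mod_cast ha
    nlinarith
  exfalso
  push Not at ha
  obtain ⟨ψ, hψ⟩ := RefHullLib.exists_hom_of_genericMap (G := RefHull.ddual F) hnormal hEc hEr
    ((RefHull.stalkMapₗ i (genericPoint X)).comp (LinearEquiv.ofBijective (RefHull.stalkMapₗ θ _) hθ).symm.toLinearMap)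
    fun y hy w => by
      haveI := hreg y
      haveI := AssSch12.finite_stalk hF y
      haveI := AssSch12.finite_stalk hEc y
      haveI : Module.IsReflexive (X.presheaf.stalk y) (S.X₂.presheaf.stalk y) := hEr y
      have htf : Module.IsTorsionFree (X.presheaf.stalk y) (F.presheaf.stalk y) :=
        (CFHR.stalk_injective_of_mono i y).moduleIsTorsionFree _ fun r m => map_smul _ r m
      haveI := RefHullLib.free_of_torsionFree_of_dim_le_one (M := F.presheaf.stalk y) hy.le htf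
      have hbot : Submodule.torsion (X.presheaf.stalk y) (F.presheaf.stalk y) = ⊥ :=
        Submodule.isTorsionFree_iff_torsion_eq_bot.1 htf
      obtain ⟨w', rfl⟩ := RefHullLib.stalk_bidualMap_surjective hF y
        (Module.Free.of_equiv (Submodule.quotEquivOfEqBot _ hbot).symm) w
      refine ⟨RefHull.stalkMapₗ i y w', ?_⟩
      rw [RefHullLib.toGen_stalkMap, RefHullLib.toGen_stalkMap]
      exact congrArg (RefHull.stalkMapₗ i (genericPoint X))
        ((LinearEquiv.ofBijective (RefHull.stalkMapₗ θ _) hθ).symm_apply_apply _).symm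
  let ψ' : T k ι a ⟶ S.X₂ := eH.inv ≫ ψ
  have hψne : ψ' ≠ 0 := fun h => by
    have hψ0 : ψ = 0 := (cancel_epi eH.inv).1 (h.trans comp_zero.symm)
    have e := LinearMap.congr_fun hψ (RefHull.stalkMapₗ θ _ v)
    rw [hψ0, stalk_zero] at e
    apply hv
    apply CFHR.stalk_injective_of_mono i (genericPoint X)
    rw [map_zero]
    refine Eq.trans ?_ e.symm
    exact congrArg (RefHull.stalkMapₗ i (genericPoint X))
      ((LinearEquiv.ofBijective (RefHull.stalkMapₗ θ _) hθ).symm_apply_apply v).symm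
  have hmne : ∀ {A B : ℤ} (f : T k ι A ⟶ T k ι B), f ≠ 0 → Mono f := fun f hf =>
    Clifford24.mono_of_ne_zero k (hI _) (hI _) f hf
  by_cases hg0 : ψ' ≫ S.g = 0
  · let l := hS.exact.lift ψ' hg0 ≫ e₁.hom
    have hl : l ≠ 0 := fun h => hψne (by
      rw [← hS.exact.lift_f ψ' hg0, (cancel_mono e₁.hom).1 (h.trans Limits.zero_comp.symm), Limits.zero_comp])
    haveI : Mono l := Clifford24.mono_of_ne_zero k (hI a) isInvertible_structureModule l hl
    obtain ⟨u, hu⟩ := exists_ne_zero_generic hX (hc a) (hTp a) fun h => hψne (h.eq_of_src _ _)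
    obtain ⟨hb, -⟩ := generic_bijective isInvertible_structureModule l hu
    obtain ⟨-, l1⟩ := alpha_le_of_generic k hA hX (hc a) hO l hb.2 (EulerLib.isHilbPoly_hp k hA _ (hc a)) hP₀
    rw [(alpha_T k ι hA hX.le a hP₀ (EulerLib.isHilbPoly_hp k hA _ (hc a))).2] at l1
    have : (1 : ℚ) ≤ a := by exact_mod_cast ha
    nlinarith
  let ν : T k ι a ⟶ CohB1.tensorMod (ClSub.idealMod Z) (T k ι ((d : ℤ) - 1)) := (ψ' ≫ S.g) ≫ e₃.hom
  obtain ⟨σ, hσ⟩ := exists_ne_zero_T k ι (a - 1).toNat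
  obtain ⟨f₁⟩ := nonempty_T_add k ι (show ((a - 1).toNat : ℤ) + 1 = a by rw [Int.toNat_of_nonneg (by omega)]; ring)
  obtain ⟨e0⟩ := nonempty_T_zero k ι
  haveI : Mono σ := hσ
  haveI : Mono (AmpleLib.tensorMap σ (𝟙 (T k ι 1))) :=
    ParGP23.koszMap_eq σ (𝟙 _) ▸ EulerPn5.mono_tensorMap_flat σ
      (VarietyLib.isFinLocFree_of_rank (PicLib.isFinLocFreeOfRank_one (hI 1)))
  let τ : T k ι 1 ⟶ T k ι a := (unitTensorIso _).inv ≫ AmpleLib.tensorMap σ (𝟙 _) ≫ f₁.hom
  haveI : Mono τ := inferInstance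
  haveI : Mono ((ψ' ≫ S.g) ≫ incl) := hmne _ fun h => hg0 ((cancel_mono incl).1 (h.trans Limits.zero_comp.symm))
  haveI : Mono (ψ' ≫ S.g) := mono_of_mono _ incl
  have hne : τ ≫ ν ≠ 0 := fun h =>
    not_isZero_invertible (hI 1) ((IsZero.iff_id_eq_zero _).2 ((cancel_mono (τ ≫ ν)).1 (by simp [h])))
  obtain ⟨f₂⟩ := nonempty_T_add k ι (show (1 : ℤ) + (-1) = 0 by norm_num)
  obtain ⟨f₃⟩ := nonempty_T_add k ι (show ((d : ℤ) - 1) + (-1) = (d : ℤ) - 2 by ring)
  have hsub : Subsingleton (Coh.structureModule X ⟶ CohB1.tensorMod (ClSub.idealMod Z) (T k ι ((d : ℤ) - 2))) :=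
    (SerreDual.homUnitHH k _).toEquiv.subsingleton_congr.2 hZ
  refine hne (SerreDual.tensorRightHom_injective k _ _ (hI (-1)) ?_)
  rw [map_zero]
  let g := SerreDual.tensorRightHom k _ _ (T k ι (-1)) (τ ≫ ν)
  have hg := @Subsingleton.elim _ hsub (e0.inv ≫ f₂.inv ≫ g ≫
    (DCat.TensorAssoc.assocIso _ _ _).hom ≫ (AmpleLib.tensorIso (Iso.refl _) f₃).hom) 0
  exact (cancel_mono ((DCat.TensorAssoc.assocIso _ _ _).hom ≫ (AmpleLib.tensorIso (Iso.refl _) f₃).hom)).1
    (((cancel_epi f₂.inv).1 (((cancel_epi e0.inv).1 (hg.trans comp_zero.symm)).trans comp_zero.symm)).trans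
      Limits.zero_comp.symm)

end Groth.Agent.TFPush7.UlrichStab
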