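import Groth.Agent.TFNodal7.Main
import Groth.Agent.AssSch12.Primary
import Groth.Agent.EGA43.ConnFlat.Henselian
import Mathlib.RingTheory.Flat.FaithfullyFlat.Algebra

/-!
# The fibre of the normalisation over a node is reduced

An element of the semilocal ring `(π_* O)_x` vanishing at the points over a node `x` lies in `m_x`.
-/

set_option autoImplicit false
set_option linter.style.haveILetI false
set_option backward.isDefEq.respectTransparency false
set_option maxHeartbeats 1000000

universe u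

open CategoryTheory CategoryTheory.Limits AlgebraicGeometry Opposite TopologicalSpace IsLocalRing
open Groth.Agent.Coherent Groth.Agent.ModStalk Groth.Agent.ArtFunLib.QuotLift Groth.Agent.PicLib

noncomputable section

namespace Groth.Agent.TFPush7

open NormSeq24 (Cross toPair toPair_ne_zero_of_mem toPair_injective exists_toPair constantCoeff_toPair)

/-- Over a local ring with completion the cross, square roots in the fraction ring of elements of
the maximal ideal lie in the maximal ideal. -/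
theorem exists_mem_of_sq {K : Type u} [Field K] {A : Type u} [CommRing A] [IsLocalRing A] [IsNoetherianRing A]
    (e : AdicCompletion (maximalIdeal A) A ≃+* Cross K) {p t c : A} (ht : t ∈ nonZeroDivisors A)
    (hc : c ∈ maximalIdeal A) (h : p ^ 2 = c * t ^ 2) : ∃ q ∈ maximalIdeal A, p = t * q := by
  obtain ⟨hloc, -⟩ := EGA43.ConnFlat.exists_sub_mem_cpl A
  haveI := hloc
  haveI : Module.FaithfullyFlat A (AdicCompletion (maximalIdeal A) A) := Module.FaithfullyFlat.of_flat_of_isLocalHom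
  let f : A →+* PowerSeries K × PowerSeries K :=
    (toPair K).comp (e.toRingHom.comp (algebraMap A (AdicCompletion (maximalIdeal A) A)))
  -- elements of the maximal ideal have no constant term
  have hm : ∀ a ∈ maximalIdeal A,
      PowerSeries.constantCoeff (f a).1 = 0 ∧ PowerSeries.constantCoeff (f a).2 = 0 := fun a ha => by
    have hcc : PowerSeries.constantCoeff (f a).1 = PowerSeries.constantCoeff (f a).2 := constantCoeff_toPair _
    refine ⟨?_, hcc ▸ ?_⟩ <;>
    · by_contra hne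
      obtain ⟨z, hz⟩ := exists_toPair (K := K) (f := (f a).1⁻¹) (h := (f a).2⁻¹) (by
        rw [PowerSeries.constantCoeff_inv, PowerSeries.constantCoeff_inv, hcc])
      have hu : IsUnit (algebraMap A (AdicCompletion (maximalIdeal A) A) a) := by
        refine .of_mul_eq_one (e.symm z) (e.injective (toPair_injective ?_))
        rw [map_mul, e.apply_symm_apply, map_mul, hz, map_one, map_one]
        exact Prod.ext (PowerSeries.mul_inv_cancel _ hne) (PowerSeries.mul_inv_cancel _ (hcc ▸ hne))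
      exact (mem_maximalIdeal a).1 ha (isUnit_of_map_unit _ a hu)
  -- a regular element is nonzero on both branches
  have htn : IsSMulRegular (AdicCompletion (maximalIdeal A) A) (algebraMap A _ t) :=
    IsSMulRegular.of_flat fun x y hxy => (mem_nonZeroDivisors_iff_left.1 ht (x - y) (by rw [mul_sub]; exact sub_eq_zero.2 hxy)) |> sub_eq_zero.1
  have ht' : e (algebraMap A _ t) ∈ nonZeroDivisors (Cross K) := mem_nonZeroDivisors_iff_left.2 fun z hz => by
    refine e.symm.injective ((htn ?_).trans (map_zero e.symm).symm)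
    show algebraMap A _ t * e.symm z = algebraMap A _ t * 0
    rw [mul_zero, ← e.symm_apply_apply (algebraMap A _ t), ← map_mul, hz, map_zero]
  obtain ⟨ht1, ht2⟩ := toPair_ne_zero_of_mem ht'
  -- divide branch by branch
  have key : ∀ P T C : PowerSeries K, T ≠ 0 → PowerSeries.constantCoeff C = 0 → P ^ 2 = C * T ^ 2 →
      ∃ Q, P = T * Q ∧ PowerSeries.constantCoeff Q = 0 := fun P T C hT hC he => by
    obtain ⟨Q, hQ⟩ := (IsIntegrallyClosed.pow_dvd_pow_iff (two_ne_zero)).1
      (⟨C, he.trans (mul_comm _ _)⟩ : T ^ 2 ∣ P ^ 2)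
    refine ⟨Q, hQ, ?_⟩
    have hQC : Q ^ 2 = C := mul_left_cancel₀ (pow_ne_zero 2 hT) (by rw [← mul_pow, ← hQ, he, mul_comm])
    refine pow_eq_zero_iff two_ne_zero |>.1 ?_
    rw [← map_pow, hQC, hC]
  have hsq : f p ^ 2 = f c * f t ^ 2 := by rw [← map_pow, ← map_pow, ← map_mul, h]
  obtain ⟨Q₁, hQ₁, hQ₁0⟩ := key (f p).1 (f t).1 (f c).1 ht1 (hm c hc).1 (congrArg Prod.fst hsq)
  obtain ⟨Q₂, hQ₂, hQ₂0⟩ := key (f p).2 (f t).2 (f c).2 ht2 (hm c hc).2 (congrArg Prod.snd hsq)
  obtain ⟨z, hz⟩ := exists_toPair (hQ₁0.trans hQ₂0.symm)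
  have hp : algebraMap A (AdicCompletion (maximalIdeal A) A) p = algebraMap A _ t * e.symm z := by
    refine e.injective (toPair_injective ?_)
    rw [map_mul, e.apply_symm_apply, map_mul, hz]
    exact Prod.ext hQ₁ hQ₂
  have hmem : p ∈ Ideal.span {t} := by
    rw [← Ideal.comap_map_eq_self_of_faithfullyFlat (B := AdicCompletion (maximalIdeal A) A) (Ideal.span {t}),
      Ideal.mem_comap, Ideal.map_span, Set.image_singleton, Ideal.mem_span_singleton]
    exact ⟨_, hp⟩
  obtain ⟨q, rfl⟩ := Ideal.mem_span_singleton.1 hmem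
  refine ⟨q, ?_, rfl⟩
  have hq : algebraMap A (AdicCompletion (maximalIdeal A) A) q = e.symm z := htn (by
    show algebraMap A (AdicCompletion (maximalIdeal A) A) t * algebraMap A (AdicCompletion (maximalIdeal A) A) q =
      algebraMap A (AdicCompletion (maximalIdeal A) A) t * e.symm z
    rw [← map_mul]; exact hp)
  refine (mem_maximalIdeal q).2 fun hu => ?_
  have hu' := ((hu.map (algebraMap A (AdicCompletion (maximalIdeal A) A))).map e.toRingHom).map
    ((RingHom.fst _ _).comp (toPair K))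
  rw [hq, RingEquiv.toRingHom_eq_coe, RingEquiv.coe_toRingHom, e.apply_symm_apply, RingHom.comp_apply, hz] at hu'
  exact absurd (PowerSeries.isUnit_constantCoeff _ hu') (by rw [show (RingHom.fst _ _ (Q₁, Q₂)) = Q₁ from rfl, hQ₁0]; simp)

end Groth.Agent.TFPush7

namespace Groth.Agent.TFPush7

open TFNodal7

section Gen

variable {X Y : Scheme.{u}} (π : Y ⟶ X)

/-- The germ in `(π_* O)_x` of a function upstairs. -/
abbrev rG {x : X} {V : X.Opens} (hx : x ∈ V) (b : Γ(Y, π ⁻¹ᵁ V)) : St (pushO π) x :=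
  NormSeq24.germP π hx b

theorem rG_smul {x : X} {V : X.Opens} (hx : x ∈ V) (a : Γ(X, V)) (b : Γ(Y, π ⁻¹ᵁ V)) :
    X.presheaf.germ V x hx a • rG π hx b = rG π hx (π.app V a * b) :=
  NormSeq24.germP_smul π hx a b

theorem rG_res {x : X} {V W : X.Opens} (h : W ≤ V) (hx : x ∈ W) (b : Γ(Y, π ⁻¹ᵁ V)) :
    rG π hx (Y.presheaf.map (homOfLE (π.preimage_mono h)).op b) = rG π (h hx) b :=
  NormSeq24.germP_res π h hx b

theorem oneMap_germ {x : X} {V : X.Opens} (hx : x ∈ V) (a : Γ(X, V)) :
    oneMap π x (X.presheaf.germ V x hx a) = rG π hx (π.app V a) := by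
  show X.presheaf.germ V x hx a • oneSt π x = _
  rw [show oneSt π x = rG π hx 1 from
    ((congrArg (rG π hx) (map_one (Y.presheaf.map (homOfLE (π.preimage_mono (le_top : V ≤ ⊤))).op).hom)).symm.trans
      (rG_res π (le_top : V ≤ ⊤) hx _)).symm, rG_smul, mul_one]

/-- The unit map is multiplicative on germs. -/
theorem oneMap_mul {x : X} {V : X.Opens} (hx : x ∈ V) {a c : X.presheaf.stalk x} {b₁ b₂ : Γ(Y, π ⁻¹ᵁ V)}
    (h₁ : oneMap π x a = rG π hx b₁) (h₂ : oneMap π x c = rG π hx b₂) :
    oneMap π x (a * c) = rG π hx (b₁ * b₂) := by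
  obtain ⟨O, hxO, c₀, rfl⟩ := X.presheaf.exists_germ_eq c
  let W₀ : X.Opens := O ⊓ V
  have hxW₀ : x ∈ W₀ := ⟨hxO, hx⟩
  rw [← TopCat.Presheaf.germ_res_apply X.presheaf (homOfLE (inf_le_left : W₀ ≤ O)) x hxW₀, oneMap_germ,
    ← rG_res π (inf_le_right : W₀ ≤ V) hxW₀ b₂] at h₂
  obtain ⟨W, hW, -, hxW, e⟩ := NormSeq24.germP_eq π hxW₀ _ _ h₂
  rw [← TopCat.Presheaf.germ_res_apply X.presheaf (homOfLE (inf_le_left : W₀ ≤ O)) x hxW₀,
    ← TopCat.Presheaf.germ_res_apply X.presheaf (homOfLE hW) x hxW, mul_comm a, ← smul_eq_mul, map_smul, h₁,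
    ← rG_res π (hW.trans inf_le_right : W ≤ V) hxW b₁, rG_smul, NormSeq24.app_res π hW, e, NormSeq24.res_res,
    ← map_mul, rG_res π (hW.trans inf_le_right : W ≤ V) hxW, mul_comm]

end Gen

variable (k : Type u) [Field k] [IsAlgClosed k] {X : Scheme.{u}} [X.Over (Spec (CommRingCat.of k))]
  [IsProper (X ↘ Spec (CommRingCat.of k))] [ConnectedSpace X] (hdim : topologicalKrullDim X = 1)
  (hnod : Curv2.AtWorstNodal k X) {Y : Scheme.{u}} (π : Y ⟶ X) [IsFinite π]
  [Smooth (π ≫ (X ↘ Spec (CommRingCat.of k)))] {U : X.Opens}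
  (hU : ∀ x : X, x ∈ U ↔ ¬ Curv2.IsNode k X x) (hUiso : IsIso (π ∣_ U))
  (hUd : Dense ((π ⁻¹ᵁ U : Y.Opens) : Set Y))

omit [ConnectedSpace X] in
/-- The completion of the local ring at a node is the cross. -/
theorem exists_cross {x : X} (hx : Curv2.IsNode k X x) :
    Nonempty (AdicCompletion (maximalIdeal (X.presheaf.stalk x)) (X.presheaf.stalk x) ≃+* NormSeq24.Cross k) := by
  letI := Curv2.stalkAlgebra k X x
  letI := Curv2.resAlgebra k X x
  obtain ⟨hcl, -, u, v, a, b, c, hd⟩ := (NodeLib7.isNode_iff k X x).1 hx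
  haveI := NodeLib7.isNoetherianRing_stalk k X x
  haveI := (NodeLib7.isClosed_iff_finite k X x).1 hcl
  obtain ⟨e, -⟩ := NodeLib7.exists_split_equiv (algebraMap k (X.presheaf.stalk x))
    (IsAlgClosed.algebraMap_bijective_of_isIntegral (k := k) (K := ResidueField (X.presheaf.stalk x))) hd
  exact ⟨e⟩

include hdim hnod hU hUiso hUd in
/-- A section of `π_* O` near a node whose square lies in `m_x` lies in `m_x`. -/
theorem pGerm_mem_of_sq {x : X} (hx : Curv2.IsNode k X x) {V : X.Opens} (hxV : x ∈ V)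
    (s : Γ(Y, π ⁻¹ᵁ V))
    (h : rG π hxV (s * s) ∈ Submodule.map (oneMap π x) (maximalIdeal (X.presheaf.stalk x))) :
    rG π hxV s ∈ Submodule.map (oneMap π x) (maximalIdeal (X.presheaf.stalk x)) := by
  obtain ⟨hA, hcot, t, ht, htn⟩ := node_facts k hdim hnod hU hx
  haveI := finite_pushO k π x
  have hφ := oneMap_injective k hdim hnod π hU hUd hUiso x
  have hmM := smul_top_eq (oneMap π x) hφ (length_quot_oneMap k hdim hnod π hU hUd hUiso hx) hcot
  obtain ⟨e⟩ := exists_cross k hx
  obtain ⟨c, hc, hc'⟩ := h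
  have h1 : t • rG π hxV s ∈
      maximalIdeal (X.presheaf.stalk x) • (⊤ : Submodule (X.presheaf.stalk x) (St (pushO π) x)) :=
    Submodule.smul_mem_smul ht trivial
  rw [hmM] at h1
  obtain ⟨p, hp, hp'⟩ := h1
  have hsq : p ^ 2 = c * t ^ 2 := by
    obtain ⟨O, hxO, t₀, rfl⟩ := X.presheaf.exists_germ_eq t
    let W : X.Opens := O ⊓ V
    have hxW : x ∈ W := ⟨hxO, hxV⟩
    rw [← TopCat.Presheaf.germ_res_apply X.presheaf (homOfLE (inf_le_left : W ≤ O)) x hxW] at hp' ⊢
    rw [← rG_res π (inf_le_right : W ≤ V) hxW] at hp' hc'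
    generalize X.presheaf.map (homOfLE (inf_le_left : W ≤ O)).op t₀ = t₁ at hp' ⊢
    rw [map_mul] at hc'
    generalize Y.presheaf.map (homOfLE (π.preimage_mono (inf_le_right : W ≤ V))).op s = s₀ at hp' hc'
    rw [rG_smul] at hp'
    refine hφ ((congrArg (oneMap π x) (sq p)).trans ((oneMap_mul π hxW hp' hp').trans ?_))
    rw [mul_comm c]
    refine Eq.trans ?_ ((oneMap π x).map_smul (_ ^ 2) c).symm
    rw [hc', ← map_pow, rG_smul, map_pow]
    exact congrArg (rG π hxW) (by ring)
  obtain ⟨q, hq, rfl⟩ := exists_mem_of_sq e htn hc hsq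
  refine ⟨q, hq, ?_⟩
  have h0 : t • (rG π hxV s - oneMap π x q) = 0 := by
    rw [smul_sub, ← map_smul, smul_eq_mul, hp', sub_self]
  exact (sub_eq_zero.1 (TFNodal7.eq_zero_of_smul k hdim hnod π hU hUiso hUd (E := Coh.structureModule Y) (r := 1)
    (PicLib.isFinLocFreeOfRank_one AmpleLib.isInvertible_structureModule) htn _ h0)).symm

include hdim hnod hU hUiso hUd in
/-- A section near a node vanishing at all points over it lies in `m_x`. -/
theorem pGerm_mem_of_vanish {x : X} (hx : Curv2.IsNode k X x) {V : X.Opens} (hV : IsAffineOpen V) (hxV : x ∈ V)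
    (s : Γ(Y, π ⁻¹ᵁ V))
    (h : ∀ (y : Y) (hy : π.base y = x),
      Y.presheaf.germ (π ⁻¹ᵁ V) y (show π.base y ∈ V from hy ▸ hxV) s ∈ maximalIdeal (Y.presheaf.stalk y)) :
    rG π hxV s ∈
      Submodule.map (oneMap π x) (maximalIdeal (X.presheaf.stalk x)) := by
  let N : Submodule (X.presheaf.stalk x) (St (pushO π) x) :=
    Submodule.map (oneMap π x) (maximalIdeal (X.presheaf.stalk x))
  let G : Γ(Y, π ⁻¹ᵁ V) → St (pushO π) x := fun b => rG π hxV b
  obtain ⟨hA, hcot, -⟩ := node_facts k hdim hnod hU hx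
  haveI := finite_pushO k π x
  have hmM := smul_top_eq (oneMap π x) (oneMap_injective k hdim hnod π hU hUd hUiso x)
    (length_quot_oneMap k hdim hnod π hU hUd hUiso hx) hcot
  -- the extended prime lands in `m_x`
  have hI : ∀ b ∈ (AssSch12.primeAt hV hxV).map (π.app V).hom, G b ∈ N := fun b hb => by
    suffices H : ∀ b' : Γ(Y, π ⁻¹ᵁ V), G (b' * b) ∈ N by simpa using H 1
    refine Submodule.span_induction ?_ ?_ ?_ ?_ hb
    · rintro _ ⟨c, hc, rfl⟩ b'
      have : G (b' * π.app V c) = X.presheaf.germ V x hxV c • G b' := by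
        show rG π hxV _ = X.presheaf.germ V x hxV c • rG π hxV _
        rw [rG_smul, mul_comm]
      show G (b' * π.app V c) ∈ N
      rw [this]
      show _ ∈ N
      simp only [N]
      rw [← hmM]
      exact Submodule.smul_mem_smul ((AssSch12.germ_mem_maximalIdeal_iff hV hxV c).2 hc) trivial
    · intro b'
      rw [mul_zero]
      exact (show G 0 = 0 from map_zero _) ▸ zero_mem N
    · intro a₁ a₂ _ _ h₁ h₂ b'
      rw [mul_add, show G (b' * a₁ + b' * a₂) = G (b' * a₁) + G (b' * a₂) from map_add _ _ _]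
      exact add_mem (h₁ b') (h₂ b')
    · intro a b₀ _ h₀ b'
      rw [smul_eq_mul, ← mul_assoc]
      exact h₀ (b' * a)
  -- `s` lies in the radical
  have hrad : s ∈ ((AssSch12.primeAt hV hxV).map (π.app V).hom).radical := by
    rw [Ideal.radical_eq_sInf, Submodule.mem_sInf]
    rintro P ⟨hle, hP⟩
    let y := (hV.preimage π).fromSpec ⟨P, hP⟩
    have hyV : y ∈ π ⁻¹ᵁ V := (hV.preimage π).range_fromSpec.le ⟨_, rfl⟩
    have hP' : AssSch12.primeAt (hV.preimage π) hyV = P := AssSch12.primeAt_fromSpec _ _ hyV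
    have hπy : π.base y = x := by
      refine Eq.symm (Eq.symm ?_)
      have hsp : x ⤳ π.base y := (AssSch12.specializes_iff hV hxV hyV).2 fun c hc => by
        rw [AssSch12.mem_primeAt_iff]
        intro hc'
        have h1 : π.app V c ∈ AssSch12.primeAt (hV.preimage π) hyV := hP'.symm ▸ hle (Ideal.mem_map_of_mem _ hc)
        rw [AssSch12.mem_primeAt_iff, ← Scheme.preimage_basicOpen] at h1
        exact h1 hc'
      have := hsp.mem_closed hx.1 rfl
      exact this
    rw [← hP', ← AssSch12.germ_mem_maximalIdeal_iff (hV.preimage π) hyV]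
    exact h y hπy
  obtain ⟨n, hn⟩ := hrad
  -- descend along squares
  have hpow : ∀ j : ℕ, G (s ^ 2 ^ j) ∈ N → G s ∈ N := fun j => by
    induction j with
    | zero => intro hj; simpa using hj
    | succ j ih =>
      intro hj
      refine ih (pGerm_mem_of_sq k hdim hnod π hU hUiso hUd hx hxV _ ?_)
      rwa [← sq, ← pow_mul, ← pow_succ]
  refine hpow n ?_
  have : s ^ 2 ^ n = s ^ (2 ^ n - n) * s ^ n := by
    rw [← pow_add, Nat.sub_add_cancel n.lt_two_pow_self.le]
  rw [this]
  exact hI _ (Ideal.mul_mem_left _ _ hn)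

end Groth.Agent.TFPush7
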