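import Groth.Agent.ArtFunLib.QuotLift.StalkUnit
import Groth.Agent.OmegaLib.StalkCompat
import Groth.Agent.EGA43.InjFibre.Restriction
import Groth.Agent.Formal2Lib.KPow
import Groth.Agent.TFPush7.StalkSub
import Mathlib.AlgebraicGeometry.AlgClosed.Basic

/-!
# The fibre of an inverse image at a point with trivial residue extension
-/

set_option autoImplicit false
set_option linter.style.haveILetI false
set_option backward.isDefEq.respectTransparency false
set_option maxHeartbeats 1000000

universe u

open CategoryTheory CategoryTheory.Limits AlgebraicGeometry Opposite TopologicalSpace IsLocalRing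
open Groth.Agent.Coherent Groth.Agent.ModStalk Groth.Agent.ArtFunLib.QuotLift
open scoped TensorProduct

noncomputable section

namespace Groth.Agent.TFPush7

variable {X Y : Scheme.{u}} (π : Y ⟶ X) (y : Y)

/-- The unit on stalks sends a germ to the germ of the pulled back section. -/
theorem unitSt_germ (G : X.Modules) (U : X.Opens) (hx : π.base y ∈ U) (a : Γ(G, U)) :
    unitSt π y G (germP (π.base y) (DCoh.toP.obj G) U hx a) =
      germP y (DCoh.toP.obj ((Scheme.Modules.pullback π).obj G)) (π ⁻¹ᵁ U) hx (PicLib.pullSec π a) := by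
  refine (ConcreteCategory.bijective_of_isIso ((ModStalk.pullbackStalkIso π y).hom.app G)).1 ?_
  refine Eq.trans ?_ (DCat.PullTensor.pullbackStalk_germ π y G U hx a).symm
  exact ConcreteCategory.congr_hom ((ModStalk.pullbackStalkIso π y).inv_hom_id_app G) _

/-- The stalk of an inverse image is generated by the unit. -/
theorem span_range_unitSt (G : X.Modules) :
    Submodule.span (Y.presheaf.stalk y) (Set.range (unitSt π y G)) = ⊤ := by
  letI := (π.stalkMap y).hom.toAlgebra
  refine eq_top_iff.2 fun z _ => ?_
  let I : (ModuleCat.extendScalars (π.stalkMap y).hom).obj (St G (π.base y)) →ₗ[Y.presheaf.stalk y]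
      St ((Scheme.Modules.pullback π).obj G) y := ((ModStalk.pullbackStalkIso π y).inv.app G).hom
  have hI : Function.Surjective I :=
    (ConcreteCategory.bijective_of_isIso ((ModStalk.pullbackStalkIso π y).inv.app G)).2
  obtain ⟨w, rfl⟩ := hI z
  change (Y.presheaf.stalk y) ⊗[X.presheaf.stalk (π.base y)] (St G (π.base y)) at w
  suffices h : I w ∈ Submodule.span (Y.presheaf.stalk y) (Set.range (unitSt π y G)) from h
  induction w using TensorProduct.induction_on with
  | zero => exact (show I 0 = 0 from map_zero I).symm ▸ zero_mem _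
  | tmul b g =>
    have h : b ⊗ₜ[X.presheaf.stalk (π.base y)] g = b • ((1 : Y.presheaf.stalk y) ⊗ₜ g) := by
      rw [TensorProduct.smul_tmul', smul_eq_mul, mul_one]
    rw [h]
    have h' : I (b • ((1 : Y.presheaf.stalk y) ⊗ₜ g)) = b • unitSt π y G g := I.map_smul b _
    rw [h']
    exact Submodule.smul_mem _ b (Submodule.subset_span ⟨g, rfl⟩)
  | add a b ha hb =>
    have h' : I (a + b) = I a + I b := map_add I a b
    rw [h']
    exact add_mem (ha trivial) (hb trivial)

/-- Modulo the maximal ideal the unit is surjective when the residue extension is trivial. -/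
theorem exists_sub_unitSt_mem (hres : ∀ b : Y.presheaf.stalk y, ∃ c : X.presheaf.stalk (π.base y),
      b - (π.stalkMap y).hom c ∈ maximalIdeal (Y.presheaf.stalk y))
    (G : X.Modules) (z : St ((Scheme.Modules.pullback π).obj G) y) :
    ∃ g : St G (π.base y), z - unitSt π y G g ∈
      maximalIdeal (Y.presheaf.stalk y) • (⊤ : Submodule (Y.presheaf.stalk y) (St ((Scheme.Modules.pullback π).obj G) y)) := by
  have hz := (span_range_unitSt π y G).symm ▸ (Submodule.mem_top : z ∈ (⊤ : Submodule (Y.presheaf.stalk y) _))
  induction hz using Submodule.span_induction with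
  | mem z hz => obtain ⟨g, rfl⟩ := hz; exact ⟨g, by rw [sub_self]; exact zero_mem _⟩
  | zero => exact ⟨0, by rw [map_zero, sub_self]; exact zero_mem _⟩
  | add a b _ _ ha hb =>
    obtain ⟨g, hg⟩ := ha
    obtain ⟨g', hg'⟩ := hb
    exact ⟨g + g', by rw [map_add, add_sub_add_comm]; exact add_mem hg hg'⟩
  | smul b a _ ha =>
    obtain ⟨g, hg⟩ := ha
    obtain ⟨c, hc⟩ := hres b
    refine ⟨c • g, ?_⟩
    rw [unitSt_smul, show b • a - (π.stalkMap y).hom c • unitSt π y G g =
      b • (a - unitSt π y G g) + (b - (π.stalkMap y).hom c) • unitSt π y G g by rw [smul_sub, sub_smul]; abel]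
    exact add_mem (Submodule.smul_mem _ b hg) (Submodule.smul_mem_smul hc trivial)

/-- The line of a submodule upstairs. -/
def upSub (G : X.Modules) (N : Submodule (X.presheaf.stalk (π.base y)) (St G (π.base y))) :
    Submodule (Y.presheaf.stalk y) (St ((Scheme.Modules.pullback π).obj G) y) :=
  Submodule.span (Y.presheaf.stalk y) (unitSt π y G '' N) ⊔ maximalIdeal (Y.presheaf.stalk y) • ⊤

theorem smul_top_le_upSub (G : X.Modules) (N : Submodule (X.presheaf.stalk (π.base y)) (St G (π.base y))) :
    maximalIdeal (Y.presheaf.stalk y) • (⊤ : Submodule (Y.presheaf.stalk y) _) ≤ upSub π y G N :=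
  le_sup_right

/-- The line upstairs meets the unit in the submodule. -/
theorem unitSt_mem_upSub_iff (G : X.Modules) (N : Submodule (X.presheaf.stalk (π.base y)) (St G (π.base y)))
    (hN : maximalIdeal (X.presheaf.stalk (π.base y)) • (⊤ : Submodule (X.presheaf.stalk (π.base y)) (St G (π.base y))) ≤ N)
    (g : St G (π.base y)) : unitSt π y G g ∈ upSub π y G N ↔ g ∈ N := by
  refine ⟨fun hg => ?_, fun hg => Submodule.mem_sup_left (Submodule.subset_span ⟨g, hg, rfl⟩)⟩
  by_contra hgN
  let A := X.presheaf.stalk (π.base y)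
  let B := Y.presheaf.stalk y
  -- a functional on `G_x / N` over the residue field
  have htor : Module.IsTorsionBySet A (St G (π.base y) ⧸ N) (maximalIdeal A : Set A) := fun q ⟨r, hr⟩ => by
    obtain ⟨v, rfl⟩ := Submodule.Quotient.mk_surjective _ q
    exact (Submodule.Quotient.mk_eq_zero _).2 (hN (Submodule.smul_mem_smul hr trivial))
  letI : Module (A ⧸ maximalIdeal A) (St G (π.base y) ⧸ N) := htor.module
  letI : Module (ResidueField A) (St G (π.base y) ⧸ N) := htor.module
  haveI : IsScalarTower A (ResidueField A) (St G (π.base y) ⧸ N) := IsScalarTower.of_algebraMap_smul fun r q => rfl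
  obtain ⟨f, hf⟩ := Module.Projective.exists_dual_ne_zero (ResidueField A)
    (show (Submodule.Quotient.mk g : St G (π.base y) ⧸ N) ≠ 0 from fun h => hgN ((Submodule.Quotient.mk_eq_zero _).1 h))
  letI : Algebra A B := (π.stalkMap y).hom.toAlgebra
  let κ : ResidueField A →+* ResidueField B := ResidueField.map (π.stalkMap y).hom
  let l : St G (π.base y) →ₗ[A] ResidueField B :=
    { toFun := fun v => κ (f (Submodule.Quotient.mk v))
      map_add' := fun v w => by rw [Submodule.Quotient.mk_add, map_add, map_add]
      map_smul' := fun r v => by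
        rw [Submodule.Quotient.mk_smul, ← IsScalarTower.algebraMap_smul (ResidueField A) r, map_smul, smul_eq_mul,
          map_mul, RingHom.id_apply, ← IsScalarTower.algebraMap_smul B r, Algebra.smul_def]
        rfl }
  let E : St ((Scheme.Modules.pullback π).obj G) y →ₗ[B] B ⊗[A] St G (π.base y) :=
    ((ModStalk.pullbackStalkIso π y).hom.app G).hom
  let Λ : St ((Scheme.Modules.pullback π).obj G) y →ₗ[B] ResidueField B := (LinearMap.liftBaseChange B l).comp E
  have hΛ : ∀ v, Λ (unitSt π y G v) = l v := fun v => by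
    have h1 : E (unitSt π y G v) = (1 : B) ⊗ₜ[A] v :=
      ConcreteCategory.congr_hom ((ModStalk.pullbackStalkIso π y).inv_hom_id_app G) _
    show LinearMap.liftBaseChange B l (E (unitSt π y G v)) = _
    rw [h1, LinearMap.liftBaseChange_tmul, one_smul]
  have hker : upSub π y G N ≤ LinearMap.ker Λ := sup_le
    (Submodule.span_le.2 fun z ⟨v, hv, hz⟩ => by
      rw [← hz, SetLike.mem_coe, LinearMap.mem_ker, hΛ]
      show κ (f (Submodule.Quotient.mk v)) = 0
      rw [(Submodule.Quotient.mk_eq_zero _).2 hv, map_zero, map_zero])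
    (Submodule.smul_le.2 fun r hr z _ => by
      rw [LinearMap.mem_ker, map_smul, Algebra.smul_def, ResidueField.algebraMap_eq,
        (residue_eq_zero_iff r).2 hr, zero_mul])
  have h0 := hker hg
  rw [LinearMap.mem_ker, hΛ] at h0
  exact hf (κ.injective (h0.trans (map_zero κ).symm))

/-- Sections all of whose germs come from a submodule are sections of it, over affine opens. -/
theorem exists_app_eq_of_germ {M N : X.Modules} (i : M ⟶ N) [Coh.IsQCoh M] [Coh.IsQCoh N]
    {U : X.Opens} (hU : IsAffineOpen U) (s : Γ(N, U))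
    (h : ∀ (x : X) (hx : x ∈ U), germP x (DCoh.toP.obj N) U hx s ∈ LinearMap.range (stk i x)) :
    ∃ e, i.app U e = s := by
  refine Formal2Lib.exists_app_eq_of_coker i hU s (EGA43.InjFibre.eq_zero_of_germ _ _ fun x hx => ?_)
  obtain ⟨e, he⟩ := h x hx
  refine (Coherent.stalk_map_germ (cokernel.π i) hx s).symm.trans ?_
  show stk (cokernel.π i) x (germP x (DCoh.toP.obj N) U hx s) = 0
  rw [← he, ← stk_comp, cokernel.condition, stk_zero]

/-- Over an algebraically closed field the residue extensions at closed points are trivial. -/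
theorem exists_sub_mem_maximalIdeal {k : Type u} [Field k] [IsAlgClosed k] (p : X ⟶ Spec (CommRingCat.of k))
    [LocallyOfFiniteType p] [LocallyOfFiniteType (π ≫ p)] (hy : IsClosed ({y} : Set Y))
    (hx : IsClosed ({π.base y} : Set X)) (b : Y.presheaf.stalk y) :
    ∃ c : X.presheaf.stalk (π.base y), b - (π.stalkMap y).hom c ∈ maximalIdeal (Y.presheaf.stalk y) := by
  have e : (residueFieldIsoBase p _ hx).inv ≫ π.residueFieldMap y = (residueFieldIsoBase (π ≫ p) y hy).inv := by
    refine Spec.map_injective ?_
    rw [Spec.map_comp, SpecMap_residueFieldIsoBase_inv, SpecMap_residueFieldIsoBase_inv,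
      Scheme.Hom.SpecMap_residueFieldMap_fromSpecResidueField_assoc]
  obtain ⟨a, ha⟩ := (ConcreteCategory.bijective_of_isIso (residueFieldIsoBase (π ≫ p) y hy).inv).2 (Y.residue y b)
  obtain ⟨c, hc⟩ := X.residue_surjective (π.base y) ((residueFieldIsoBase p _ hx).inv a)
  refine ⟨c, (residue_eq_zero_iff _).1 ?_⟩
  rw [map_sub, sub_eq_zero]
  refine ha.symm.trans ?_
  rw [← e, CommRingCat.comp_apply, ← hc]
  exact ConcreteCategory.congr_hom (Scheme.residue_residueFieldMap π y) c

end Groth.Agent.TFPush7
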