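import Groth.Agent.ParGP23.Tensor
import Groth.Agent.OmegaLib.ConormalMap
import Groth.Agent.Coherent.TensorSections
import Groth.Prelude.Def_ParBun2

/-!
# The restriction of a module to a closed subscheme, on affine sections
-/

set_option autoImplicit false
set_option linter.style.haveILetI false
set_option backward.isDefEq.respectTransparency false
set_option maxHeartbeats 1000000

universe u

open CategoryTheory CategoryTheory.Limits AlgebraicGeometry Opposite TopologicalSpace
open Groth.Agent.Coherent Groth.Agent.AmpleLib Groth.Agent.PicLib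
open scoped TensorProduct

noncomputable section

namespace Groth.Agent.TFPush7

variable {X : Scheme.{u}} (I : X.IdealSheafData) (E : X.Modules)

/-- `E ⟶ E ⊗ O_D`. -/
abbrev resdProj : E ⟶ ParSh.resD I E :=
  (SecTwist.unitorR E).inv ≫ KoszTw.tensorMap (𝟙 E) (ClSub.toSubscheme I)

theorem resdProj_app (W : X.Opens) (e : Γ(E, W)) :
    (resdProj I E).app W e = tmul e ((ClSub.toSubscheme I).app W (show Γ(Coh.structureModule X, W) from (1 : Γ(X, W)))) := by
  have h : (SecTwist.unitorR E).inv.app W e = tmul e (show Γ(Coh.structureModule X, W) from (1 : Γ(X, W))) := by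
    refine (ConcreteCategory.bijective_of_isIso (C := AddCommGrpCat) ((SecTwist.unitorR E).hom.app W)).1 ?_
    rw [← ConcreteCategory.comp_apply, ← Scheme.Modules.Hom.comp_app, Iso.inv_hom_id]
    refine (Eq.trans (b := (1 : Γ(X, W)) • e) ?_ ?_).symm
    · exact SecTwist.unitorR_tmul E W e (1 : Γ(X, W))
    · exact one_smul Γ(X, W) e
  rw [Scheme.Modules.Hom.comp_app, ConcreteCategory.comp_apply, h, ParGP23.koszMap_eq, tensorMap_tmul]
  rfl

variable [Coh.IsQCoh E] {W : X.Opens} (hW : IsAffineOpen W)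

include hW

theorem isQCoh_quotMod : Coh.IsQCoh (ClSub.quotMod I) := by
  haveI := Coherent.isQCoh_structureModule (X := I.subscheme)
  exact Coherent.isQCoh_push I.subschemeι _

theorem exists_resdProj_eq (z : Γ(ParSh.resD I E, W)) : ∃ e, (resdProj I E).app W e = z := by
  haveI := isQCoh_quotMod I hW
  obtain ⟨w, rfl⟩ := (bijective_tmulMap (F := E) (G := ClSub.quotMod I) hW).2 z
  induction w using TensorProduct.induction_on with
  | zero => exact ⟨0, by rw [map_zero, map_zero]⟩
  | add a b ha hb =>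
    obtain ⟨e, he⟩ := ha
    obtain ⟨e', he'⟩ := hb
    exact ⟨e + e', by rw [map_add, map_add, he, he']⟩
  | tmul a c =>
    obtain ⟨b, rfl⟩ : ∃ b : Γ(X, W), (ClSub.toSubscheme I).app W (show Γ(Coh.structureModule X, W) from b) = c :=
      I.subschemeι_app_surjective ⟨W, hW⟩ c
    refine ⟨b • a, ?_⟩
    rw [resdProj_app, tmulMap_tmul, tmul_smul_left, ← tmul_smul_right]
    refine congrArg (tmul a) ?_
    rw [← Scheme.Modules.Hom.app_smul]
    exact congrArg _ (mul_one b)

theorem mem_ideal_smul_of_resdProj_eq_zero (e : Γ(E, W)) (h : (resdProj I E).app W e = 0) :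
    e ∈ I.ideal ⟨W, hW⟩ • (⊤ : Submodule Γ(X, W) Γ(E, W)) := by
  haveI := isQCoh_quotMod I hW
  rw [resdProj_app] at h
  let j := I.subschemeι
  letI : Algebra Γ(X, W) Γ(I.subscheme, j ⁻¹ᵁ W) := (j.app W).hom.toAlgebra
  let es : Γ(ClSub.quotMod I, W) ≃ₗ[Γ(X, W)] Γ(I.subscheme, j ⁻¹ᵁ W) :=
    { toFun := fun s => (show Γ(I.subscheme, j ⁻¹ᵁ W) from s)
      invFun := fun s => (show Γ(ClSub.quotMod I, W) from s)
      left_inv := fun _ => rfl
      right_inv := fun _ => rfl
      map_add' := fun _ _ => rfl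
      map_smul' := fun r s => rfl }
  let c := (TensorProduct.comm Γ(X, W) Γ(E, W) Γ(ClSub.quotMod I, W)).trans
    (TensorProduct.congr es (LinearEquiv.refl Γ(X, W) Γ(E, W)))
  let one' : Γ(ClSub.quotMod I, W) :=
    (ClSub.toSubscheme I).app W (show Γ(Coh.structureModule X, W) from (1 : Γ(X, W)))
  have h0 : e ⊗ₜ[Γ(X, W)] one' = 0 :=
    (bijective_tmulMap (F := E) (G := ClSub.quotMod I) hW).1
      ((tmulMap_tmul E _ W e one').trans (h.trans (map_zero _).symm))
  have h1 : (1 : Γ(I.subscheme, j ⁻¹ᵁ W)) ⊗ₜ[Γ(X, W)] e = 0 := by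
    have := congrArg c h0
    rw [map_zero] at this
    refine Eq.trans ?_ this
    show _ = es one' ⊗ₜ[Γ(X, W)] e
    exact congrArg (· ⊗ₜ[Γ(X, W)] e) (map_one (j.app W).hom).symm
  have h2 := OmegaLib.mem_ker_smul_of_one_tmul_eq_zero
    (C := Γ(I.subscheme, j ⁻¹ᵁ W)) (I.subschemeι_app_surjective ⟨W, hW⟩) h1
  have hker : RingHom.ker (algebraMap Γ(X, W) Γ(I.subscheme, j ⁻¹ᵁ W)) = I.ideal ⟨W, hW⟩ :=
    I.ker_subschemeι_app ⟨W, hW⟩
  rwa [hker] at h2

end Groth.Agent.TFPush7
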