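import Groth.Agent.RefHullLib.Hartogs
import Groth.Agent.CAlgH3.Depth
import Groth.Agent.CommAlg6.FlatLocalModule

/-!
# Closed points outside an open are not associated to a direct image; depth at least one
-/

set_option autoImplicit false
set_option linter.style.haveILetI false
set_option backward.isDefEq.respectTransparency false
set_option backward.isDefEq.respectTransparency.types false
set_option maxHeartbeats 1000000

universe u

open CategoryTheory AlgebraicGeometry IsLocalRing Opposite TopologicalSpace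
open Groth.Agent.Coherent

namespace Groth.Agent.TFPush7

/-- A regular element of the maximal ideal gives depth at least one. -/
theorem one_le_depth_of_regular {R : Type u} [CommRing R] [IsLocalRing R] [IsNoetherianRing R]
    {M : Type u} [AddCommGroup M] [Module R M] [Module.Finite R M] {t : R} (ht : t ∈ maximalIdeal R)
    (hreg : IsSMulRegular M t) : 1 ≤ LocCoh.depth R M :=
  (CAlgH3.depth_quotSMulTop_add_one ht hreg).le.trans' le_add_self

/-- A reduced local ring which is not a field has a regular element in its maximal ideal. -/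
theorem exists_nzd_of_reduced {R : Type u} [CommRing R] [IsLocalRing R] [IsNoetherianRing R]
    [_root_.IsReduced R] (hR : ¬ IsField R) : ∃ t ∈ maximalIdeal R, t ∈ nonZeroDivisors R := by
  by_contra h
  push Not at h
  have hsub : (maximalIdeal R : Set R) ⊆ ⋃ p ∈ associatedPrimes R R, (p : Set R) := fun t ht => by
    rw [biUnion_associatedPrimes_eq_zero_divisors]
    have h' := h t ht
    rw [mem_nonZeroDivisors_iff_right] at h'
    push Not at h'
    obtain ⟨r, hr, hr0⟩ := h'
    exact ⟨r, hr0, (mul_comm t r).trans hr⟩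
  have hfin := associatedPrimes.finite R R
  rw [← hfin.coe_toFinset] at hsub
  obtain ⟨p, hp, hle⟩ := (Ideal.subset_union_prime (⊥ : Ideal R) ⊥
    fun p hp _ _ => (hfin.mem_toFinset.1 hp).isPrime).1 hsub
  have hp' := hfin.mem_toFinset.1 hp
  obtain ⟨hpp, a, ha⟩ := (isAssociatedPrime_iff (R := R)).1 hp'
  have hmax : p = maximalIdeal R := ((maximalIdeal.isMaximal R).eq_of_le hpp.ne_top hle).symm
  by_cases ha0 : a = 0
  · exact hpp.ne_top (ha.trans (eq_top_iff.2 fun r _ => by simp [ha0]))
  have hkill : ∀ r ∈ maximalIdeal R, r * a = 0 := fun r hr => by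
    rw [← hmax, ha, Submodule.mem_colon_singleton, Submodule.mem_bot] at hr
    exact hr
  by_cases hu : IsUnit a
  · exact hR (IsLocalRing.isField_iff_maximalIdeal_eq.2 (eq_bot_iff.2 fun r hr =>
      (hu.mul_left_eq_zero).1 (hkill r hr)))
  · exact ha0 (eq_zero_of_pow_eq_zero (n := 2) (by rw [sq]; exact hkill a ((mem_maximalIdeal a).2 hu)))

variable {X : Scheme.{u}} [IsLocallyNoetherian X]

/-- A closed point outside `U` is not associated to a module pushed forward from `U`. -/
theorem notMem_ass_push_closed (M : X.Modules) (U : X.Opens) {z : X} (hz : IsClosed ({z} : Set X)) (hzU : z ∉ U) :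
    z ∉ AssSch.Ass ((Scheme.Modules.pushforward U.ι).obj (M.restrict U.ι)) := by
  classical
  let G := (Scheme.Modules.pushforward U.ι).obj (M.restrict U.ι)
  intro h
  obtain ⟨hprime, v, hv⟩ := (isAssociatedPrime_iff (R := X.presheaf.stalk z)).1 h
  obtain ⟨W₀, hzW₀, t₀, rfl⟩ := G.presheaf.exists_germ_eq v
  obtain ⟨V, hV, hzV, hVW₀⟩ := exists_isAffineOpen_mem_and_subset (x := z) (U := W₀) hzW₀
  haveI : IsNoetherianRing Γ(X, V) := IsLocallyNoetherian.component_noetherian ⟨V, hV⟩
  let t : Γ(G, V) := G.presheaf.map (homOfLE hVW₀).op t₀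
  have ht : G.presheaf.germ V z hzV t = G.presheaf.germ W₀ z hzW₀ t₀ := TopCat.Presheaf.germ_res_apply _ _ _ _ _
  let p := (hV.primeIdealOf ⟨z, hzV⟩).asIdeal
  obtain ⟨s, hs⟩ := Ideal.fg_of_isNoetherianRing p
  have hmem : ∀ g ∈ p, X.presheaf.germ V z hzV g ∈ maximalIdeal (X.presheaf.stalk z) := fun g hg => by
    letI := X.presheaf.algebra_section_stalk ⟨z, hzV⟩
    haveI := hV.isLocalization_stalk ⟨z, hzV⟩
    exact (IsLocalization.AtPrime.to_map_mem_maximal_iff (X.presheaf.stalk z) p g).2 hg
  have hW : ∀ g : s, ∃ (W : X.Opens) (e : W ≤ V), z ∈ W ∧ G.presheaf.map (homOfLE e).op (g.1 • t) = 0 := fun g => by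
    have hg := hmem g.1 (hs ▸ Ideal.subset_span g.2)
    rw [hv, Submodule.mem_colon_singleton, Submodule.mem_bot, ← ht, ← QCohLoc.germ_smul'] at hg
    obtain ⟨W, hzW, i, j, hW⟩ := G.presheaf.germ_eq z hzV hzV (g.1 • t) 0 (hg.trans (map_zero _).symm)
    exact ⟨W, i.le, hzW, by rw [map_zero] at hW; exact hW⟩
  choose W hWV hzW hW using hW
  let W' : X.Opens := V ⊓ Finset.univ.inf W
  have hzW' : z ∈ W' := ⟨hzV, RefHullLib.mem_finset_inf_of_forall hzW⟩
  have hzero : G.presheaf.map (homOfLE (inf_le_left : W' ≤ V)).op t = 0 := by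
    apply RefHullLib.resM_push_injective M U W'
    rw [map_zero]
    refine TopCat.Presheaf.section_ext ⟨G.presheaf, G.isSheaf⟩ (W' ⊓ U) _ _ fun y hy => ?_
    rw [map_zero]
    show G.presheaf.germ (W' ⊓ U) y hy (G.presheaf.map (homOfLE (inf_le_left : W' ⊓ U ≤ W')).op
      (G.presheaf.map (homOfLE (inf_le_left : W' ≤ V)).op t)) = 0
    rw [TopCat.Presheaf.germ_res_apply, TopCat.Presheaf.germ_res_apply]
    have hyV : y ∈ V := hy.1.1
    obtain ⟨g, hgu⟩ : ∃ g : s, IsUnit (X.presheaf.germ V y hyV g.1) := by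
      by_contra hne
      push Not at hne
      have hle : p ≤ (hV.primeIdealOf ⟨y, hyV⟩).asIdeal := by
        rw [← hs, Ideal.span_le]
        intro g hg
        letI := X.presheaf.algebra_section_stalk ⟨y, hyV⟩
        haveI := hV.isLocalization_stalk ⟨y, hyV⟩
        exact (IsLocalization.AtPrime.to_map_mem_maximal_iff (X.presheaf.stalk y) _ g).1
          ((mem_maximalIdeal _).2 (hne ⟨g, hg⟩))
      have hsp := ((PrimeSpectrum.le_iff_specializes _ _).1 hle).map hV.fromSpec.continuous
      rw [hV.fromSpec_primeIdealOf, hV.fromSpec_primeIdealOf] at hsp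
      have hyz : y = z := Set.mem_singleton_iff.1 (hsp.mem_closed hz rfl)
      exact hzU (hyz ▸ hy.2)
    have hyW : y ∈ W g := Finset.inf_le (f := W) (Finset.mem_univ g) hy.1.2
    have e := congrArg (fun a => G.presheaf.germ (W g) y hyW a) (hW g)
    simp only [map_zero] at e
    rw [TopCat.Presheaf.germ_res_apply, QCohLoc.germ_smul'] at e
    exact (hgu.smul_eq_zero).1 e
  refine hprime.ne_top (hv.trans (eq_top_iff.2 fun a _ => ?_))
  rw [Submodule.mem_colon_singleton, Submodule.mem_bot, ← ht,
    ← TopCat.Presheaf.germ_res_apply G.presheaf (homOfLE (inf_le_left : W' ≤ V)) z hzW' t, hzero, map_zero]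
  exact smul_zero a

end Groth.Agent.TFPush7
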