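import Groth.Agent.TFNodal7.Node
import Groth.Agent.FlatMor12.GenericSmooth
import Groth.Agent.SmoothLib.StalkCrit
import Groth.Agent.NeronLib.Regular
import Groth.Agent.SerreDual.ExtShGeneric
import Groth.Agent.S7688

/-!
# A nodal curve has finitely many nodes
-/

set_option autoImplicit false
set_option linter.style.haveILetI false
set_option backward.isDefEq.respectTransparency false
set_option backward.isDefEq.respectTransparency.types false
set_option maxHeartbeats 1000000

universe u

open CategoryTheory AlgebraicGeometry TopologicalSpace IsLocalRing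

namespace Groth.Agent.TFPush7

variable (k : Type u) [Field k] {X : Scheme.{u}} [X.Over (Spec (CommRingCat.of k))]

local notation "p" => X ↘ Spec (CommRingCat.of k)

/-- Nodes of a one-dimensional scheme are not smooth points. -/
theorem not_formallySmooth_of_isNode [LocallyOfFiniteType p] (hdim : topologicalKrullDim X ≤ 1) {x : X}
    (hx : Curv2.IsNode k X x) : ¬ (Scheme.Hom.stalkMap p x).hom.FormallySmooth := by
  intro h
  haveI : LocallyOfFinitePresentation p := inferInstance
  obtain ⟨V, hxV, hV⟩ := (SmoothLib.smooth_nhd_iff p x).2 h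
  haveI := hV
  haveI := NeronLib.isRegularLocalRing_stalk_of_smooth (V.ι ≫ p) ⟨x, hxV⟩
  haveI : IsRegularLocalRing (X.presheaf.stalk x) :=
    .of_ringEquiv (asIso (V.ι.stalkMap ⟨x, hxV⟩)).commRingCatIsoToRingEquiv.symm
  obtain ⟨-, -, u', v', a, b, c, hd⟩ := (NodeLib7.isNode_iff k X x).1 hx
  have h2 := NodeLib7.finrank_cotangent_eq_two hd.span hd.indep
  have h1 := (IsRegularLocalRing.iff_finrank_cotangentSpace (R := X.presheaf.stalk x)).1 inferInstance
  rw [h2] at h1
  have hd1 := S7688.stalk_dim_le hdim x
  rw [← h1] at hd1
  exact absurd hd1 (by norm_num)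

/-- A reduced curve over a field of characteristic zero is smooth at its generic points. -/
theorem formallySmooth_of_generic [CharZero k] [LocallyOfFiniteType p] {η : X}
    (hη : closure ({η} : Set X) ∈ irreducibleComponents X) [_root_.IsReduced (X.presheaf.stalk η)] :
    (Scheme.Hom.stalkMap p η).hom.FormallySmooth := by
  have hF := SerreDual.isField_stalk_of_generic hη
  haveI : IsRegularLocalRing (X.presheaf.stalk η) := by
    letI := hF.toField
    infer_instance
  have hess := LocallyOfFiniteType.stalkMap p η
  let S := (Spec (CommRingCat.of k)).presheaf.stalk ((p : X ⟶ _) η)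
  have hS : IsField S := by
    have e : (p : X ⟶ _) η = genericPoint (Spec (CommRingCat.of k)) := Subsingleton.elim _ _
    show IsField ((Spec (CommRingCat.of k)).presheaf.stalk ((p : X ⟶ _) η))
    rw [e]
    exact Field.toIsField (Spec (CommRingCat.of k)).functionField
  letI : Field S := hS.toField
  let ι : k →+* S := (((Scheme.ΓSpecIso (CommRingCat.of k)).inv ≫
    (Spec (CommRingCat.of k)).presheaf.germ ⊤ ((p : X ⟶ _) η) trivial).hom)
  haveI : CharZero S := charZero_of_injective_ringHom ι.injective
  haveI : PerfectField S := PerfectField.ofCharZero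
  let φ : S →+* X.presheaf.stalk η := (Scheme.Hom.stalkMap p η).hom
  letI := φ.toAlgebra
  haveI : Algebra.EssFiniteType S (X.presheaf.stalk η) := hess
  exact FlatMor12.GenericSmooth.formallySmooth_of_regular_of_perfect S (X.presheaf.stalk η)

/-- A nodal curve has finitely many nodes, and every set of nodes is closed. -/
theorem finite_nodes [CharZero k] [IsProper p] [ConnectedSpace X] (hdim : topologicalKrullDim X = 1)
    (hnod : Curv2.AtWorstNodal k X) :
    {x : X | Curv2.IsNode k X x}.Finite ∧ ∀ S ⊆ {x : X | Curv2.IsNode k X x}, IsClosed S := by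
  haveI := CurveRR24.isLocallyNoetherian_of_proper k (X := X)
  haveI : CompactSpace X := QuasiCompact.compactSpace_of_compactSpace p
  haveI : AlgebraicGeometry.IsNoetherian X := {}
  haveI : LocallyOfFinitePresentation p := inferInstance
  let F : Set X := (↑(Scheme.Hom.smoothLocus p) : Set X)ᶜ
  have hN : {x : X | Curv2.IsNode k X x} ⊆ F := fun x hx => not_formallySmooth_of_isNode k hdim.le hx
  have hgen : ∀ y ∈ F, y ∉ genericPoints X := fun y hy hg => hy (by
    haveI := NodeLib7.isReduced_stalk_of_atWorstNodal k X hnod y
    exact formallySmooth_of_generic k hg)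
  obtain ⟨h1, h2⟩ := S7688.finite_of_isClosed_no_generic hdim.le
    (Scheme.Hom.smoothLocus p).isOpen.isClosed_compl hgen
  exact ⟨h1.subset hN, fun S hS => h2 S (hS.trans hN)⟩

end Groth.Agent.TFPush7
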