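import Mathlib
import Groth.Prelude.Def_RefHull
import Groth.Agent.EulerLib.SlopeBasic
import Groth.Agent.EulerLib.DualPure
import Groth.Agent.RefHullLib.Extend
import Groth.Agent.TFPush7.StalkSub
import Groth.Agent.FlatMorLocalStr.SmoothFibres
import Groth.Agent.FlatMor12.MiracleScheme
import Groth.Agent.SerreDual.RegularVanishing

set_option linter.style.haveILetI false
set_option backward.isDefEq.respectTransparency false
set_option backward.isDefEq.respectTransparency.types false
set_option maxHeartbeats 800000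

/-! Nonzero morphisms of stable reflexive sheaves with comparable slopes. -/

universe u

open CategoryTheory CategoryTheory.Limits AlgebraicGeometry Polynomial StabCat TopologicalSpace
open Groth.Agent.Coherent

namespace Groth.Agent.TFPush7.StableRefIso

theorem isIso_of_stable (k : Type u) [Field k]
    (X : Scheme.{u}) [X.Over (Spec (CommRingCat.of k))] [IsIntegral X]
    [IsProper (X ↘ Spec (CommRingCat.of k))] [Smooth (X ↘ Spec (CommRingCat.of k))]
    (n : ℕ) (hn : 1 ≤ n) (hX : topologicalKrullDim X = (n : WithBot ℕ∞))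
    (L : X.Modules) (hL : CohB1.IsAmple L)
    (F G : X.Modules) (hFr : RefHull.IsReflexive F) (hGr : RefHull.IsReflexive G)
    (hF : ShStab.IsMuStable k X L F n) (hG : ShStab.IsMuStable k X L G n)
    (pF pG : ℚ[X]) (hpF : ShStab.IsHilbPoly k X L F pF) (hpG : ShStab.IsHilbPoly k X L G pG)
    (hle : StabCat.hatSlope n pG ≤ StabCat.hatSlope n pF) (φ : F ⟶ G) (hφ : φ ≠ 0) : IsIso φ := by
  haveI := EulerLib.isNoetherian_of_proper (k := k) (X := X)
  let p := X ↘ Spec (CommRingCat.of k)
  have hFp := EulerLib.isPure_of_isReflexive hFr hX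
  have hGp := EulerLib.isPure_of_isReflexive hGr hX
  have hFss : ShStab.IsMuSemistable k X L F n := ⟨hF.1, hF.2.1, hF.2.2.1, hF.2.2.2.1,
    fun W ι hι hW pW pE a b c d => (hF.2.2.2.2 W ι hι hW pW pE a b c d).le⟩
  have hGss : ShStab.IsMuSemistable k X L G n := ⟨hG.1, hG.2.1, hG.2.2.1, hG.2.2.2.1,
    fun W ι hι hW pW pE a b c d => (hG.2.2.2.2 W ι hι hW pW pE a b c d).le⟩
  have hI := EulerLib.isCoh_image φ hF.1 hG.1
  have hK : Coh.IsCoh (kernel φ) := Coherent.isCoh_kernel φ hF.1 hG.1.1
  have hI0 : ¬ IsZero (Abelian.image φ) := EulerLib.image_ne_zero hφ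
  have hpI := EulerLib.isHilbPoly_hp k hL _ hI
  have hpK := EulerLib.isHilbPoly_hp k hL _ hK
  let pI := EulerLib.hp k hL _ hI
  let pK := EulerLib.hp k hL _ hK
  have hαI : 0 < alpha n pI := EulerLib.alpha_pos_of_sub k hL hGp (Abelian.image.ι φ) hI hI0 hpI
  have hαF := EulerLib.alpha_pos_self k hL hF.1 hF.2.1 hFp hpF
  have hαG := EulerLib.alpha_pos_self k hL hG.1 hG.2.1 hGp hpG
  have hdG : topologicalKrullDim (CohB1.support G) ≤ n := hG.2.2.1.le
  have h1 := EulerLib.slope_sub k hL hGp hGss (Abelian.image.ι φ) hI hpI hpG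
  have h2 := EulerLib.slope_quot k hL hFp hFss (Abelian.factorThruImage φ) hI hpF hpI
  have hle' : alpha (n - 1) pG * alpha n pF ≤ alpha (n - 1) pF * alpha n pG := by
    rw [hatSlope, hatSlope, div_le_div_iff₀ hαG hαF] at hle
    exact hle
  -- additivity along the image
  let T : ShortComplex X.Modules := ShortComplex.mk (kernel.ι φ) (Abelian.factorThruImage φ) (by
    rw [← cancel_mono (Abelian.image.ι φ), Category.assoc, Abelian.image.fac, kernel.condition, Limits.zero_comp])
  have hT : T.ShortExact :=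
    { mono_f := inferInstanceAs (Mono (kernel.ι φ))
      epi_g := inferInstanceAs (Epi (Abelian.factorThruImage φ))
      exact := ShortComplex.exact_of_f_is_kernel _ (isKernelOfComp (f := Abelian.factorThruImage φ)
        (Abelian.image.ι φ) φ (kernelIsKernel φ) T.zero (Abelian.image.fac φ)) }
  have hadd : pF = pK + pI := EulerLib.hilb_ses k hL hT hK hF.1 hI hpK hpF hpI
  -- the morphism is a monomorphism
  haveI : Mono φ := Preadditive.mono_of_isZero_kernel φ (by
    by_contra hk
    have hαK : 0 < alpha n pK := EulerLib.alpha_pos_of_sub k hL hFp (kernel.ι φ) hK hk hpK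
    have hlt : alpha n pK < alpha n pF := by rw [hadd, EulerLib.alpha_add]; linarith
    have hs := hF.2.2.2.2 (kernel φ) (kernel.ι φ) inferInstance hK pK pF hpK hpF hαK hlt
    rw [hatSlope, hatSlope, div_lt_div_iff₀ hαK hαF] at hs
    have e : alpha n pF = alpha n pK + alpha n pI := by rw [hadd, EulerLib.alpha_add]
    have e' : alpha (n - 1) pF = alpha (n - 1) pK + alpha (n - 1) pI := by rw [hadd, EulerLib.alpha_add]
    have h3 : alpha (n - 1) pF * alpha n pI < alpha n pF * alpha (n - 1) pI := by
      rw [e, e'] at hs ⊢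
      nlinarith
    have key : alpha n pI * (alpha (n - 1) pF * alpha n pG) < alpha n pI * (alpha (n - 1) pG * alpha n pF) := by
      have ha := mul_lt_mul_of_pos_right h3 hαG
      have hb := mul_le_mul_of_nonneg_right h1 hαF.le
      nlinarith
    exact (not_lt.2 hle') (lt_of_mul_lt_mul_left key hαI.le))
  obtain ⟨R, hR, hGR⟩ := EulerLib.hilb_mono k hL φ hF.1 hG.1 hpF hpG
  have eG : alpha n pG = alpha n pF + alpha n R := by rw [hGR, EulerLib.alpha_add]
  have eG' : alpha (n - 1) pG = alpha (n - 1) pF + alpha (n - 1) R := by rw [hGR, EulerLib.alpha_add]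
  have hQ : Coh.IsCoh (cokernel φ) := Coherent.isCoh_cokernel φ hF.1.1 hG.1
  have hQd : topologicalKrullDim (CohB1.support (cokernel φ)) ≤ n :=
    (EulerLib.dim_mono (Coherent.support_subset_of_epi (cokernel.π φ))).trans hdG
  -- equal multiplicities
  have hαeq : alpha n R = 0 := by
    rcases (EulerLib.alpha_le_of_mono k hL φ hF.1 hG.1 hdG hpF hpG).eq_or_lt with e | hlt
    · linarith
    · have hs := hG.2.2.2.2 F φ inferInstance hF.1 pF pG hpF hpG hαF hlt
      exact absurd hle (not_le_of_gt hs)
  have hR0 := EulerLib.alpha_pred_nonneg k hL hQ hQd hR hαeq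
  have hαR : alpha (n - 1) R = 0 := by
    rw [eG, eG', hαeq, add_zero] at hle'
    nlinarith
  -- the cokernel is supported in codimension two
  have hgen : ∀ z : X, (∀ w, w ⤳ z → z = w) → DimLib.ptDim p z = (n : ℕ) := fun z hz => by
    have h := DimLib.topologicalKrullDim_eq_ptDim_genericPoint (X := X) p
    rw [hX] at h
    rw [hz _ (genericPoint_specializes z)]
    exact_mod_cast h.symm
  have hoff : ∀ y : X, ringKrullDim (X.presheaf.stalk y) ≤ 1 → y ∉ CohB1.support (cokernel φ) := by
    intro y hy hmem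
    have hne : ¬ IsZero (cokernel φ) := fun hz =>
      Set.notMem_empty y ((Coherent.support_of_isZero hz ∅).subset hmem)
    obtain ⟨s, hs, he⟩ := EulerLib.dim_eq_of_le ⟨y, hmem⟩ hQd
    have hsn : s ≠ n := by
      rintro rfl
      exact (EulerLib.alpha_pos k hL hQ hR he).ne' hαeq
    have hsn' : s ≠ n - 1 := by
      rintro rfl
      exact (EulerLib.alpha_pos k hL hQ hR he).ne' hαR
    rw [DimLib.topologicalKrullDim_closed_eq_iSup p
      (Coherent.isClosed_support _ (Coherent.locallyFinGen_of_isFT _ hQ.2))] at he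
    have hys : DimLib.ptDim p y ≤ s := by
      have := (le_iSup (fun z : CohB1.support (cokernel φ) => (DimLib.ptDim p z.1 : WithBot ℕ∞)) ⟨y, hmem⟩).trans he.le
      exact_mod_cast this
    obtain ⟨hle1, hco⟩ := FlatMor12.coheight_add_ptDim p n hgen y
    rw [ringKrullDim_stalk_eq_coheight, hco] at hy
    have : n - DimLib.ptDim p y ≤ 1 := by exact_mod_cast hy
    omega
  have hbij : ∀ y : X, ringKrullDim (X.presheaf.stalk y) ≤ 1 →
      Function.Bijective (RefHull.stalkMapₗ φ y) := fun y hy => by
    refine ⟨TFPush7.stalkMap_injective_of_mono φ y, fun v => ?_⟩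
    have hex := (ShortComplex.ShortExact.moduleCat_exact_iff_function_exact _).1
      ((ShortComplex.exact_cokernel φ).map (DerSch.stalkFunctor X y))
    refine (hex v).1 ?_
    have hs : Subsingleton ((DerSch.stalkFunctor X y).obj (cokernel φ)) := not_not.1 (hoff y hy)
    exact hs.elim _ _
  have hη : ringKrullDim (X.presheaf.stalk (genericPoint X)) ≤ 1 := by
    rw [ringKrullDim_eq_zero_of_isField RefHullLib.isField_stalk_genericPoint]
    exact zero_le_one
  let e := LinearEquiv.ofBijective (RefHull.stalkMapₗ φ (genericPoint X)) (hbij _ hη)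
  have hFat := (RefHullLib.isReflexive_iff_stalks hF.1).1 hFr
  have hGat := (RefHullLib.isReflexive_iff_stalks hG.1).1 hGr
  have hN : Pi1.IsNormalScheme X := FlatMorLocalStr.isNormalScheme_of_smooth_field p
  obtain ⟨ψ, hψ⟩ := RefHullLib.exists_hom_of_genericMap (G := G) hN hF.1 hFat e.symm.toLinearMap
    (fun y hy v => by
      obtain ⟨u, rfl⟩ := (hbij y hy.le).2 v
      refine ⟨u, ?_⟩
      show _ = e.symm _
      rw [RefHullLib.toGen_stalkMap]
      exact (e.symm_apply_apply _).symm)
  have hid : ∀ (A : X.Modules) (v : A.presheaf.stalk (genericPoint X)),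
      RefHull.stalkMapₗ (𝟙 A) (genericPoint X) v = v := fun A v => by
    obtain ⟨W, hW, m, rfl⟩ := A.presheaf.exists_germ_eq v
    rw [RefHull.stalkMapₗ_germ]
    rfl
  refine ⟨ψ, RefHullLib.hom_ext_genericPoint hF.1 hFat (LinearMap.ext fun v => ?_),
    RefHullLib.hom_ext_genericPoint hG.1 hGat (LinearMap.ext fun v => ?_)⟩
  · rw [TFPush7.stalkMap_comp, LinearMap.comp_apply, hψ, hid]
    exact e.symm_apply_apply v
  · rw [TFPush7.stalkMap_comp, LinearMap.comp_apply, hψ, hid]
    exact e.apply_symm_apply v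

end Groth.Agent.TFPush7.StableRefIso
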