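import Groth.Agent.Surf15.PlaneNef
import Groth.Agent.Surf15.Curve
import Groth.Agent.CurveRR24.AlgClosed
import Groth.Agent.CurveRR24.Section
import Groth.Agent.TwistLib.TwistInv
import Groth.Agent.DCat.PullTensor
import Groth.Agent.VarietyLib.AmpleComponents

/-!
# Degrees of pullbacks of `O(1)` to connected reduced curves
-/

set_option autoImplicit false
set_option linter.style.haveILetI false
set_option linter.unusedSectionVars false
set_option backward.isDefEq.respectTransparency false
set_option backward.isDefEq.respectTransparency.types false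
set_option maxHeartbeats 1000000

universe u

open CategoryTheory CategoryTheory.Limits AlgebraicGeometry Opposite TopologicalSpace
open Groth.Agent.Coherent Groth.Agent.PicLib Groth.Agent.AmpleLib Groth.Agent.EulerLib
open Groth.Agent.CurveRR24 Groth.Agent.AssSch12

namespace Groth.Agent.TFPush7.P1Deg

theorem twistTwoIso {k : Type u} [Field k] {n : ℕ} : Nonempty (CohB1.tensorMod (Twist.twistProjSpace n k 1) (Twist.twistProjSpace n k 1) ≅
      Twist.twistProjSpace n k 2) :=
  TwistLib.nonempty_tensor_twist_iso (𝒜 := CohB1.polyGrading n k)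
    (UPLib.exists_degOne (UPLib.adjoin_one_eq_top (UPLib.linForm_mem (R := k) n) (UPLib.isSymmetricAlgebra_linForm n)))
    (show (1 : ℤ) + 1 = 2 by norm_num)

variable {Y : Scheme.{u}} (k : Type u) [Field k] [Y.Over (Spec (CommRingCat.of k))]
  [IsProper (Y ↘ Spec (CommRingCat.of k))]

theorem deg_structure_mk {L : Y.Modules} (hL : PicF.IsInvertible L) :
    Surf15.deg k (Coh.structureModule Y) (InvCl.mk L hL) = Curv2.deg k Y L 1 := by
  rw [Surf15.deg_mk, euler_congr k Y (unitTensorIso L)]
  simp [Curv2.deg]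

/-- The class of the pullback of `O(1)`. -/
noncomputable def cl1 {n : ℕ} (r : Y ⟶ CohB1.ProjSpace n k) : InvCl Y :=
  InvCl.mk ((Scheme.Modules.pullback r).obj (Twist.twistProjSpace n k 1))
    (PicLoc.isInvertible_pullback r (Surf15.isInvertible_twist_one_field k n))

variable (hd : topologicalKrullDim Y ≤ 1)
include hd

theorem dim_support_le (F : Y.Modules) :
    topologicalKrullDim (CohB1.support F) ≤ ((1 : ℕ) : WithBot ℕ∞) :=
  ((topologicalKrullDim_subspace_le Y _).trans hd).trans (by exact_mod_cast le_rfl)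

theorem dim_closure_le (y : Y) : topologicalKrullDim (closure {y} : Set Y) ≤ ((1 : ℕ) : WithBot ℕ∞) :=
  ((topologicalKrullDim_subspace_le Y _).trans hd).trans (by exact_mod_cast le_rfl)

theorem deg_cl1_nonneg {n : ℕ} (r : Y ⟶ CohB1.ProjSpace n k) {F : Y.Modules} (hF : Coh.IsCoh F) :
    0 ≤ Surf15.deg k F (cl1 k r) :=
  Surf15.deg_nonneg_of_components k hF (dim_support_le hd F) _ fun y _ _ =>
    Surf15.deg_pullback_twist_one_nonneg k r y (dim_closure_le hd y)

/-- If `deg r^*O(1) ≤ 0`, every point `y` has degree `≤ 0` on its closure. -/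
theorem deg_clM_nonpos {n : ℕ} (r : Y ⟶ CohB1.ProjSpace n k)
    (h : Surf15.deg k (Coh.structureModule Y) (cl1 k r) ≤ 0) (y : Y) :
    Surf15.deg k (clM y) (cl1 k r) ≤ 0 := by
  haveI := isNoetherian_of_proper (X := Y) k
  have h1 : Coh.IsCoh (ClSub.idealMod (clI y)) := isCoh_idealMod' _
  have h2 : Coh.IsCoh (ClSub.quotMod (clI y)) := isCoh_quotMod _
  have e : Surf15.deg k (Coh.structureModule Y) (cl1 k r) =
      Surf15.deg k (ClSub.idealMod (clI y)) (cl1 k r) + Surf15.deg k (ClSub.quotMod (clI y)) (cl1 k r) :=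
    Surf15.deg_additive k _ (shortExact_ideal (clI y)) h1 (isCoh_structureModule Y) h2 _
  have := deg_cl1_nonneg k hd r h1
  show Surf15.deg k (ClSub.quotMod (clI y)) (cl1 k r) ≤ 0
  omega

variable [IsAlgClosed k]

omit hd [IsAlgClosed k] in
/-- A nonzero global function on an integral proper scheme has no zeros. -/
theorem glocus_structure_eq_top {W : Scheme.{u}} [W.Over (Spec (CommRingCat.of k))]
    [IsProper (W ↘ Spec (CommRingCat.of k))] [IsIntegral W] (t : Γ(Coh.structureModule W, ⊤)) (ht : t ≠ 0) :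
    glocus (Coh.structureModule W) t = ⊤ := by
  have hg := isGen_oneSec (X := W) ⊤
  have h := glocus_inf t hg
  rw [inf_top_eq] at h
  rw [h]
  have hc : hg.coef le_rfl (resM _ le_top t) ≠ 0 := fun e => ht (by
    have h2 := hg.coef_spec le_rfl (resM _ le_top t)
    rw [e, zero_smul, resM_self] at h2
    exact h2.symm)
  obtain ⟨b, hb⟩ := (isField_of_universallyClosed k (W ↘ Spec (CommRingCat.of k))).mul_inv_cancel hc
  exact Scheme.basicOpen_of_isUnit _ (IsUnit.of_mul_eq_one b hb)

/-- A section of `r^*O(1)` nonzero at `y` has no zero on the closure of `y` when the degree is zero. -/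
theorem closure_le_glocus {L : Y.Modules} (hL : PicF.IsInvertible L) {s : Γ(L, ⊤)} {y : Y}
    (hy : y ∈ glocus L s) (hdeg : Surf15.deg k (clM y) (InvCl.mk L hL) ≤ 0) :
    closure ({y} : Set Y) ⊆ glocus L s := by
  haveI := isNoetherian_of_proper (X := Y) k
  haveI := isSeparated_of_proper (X := Y) k
  let i := (clI y).subschemeι
  letI : (clI y).subscheme.Over (Spec (CommRingCat.of k)) := ⟨i ≫ (Y ↘ Spec (CommRingCat.of k))⟩
  haveI : IsProper ((clI y).subscheme ↘ Spec (CommRingCat.of k)) :=
    inferInstanceAs (IsProper (i ≫ (Y ↘ Spec (CommRingCat.of k))))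
  haveI := isNoetherian_of_proper (X := (clI y).subscheme) k
  haveI : IsIntegral (clI y).subscheme := VarietyLib.isIntegral_clI y
  have hY : topologicalKrullDim (clI y).subscheme ≤ 1 := (i.isClosedEmbedding.isInducing.topologicalKrullDim_le).trans hd
  have hLY := PicLoc.isInvertible_pullback i hL
  let L' := (Scheme.Modules.pullback i).obj L
  have hgen : genericPoint (clI y).subscheme ∈ glocus L' (pullSec i s) := by
    rw [glocus_pullSec i hL]
    show i (genericPoint (clI y).subscheme) ∈ glocus L s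
    rw [show i (genericPoint (clI y).subscheme) = y from VarietyLib.clI_genericPoint y]
    exact hy
  have hne : pullSec i s ≠ 0 := VarietyLib.ne_zero_of_mem_glocus (L := L') hgen
  obtain ⟨h0, hiso, -⟩ := deg_nonneg_of_section k hY hLY (Surf15.nontrivial_h0 k hne)
  have hLF : FlatMod.IsFinLocFree L := fun x =>
    let ⟨U, hx, e⟩ := isFinLocFreeOfRank_one hL x; ⟨U, 1, hx, e⟩
  have e : CohB1.tensorMod (clM y) L ≅
      (Coh.push i).obj (CohB1.tensorMod (Coh.structureModule (clI y).subscheme) L') :=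
    AmpleLib.tensorComm _ _ ≪≫ (projIso (f := i) hLF).app _ ≪≫
      (Scheme.Modules.pushforward i).mapIso (AmpleLib.tensorComm _ _)
  have hO : Coh.IsCoh (Coh.structureModule (clI y).subscheme) := isCoh_structureModule _
  haveI : Coh.IsQCoh (CohB1.tensorMod (Coh.structureModule (clI y).subscheme) L') := (isCoh_twist hLY hO).1
  haveI : Coh.IsQCoh (Coh.structureModule (clI y).subscheme) := hO.1
  have hd0 : Curv2.deg k (clI y).subscheme L' 1 ≤ 0 := by
    rw [Curv2.deg, Nat.cast_one, one_mul, euler_congr k _ (unitTensorIso L').symm,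
      AbCubeLib.euler_push k i rfl, AbCubeLib.euler_push k i rfl, ← euler_congr k Y e]
    rw [Surf15.deg_mk] at hdeg
    exact hdeg
  obtain ⟨u⟩ := hiso (le_antisymm hd0 h0)
  have hu : u.hom.app ⊤ (pullSec i s) ≠ 0 := fun hz => hne <| by
    have h' : u.inv.app ⊤ (u.hom.app ⊤ (pullSec i s)) = pullSec i s := by
      rw [← ConcreteCategory.comp_apply, ← Scheme.Modules.Hom.comp_app, u.hom_inv_id]
      rfl
    rw [← h', hz, map_zero]
  have htop : glocus L' (pullSec i s) = ⊤ := by
    rw [← glocus_map_iso u]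
    exact glocus_structure_eq_top k _ hu
  rw [glocus_pullSec i hL] at htop
  intro z hz
  have hz' : z ∈ Set.range i := by rw [range_clι]; exact hz
  obtain ⟨w, rfl⟩ := hz'
  exact (htop.ge : (⊤ : (clI y).subscheme.Opens) ≤ _) (Opens.mem_top w)

omit hd in
include k in
/-- A map from a connected reduced proper scheme to an affine open is constant. -/
theorem eq_of_range_subset_affine [IsReduced Y] [ConnectedSpace Y] {P : Scheme.{u}} (r : Y ⟶ P)
    {V : P.Opens} (hV : IsAffineOpen V) (h : Set.range r ⊆ (V : Set P)) (x y : Y) : r x = r y := by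
  haveI : IsAffine V.toScheme := hV
  let g : Y ⟶ V.toScheme := IsOpenImmersion.lift V.ι r (by rwa [Scheme.Opens.range_ι])
  have hg : g ≫ V.ι = r := IsOpenImmersion.lift_fac _ _ _
  haveI : Nontrivial Γ(Y, ⊤) :=
    haveI : Nonempty (⊤ : Y.Opens) := ⟨⟨x, trivial⟩⟩
    inferInstance
  let φ : k →+* Γ(Y, ⊤) :=
    ((Y ↘ Spec (CommRingCat.of k)).appTop.hom.comp (Scheme.ΓSpecIso (CommRingCat.of k)).inv.hom)
  have hs : Function.Surjective φ :=
    (AbSchLib.surjective_appTop_of_isAlgClosed k (Y ↘ Spec (CommRingCat.of k))).comp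
      (ConcreteCategory.bijective_of_isIso (Scheme.ΓSpecIso (CommRingCat.of k)).inv).2
  haveI : Subsingleton (PrimeSpectrum Γ(Y, ⊤)) :=
    ⟨fun a b => PrimeSpectrum.comap_injective_of_surjective φ hs (Subsingleton.elim _ _)⟩
  haveI : Subsingleton (Spec Γ(Y, ⊤)) := inferInstanceAs (Subsingleton (PrimeSpectrum Γ(Y, ⊤)))
  have hfac : g = Y.toSpecΓ ≫ Spec.map g.appTop ≫ V.toScheme.isoSpec.inv := by
    rw [← Scheme.toSpecΓ_naturality_assoc, Scheme.toSpecΓ_isoSpec_inv, Category.comp_id]
  have hgxy : g x = g y := by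
    rw [hfac]
    simp only [Scheme.Hom.comp_apply]
    rw [Subsingleton.elim (Y.toSpecΓ x) (Y.toSpecΓ y)]
  rw [← hg, Scheme.Hom.comp_apply, Scheme.Hom.comp_apply, hgxy]

/-- **Degree zero pullbacks of `O(1)` come from constant maps.** -/
theorem constant_of_deg_nonpos [IsReduced Y] [ConnectedSpace Y] {n : ℕ} (r : Y ⟶ CohB1.ProjSpace n k)
    (h : Curv2.deg k Y ((Scheme.Modules.pullback r).obj (Twist.twistProjSpace n k 1)) 1 ≤ 0) (x y : Y) :
    r x = r y := by
  haveI := isNoetherian_of_proper (X := Y) k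
  have hL := PicLoc.isInvertible_pullback r (Surf15.isInvertible_twist_one_field k n)
  have h' : Surf15.deg k (Coh.structureModule Y) (cl1 k r) ≤ 0 := (deg_structure_mk k hL).trans_le h
  have hcov := Proj.iSup_basicOpen_eq_top (CohB1.polyGrading n k) _ (ProjLib.irrelevant_le_span_X n k)
  obtain ⟨a, ha⟩ := Opens.mem_iSup.1 (hcov.ge (Opens.mem_top (r x)))
  let L := (Scheme.Modules.pullback r).obj (Twist.twistProjSpace n k 1)
  let s : Γ(L, ⊤) := PicLib.pullSec r (show Γ(Twist.twist (CohB1.polyGrading n k) 1, ⊤) from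
      Twist.globalOf (CohB1.polyGrading n k) ⟨MvPolynomial.X a, MvPolynomial.isHomogeneous_X _ a⟩)
  let A : Y.Opens := glocus L s
  have hAeq : A = r ⁻¹ᵁ Proj.basicOpen (CohB1.polyGrading n k) (MvPolynomial.X a) :=
    PnEmb.glocus_pullSec_twist_one (𝒮 := CohB1.polyGrading n k)
      (UPLib.adjoin_one_eq_top (UPLib.linForm_mem (R := k) n) (UPLib.isSymmetricAlgebra_linForm n)) r
      (MvPolynomial.isHomogeneous_X _ a)
  have hxA : x ∈ A := hAeq.ge ha
  have hstab : ∀ z w : Y, z ⤳ w → z ∈ A → w ∈ A := fun z w hzw hz =>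
    closure_le_glocus k hd hL hz (deg_clM_nonpos k hd r h' z) hzw.mem_closure
  have hclosed : IsClosed (A : Set Y) := by
    have hA : (A : Set Y) = ⋃ C ∈ {C ∈ irreducibleComponents Y | (C ∩ (A : Set Y)).Nonempty}, C := by
      refine Set.Subset.antisymm (fun w hw => Set.mem_biUnion
        ⟨irreducibleComponent_mem_irreducibleComponents w, w, mem_irreducibleComponent, hw⟩
        mem_irreducibleComponent) (Set.iUnion₂_subset ?_)
      rintro C ⟨hC, w, hwC, hwA⟩ v hv
      obtain ⟨η, hη⟩ := QuasiSober.sober hC.1 (isClosed_of_mem_irreducibleComponents C hC)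
      exact hstab η v (hη.specializes hv) ((hη.specializes hwC).mem_open A.2 hwA)
    rw [hA]
    exact (TopologicalSpace.NoetherianSpace.finite_irreducibleComponents.subset (Set.sep_subset _ _)).isClosed_biUnion
      fun C hC => isClosed_of_mem_irreducibleComponents C hC.1
  have hu : (A : Set Y) = Set.univ := IsClopen.eq_univ ⟨hclosed, A.2⟩ ⟨x, hxA⟩
  refine eq_of_range_subset_affine k r (Proj.isAffineOpen_basicOpen (CohB1.polyGrading n k) _
    (MvPolynomial.isHomogeneous_X _ a) one_pos) ?_ x y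
  rintro _ ⟨z, rfl⟩
  exact hAeq.le (hu.ge (Set.mem_univ z))

theorem deg_pullback_square {P : Scheme.{u}} (r : Y ⟶ P) {L M : P.Modules} (hL : PicF.IsInvertible L)
    (e : CohB1.tensorMod L L ≅ M) :
    Curv2.deg k Y ((Scheme.Modules.pullback r).obj M) 1 = 2 * Curv2.deg k Y ((Scheme.Modules.pullback r).obj L) 1 := by
  haveI := isNoetherian_of_proper (X := Y) k
  have h1 := PicLoc.isInvertible_pullback r hL
  let p : (Scheme.Modules.pullback r).obj M ≅
      CohB1.tensorMod ((Scheme.Modules.pullback r).obj L) ((Scheme.Modules.pullback r).obj L) :=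
    (Scheme.Modules.pullback r).mapIso e.symm ≪≫ DCat.PullTensor.pullTensorIso r L L
  have h2 : PicF.IsInvertible ((Scheme.Modules.pullback r).obj M) :=
    glocus_isInvertible_of_iso p.symm (isInvertible_tensorMod h1 h1)
  rw [← deg_structure_mk k h2, ← deg_structure_mk k h1, InvCl.mk_eq h2 (isInvertible_tensorMod h1 h1) p,
    ← InvCl.mk_mul h1 h1, Surf15.deg_mul k (isCoh_structureModule Y) (dim_support_le hd _)]
  ring

theorem deg_twist_two {n : ℕ} (r : Y ⟶ CohB1.ProjSpace n k) :
    Curv2.deg k Y ((Scheme.Modules.pullback r).obj (Twist.twistProjSpace n k 2)) 1 =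
      2 * Curv2.deg k Y ((Scheme.Modules.pullback r).obj (Twist.twistProjSpace n k 1)) 1 :=
  let ⟨e⟩ := twistTwoIso (k := k) (n := n)
  deg_pullback_square k hd r (Surf15.isInvertible_twist_one_field k n) e

end Groth.Agent.TFPush7.P1Deg
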