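import Mathlib
import Groth.Agent.TFPush7.ExtLargerIdeal
import Groth.Agent.Et18.ExtRealize

set_option linter.style.haveILetI false
set_option backward.isDefEq.respectTransparency false
set_option backward.isDefEq.respectTransparency.types false
set_option maxHeartbeats 800000

/-! Bundle extensions of the ideal of a reduced finite set on a surface, by extension classes. -/

universe u

open CategoryTheory CategoryTheory.Limits AlgebraicGeometry Opposite TopologicalSpace
open scoped Pointwise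

namespace Groth.Agent.TFPush7.ExtLargerIdeal

/-- A finite family of proper subgroups with divisible ambient group does not cover. -/
theorem exists_notMem_of_divisible {A : Type*} [AddCommGroup A] {ι : Type*} (s : Finset ι) (H : ι → AddSubgroup A)
    (hdiv : ∀ (n : ℕ), n ≠ 0 → ∀ a : A, ∃ b, n • b = a) (h : ∀ i ∈ s, H i ≠ ⊤) :
    ∃ a, ∀ i ∈ s, a ∉ H i := by
  by_contra hc
  push Not at hc
  have hcov : ⋃ i ∈ s, (0 : A) +ᵥ (H i : Set A) = Set.univ := by
    refine Set.eq_univ_of_forall fun a => ?_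
    obtain ⟨i, hi, ha⟩ := hc a
    simp only [zero_vadd, Set.mem_iUnion]
    exact ⟨i, hi, ha⟩
  obtain ⟨k, hk, hfi⟩ := AddSubgroup.exists_finiteIndex_of_leftCoset_cover hcov
  refine h k hk (eq_top_iff.2 fun a _ => ?_)
  obtain ⟨b, rfl⟩ := hdiv (H k).index hfi.index_ne_zero a
  exact (H k).nsmul_index_mem b

variable {X : Scheme.{u}}

theorem isIso_nsmul_id (k : Type u) [Field k] [CharZero k] [X.Over (Spec (CommRingCat.of k))]
    (M : X.Modules) {n : ℕ} (hn : n ≠ 0) : IsIso (n • 𝟙 M) := by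
  refine Scheme.Modules.Hom.isIso_iff_isIso_app.2 fun U => ?_
  refine (ConcreteCategory.isIso_iff_bijective _).2 ?_
  let φ : k →+* Γ(X, U) := ((X ↘ Spec (CommRingCat.of k)).appLE ⊤ U (by simp)).hom.comp
    (Scheme.ΓSpecIso (CommRingCat.of k)).inv.hom
  have hu : IsUnit (n : Γ(X, U)) := by
    have := (isUnit_iff_ne_zero.2 (Nat.cast_ne_zero.2 hn : (n : k) ≠ 0)).map φ
    rwa [map_natCast] at this
  have happ : ∀ s : Γ(M, U), (n • 𝟙 M : M ⟶ M).app U s = (n : Γ(X, U)) • s := fun s => by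
    rw [Nat.cast_smul_eq_nsmul]
    induction n with
    | zero => rw [zero_nsmul, zero_nsmul]; rfl
    | succ m ih =>
      rw [succ_nsmul, succ_nsmul]
      rcases eq_or_ne m 0 with rfl | hm
      · rw [zero_nsmul, zero_nsmul, zero_add, zero_add]; rfl
      · rw [← ih hm (by
          have := (isUnit_iff_ne_zero.2 (Nat.cast_ne_zero.2 hm : (m : k) ≠ 0)).map φ
          rwa [map_natCast] at this)]
        rfl
  have hb := hu.smul_bijective (β := Γ(M, U))
  exact (show ⇑((n • 𝟙 M : M ⟶ M).app U) = fun s => (n : Γ(X, U)) • s from funext happ) ▸ hb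

theorem exists_nsmul_eq [HasExt.{u} X.Modules] (k : Type u) [Field k] [CharZero k]
    [X.Over (Spec (CommRingCat.of k))] (A M : X.Modules) {n : ℕ} (hn : n ≠ 0) (ξ : Abelian.Ext A M 1) :
    ∃ η : Abelian.Ext A M 1, n • η = ξ := by
  haveI := isIso_nsmul_id k M hn
  refine ⟨ξ.comp (Abelian.Ext.mk₀ (inv (n • 𝟙 M))) (add_zero 1), ?_⟩
  have key : ∀ (η : Abelian.Ext A M 1) (m : ℕ),
      η.comp (Abelian.Ext.mk₀ (m • 𝟙 M)) (add_zero 1) = m • η := fun η m => by
    induction m with
    | zero => rw [zero_nsmul, zero_nsmul, Abelian.Ext.mk₀_zero, Abelian.Ext.comp_zero]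
    | succ m ih =>
      rw [succ_nsmul, succ_nsmul, Abelian.Ext.mk₀_add, Abelian.Ext.comp_add, ih, Abelian.Ext.comp_mk₀_id]
  rw [← key, Abelian.Ext.comp_assoc_of_third_deg_zero, Abelian.Ext.mk₀_comp_mk₀, IsIso.inv_hom_id,
    Abelian.Ext.comp_mk₀_id]

theorem mem_vanishing {Z : Closeds X} {U : X.affineOpens} (f : Γ(X, U.1)) :
    f ∈ (Scheme.IdealSheafData.vanishingIdeal Z).ideal U ↔ ∀ w : X, w ∈ Z → w ∈ U.1 → w ∉ X.basicOpen f := by
  rw [Scheme.IdealSheafData.vanishingIdeal_ideal, PrimeSpectrum.mem_vanishingIdeal]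
  constructor
  · intro h w hwZ hwU hwf
    have e := U.2.fromSpec_primeIdealOf ⟨w, hwU⟩
    have hm := h (U.2.primeIdealOf ⟨w, hwU⟩) (by show U.2.fromSpec _ ∈ Z; rw [e]; exact hwZ)
    have : U.2.primeIdealOf ⟨w, hwU⟩ ∈ U.2.fromSpec ⁻¹ᵁ X.basicOpen f := by
      show U.2.fromSpec _ ∈ X.basicOpen f
      rw [e]; exact hwf
    rw [U.2.fromSpec_preimage_basicOpen] at this
    exact this hm
  · intro h q hq
    have hU : U.2.fromSpec q ∈ U.1 := by
      have := Set.mem_range_self (f := U.2.fromSpec) q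
      rwa [U.2.range_fromSpec] at this
    by_contra hfq
    refine h _ hq hU ?_
    have : q ∈ U.2.fromSpec ⁻¹ᵁ X.basicOpen f := by
      rw [U.2.fromSpec_preimage_basicOpen]; exact hfq
    exact this

/-- An ideal containing the ideal of a reduced finite set contains the ideal of any erasure of a point off it. -/
theorem vanishing_erase_le (Z : Finset X) (hZc : IsClosed (Z : Set X)) {z : X} (hz : IsClosed ({z} : Set X))
    (Z' : Finset X) (hZ'c : IsClosed (Z' : Set X)) (hsub : ∀ w ∈ Z, w ≠ z → w ∈ Z')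
    (I' : X.IdealSheafData) (hle : Scheme.IdealSheafData.vanishingIdeal ⟨(Z : Set X), hZc⟩ ≤ I')
    (hzI : z ∉ (I'.support : Set X)) :
    Scheme.IdealSheafData.vanishingIdeal ⟨(Z' : Set X), hZ'c⟩ ≤ I' := fun U f hf => by
  rw [mem_vanishing] at hf
  let A : Ideal Γ(X, U.1) := Submodule.comap (LinearMap.mulRight Γ(X, U.1) f) (I'.ideal U)
  suffices A = ⊤ by
    have h1 : (1 : Γ(X, U.1)) ∈ A := this ▸ trivial
    simpa [A] using h1
  by_contra hA
  obtain ⟨m, hm, hAm⟩ := Ideal.exists_le_maximal A hA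
  let q : PrimeSpectrum Γ(X, U.1) := ⟨m, hm.isPrime⟩
  let x := U.2.fromSpec q
  have hxU : x ∈ U.1 := by
    have := Set.mem_range_self (f := U.2.fromSpec) q
    rwa [U.2.range_fromSpec] at this
  have hnot : ∀ h : Γ(X, U.1), h ∈ m → x ∉ X.basicOpen h := fun h hh hx => by
    have : q ∈ U.2.fromSpec ⁻¹ᵁ X.basicOpen h := hx
    rw [U.2.fromSpec_preimage_basicOpen] at this
    exact this hh
  by_cases hxz : x = z
  · have hx0 : x ∉ I'.support := hxz ▸ hzI
    rw [Scheme.IdealSheafData.mem_support_iff_of_mem hxU, Scheme.mem_zeroLocus_iff] at hx0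
    push Not at hx0
    obtain ⟨h, hh, hxh⟩ := hx0
    refine hnot h (hAm ?_) hxh
    show h * f ∈ I'.ideal U
    exact Ideal.mul_mem_right _ _ hh
  · obtain ⟨h, hle', hxh⟩ := U.2.exists_basicOpen_le (V := ⟨({z} : Set X)ᶜ, hz.isOpen_compl⟩) ⟨x, hxz⟩ hxU
    refine hnot h (hAm ?_) hxh
    show h * f ∈ I'.ideal U
    refine hle U ((mem_vanishing _).2 fun w hw hwU => ?_)
    rw [X.basicOpen_mul]
    rintro ⟨hwh, hwf⟩
    exact hf w (hsub w hw fun e => hle' hwh e) hwU hwf

theorem main_class (k : Type u) [Field k] [CharZero k] [X.Over (Spec (CommRingCat.of k))]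
    [IsProper (X ↘ (Spec (CommRingCat.of k)))]
    [Smooth (X ↘ (Spec (CommRingCat.of k)))] [IrreducibleSpace X] (hdim : topologicalKrullDim X = 2)
    (M : X.Modules) (hM : PicF.IsInvertible M)
    (Z : Finset X) (hZc : IsClosed ((Z : Set X))) (hZ : ∀ z ∈ Z, IsClosed ({z} : Set X))
    [HasExt.{u} X.Modules] :
    (∃ (F : X.Modules) (a : M ⟶ F)
        (b : F ⟶ ClSub.idealMod (Scheme.IdealSheafData.vanishingIdeal ⟨(Z : Set X), hZc⟩)) (w : a ≫ b = 0),
        (ShortComplex.mk a b w).ShortExact ∧ FlatMod.IsFinLocFree F) ↔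
      ∀ (Z' : Finset X) (hZ'c : IsClosed ((Z' : Set X))), Z' ⊂ Z →
        ∀ φ : ClSub.idealMod (Scheme.IdealSheafData.vanishingIdeal ⟨(Z : Set X), hZc⟩) ⟶
            ClSub.idealMod (Scheme.IdealSheafData.vanishingIdeal ⟨(Z' : Set X), hZ'c⟩),
          φ ≫ ClSub.idealModι (Scheme.IdealSheafData.vanishingIdeal ⟨(Z' : Set X), hZ'c⟩) =
              ClSub.idealModι (Scheme.IdealSheafData.vanishingIdeal ⟨(Z : Set X), hZc⟩) →
            ¬ Function.Surjective ((Abelian.Ext.mk₀ φ).precomp M (zero_add 1)) := by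
  classical
  let IZ := Scheme.IdealSheafData.vanishingIdeal ⟨(Z : Set X), hZc⟩
  have hsuppV : ∀ (S : Closeds X), (Scheme.IdealSheafData.vanishingIdeal S).support = S := fun S =>
    SetLike.coe_injective (Scheme.IdealSheafData.coe_support_vanishingIdeal S)
  have hfin : (IZ.support : Set X).Finite := by
    rw [hsuppV]; exact Z.finite_toSet
  constructor
  · rintro ⟨F, a, b, w, hex, hlf⟩ Z' hZ'c hss φ hφ hsur
    obtain ⟨η, hη⟩ := hsur hex.extClass
    obtain ⟨F', a', b', w', h', rfl⟩ := Et18.ExtRealize.exists_extClass_eq η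
    obtain ⟨g, hg1, hg2⟩ := Et18.ExtRealize.exists_hom_of_extClass_eq hex h' (𝟙 M) φ (by
      rw [Abelian.Ext.comp_mk₀_id]; exact hη.symm)
    refine (main k hdim M hM IZ hfin F a b w hex).2 ⟨_, F', a', b', w', φ, g, ?_, h', hφ, ?_, hg2.symm⟩ hlf
    · refine lt_of_le_of_ne (Scheme.IdealSheafData.vanishingIdeal_antimono (Finset.coe_subset.2 hss.1)) fun e => ?_
      have := congrArg (fun I => (Scheme.IdealSheafData.support I : Set X)) e
      simp only [IZ, hsuppV] at this
      exact hss.ne (Finset.coe_injective this).symm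
    · simpa using hg1
  · intro h
    have hdata : ∀ z : {z // z ∈ Z}, ∃ hc : IsClosed ((Z.erase z.1 : Finset X) : Set X),
        ∃ φ : ClSub.idealMod IZ ⟶ ClSub.idealMod (Scheme.IdealSheafData.vanishingIdeal ⟨_, hc⟩),
          φ ≫ ClSub.idealModι _ = ClSub.idealModι IZ := fun z => by
      have hc : IsClosed ((Z.erase z.1 : Finset X) : Set X) := by
        rw [← Set.biUnion_of_singleton ((Z.erase z.1 : Finset X) : Set X)]
        exact (Finset.finite_toSet _).isClosed_biUnion fun y hy => hZ y (Finset.mem_of_mem_erase hy)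
      exact ⟨hc, ExtLargerIdeal.exists_hom_of_le (Scheme.IdealSheafData.vanishingIdeal_antimono
        (Finset.coe_subset.2 (Finset.erase_subset _ _)))⟩
    choose hc φ hφ using hdata
    obtain ⟨ξ, hξ⟩ := exists_notMem_of_divisible (A := Abelian.Ext (ClSub.idealMod IZ) M 1) Finset.univ
      (fun z => ((Abelian.Ext.mk₀ (φ z)).precomp M (zero_add 1)).range)
      (fun n hn a => exists_nsmul_eq k _ _ hn a) (fun z _ he => by
        refine h _ (hc z) (Finset.erase_ssubset z.2) (φ z) (hφ z) fun a => ?_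
        have : a ∈ ((Abelian.Ext.mk₀ (φ z)).precomp M (zero_add 1)).range := by rw [he]; trivial
        exact this)
    obtain ⟨F, a, b, w, hex, hcl⟩ := Et18.ExtRealize.exists_extClass_eq ξ
    refine ⟨F, a, b, w, hex, ?_⟩
    by_contra hnot
    obtain ⟨I', F', a', b', w', φ', g, hlt, h', hφ', hga, hgb⟩ := (main k hdim M hM IZ hfin F a b w hex).1 hnot
    obtain ⟨z, hz, hzI⟩ : ∃ z ∈ Z, z ∉ (I'.support : Set X) := by
      by_contra hc'
      push Not at hc'
      exact absurd (Scheme.IdealSheafData.le_support_iff_le_vanishingIdeal.1 (fun x hx => hc' x hx))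
        (not_le_of_gt hlt)
    obtain ⟨ψ, hψ⟩ := ExtLargerIdeal.exists_hom_of_le (vanishing_erase_le Z hZc (hZ z hz) (Z.erase z) (hc ⟨z, hz⟩)
      (fun v hv hne => Finset.mem_erase.2 ⟨hne, hv⟩) I' hlt.le hzI)
    refine hξ ⟨z, hz⟩ (Finset.mem_univ _) ⟨(Abelian.Ext.mk₀ ψ).comp h'.extClass (zero_add 1), ?_⟩
    show (Abelian.Ext.mk₀ (φ ⟨z, hz⟩)).comp _ (zero_add 1) = ξ
    have hcomp : φ ⟨z, hz⟩ ≫ ψ = φ' := by
      rw [← cancel_mono (ClSub.idealModι I'), Category.assoc, hψ, hφ, hφ']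
    rw [Abelian.Ext.mk₀_comp_mk₀_assoc, hcomp, ← hcl]
    have hn := ShortComplex.ShortExact.extClass_naturality hex h'
      (ShortComplex.homMk (S₁ := ShortComplex.mk a b w) (S₂ := ShortComplex.mk a' b' w') (𝟙 M) g φ'
        (by simpa using hga.symm) (by simpa using hgb))
    simpa using hn.symm

end Groth.Agent.TFPush7.ExtLargerIdeal
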