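import Groth.Agent.DualMod3.PullDual
import Groth.Agent.DCat.PullTensor
import Groth.Agent.CycLib28.InterPull
import Groth.Agent.VarietyLib.CurveDegree

/-!
# Coherent dualizing modules under an extension of the ground field
-/

set_option autoImplicit false
set_option backward.isDefEq.respectTransparency false
set_option linter.style.haveILetI false
set_option maxHeartbeats 1000000

universe u

open CategoryTheory CategoryTheory.Limits AlgebraicGeometry Opposite TopologicalSpace TensorProduct
open Groth.Agent.Coherent Groth.Agent.PicLib Groth.Agent.AmpleLib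
open Groth.Agent.DualMod3

namespace Groth.Agent.TFPush7.PullRep

theorem nonempty_pullTensor {X X' : Scheme.{u}} (g : X' ⟶ X) (W N : X.Modules) :
    Nonempty ((Scheme.Modules.pullback g).obj (CohB1.tensorMod W N) ≅
      CohB1.tensorMod ((Scheme.Modules.pullback g).obj W) ((Scheme.Modules.pullback g).obj N)) :=
  ⟨DCat.PullTensor.pullTensorIso g W N⟩

variable {X X' : Scheme.{u}} {k K : Type u} [Field k] [Field K] [Algebra k K]
  [X.Over (Spec (CommRingCat.of k))] [X'.Over (Spec (CommRingCat.of K))] (g : X' ⟶ X)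
  [IsProper (X ↘ Spec (CommRingCat.of k))] [IsProper (X' ↘ Spec (CommRingCat.of K))]

/-- A coherent dualizing module stays dualizing after an extension of the field. -/
theorem exists_rep_pullback (h : IsPullback g (X' ↘ Spec (CommRingCat.of K)) (X ↘ Spec (CommRingCat.of k))
      (Spec.map (CommRingCat.ofHom (algebraMap k K)))) {d : ℕ} (hd : topologicalKrullDim X' ≤ d)
    {W : X.Modules} (hW : Coh.IsCoh W) (t : Coh.HH X W d →ₗ[k] k)
    (hrep : ∀ F : X.Modules, Coh.IsQCoh F → SerreDual.Rep t F)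
    {L : X.Modules} (hL : CohB1.IsAmple L) :
    ∃ t' : Coh.HH X' ((Scheme.Modules.pullback g).obj W) d →ₗ[K] K,
      ∀ F : X'.Modules, Coh.IsQCoh F → SerreDual.Rep t' F := by
  classical
  haveI := EulerLib.isNoetherian_of_proper k (X := X)
  haveI := EulerLib.isNoetherian_of_proper K (X := X')
  haveI : X.IsSeparated := EulerLib.isSeparated_of_proper (X := X) k
  haveI : IsAffineHom g := MorphismProperty.IsStableUnderBaseChange.of_isPullback
    (P := @IsAffineHom) h.flip inferInstance
  have hL' : CohB1.IsAmple ((Scheme.Modules.pullback g).obj L) := AmpleLib.isAmple_pullback_of_isAffineHom g hL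
  obtain ⟨W', tW, hW'c, hrep'⟩ := SerreDual.exists_coh_dualizing K hL' hd
  obtain ⟨E, hE⟩ := exists_bcEquiv g h d
  have hWq : Coh.IsQCoh W := hW.1
  have hWc : Coh.IsCoh ((Scheme.Modules.pullback g).obj W) := CycLib28.InterSheaf.isCoh_pullback g hW
  have hGq : ∀ M : X.Modules, PicF.IsInvertible M → Coh.IsQCoh ((Scheme.Modules.pullback g).obj M) := fun M hM =>
    isQCoh_of_isInvertible (PicLoc.isInvertible_pullback g hM)
  -- the functional extending `t`
  let t₁ : Coh.HH X' ((Scheme.Modules.pullback g).obj W) d →ₗ[K] K :=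
    ((Algebra.linearMap k K ∘ₗ t).liftBaseChange K) ∘ₗ (E W hWq).symm.toLinearMap
  obtain ⟨φ, hφ⟩ := (hrep' ((Scheme.Modules.pullback g).obj W) hWc.1).2 t₁
  let C : ∀ M : X.Modules, ((Scheme.Modules.pullback g).obj M ⟶ (Scheme.Modules.pullback g).obj W) →ₗ[K] ((Scheme.Modules.pullback g).obj M ⟶ W') := fun M => Linear.rightComp K ((Scheme.Modules.pullback g).obj M) φ
  have key : ∀ (M : X.Modules), PicF.IsInvertible M → Function.Surjective (C M) := fun M hM f' => by
    have hMq : Coh.IsQCoh M := isQCoh_of_isInvertible hM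
    haveI := CurveRR24.finite_HH_of_isCoh k (CurveRR24.isCoh_of_isInvertible k hM) d
    let b := Module.Free.chooseBasis k (Coh.HH X M d)
    choose f hf using fun i => (hrep M hMq).2 (b.coord i)
    let ψ := SerreDual.thetaLin tW ((Scheme.Modules.pullback g).obj M) f'
    refine ⟨∑ i, ψ (E M hMq (1 ⊗ₜ b i)) • (Scheme.Modules.pullback g).map (f i), ?_⟩
    refine (hrep' ((Scheme.Modules.pullback g).obj M) (hGq M hM)).1 ?_
    show SerreDual.thetaLin tW ((Scheme.Modules.pullback g).obj M) _ = ψ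
    apply LinearMap.ext
    intro y
    obtain ⟨z, rfl⟩ := (E M hMq).surjective y
    revert z
    suffices hz : ∀ j, SerreDual.thetaLin tW ((Scheme.Modules.pullback g).obj M) (C M (∑ i, ψ (E M hMq (1 ⊗ₜ b i)) • (Scheme.Modules.pullback g).map (f i)))
        (E M hMq (1 ⊗ₜ b j)) = ψ (E M hMq (1 ⊗ₜ b j)) by
      intro z
      have := (b.baseChange K).ext (f₁ := (SerreDual.thetaLin tW ((Scheme.Modules.pullback g).obj M)
          (C M (∑ i, ψ (E M hMq (1 ⊗ₜ b i)) • (Scheme.Modules.pullback g).map (f i)))) ∘ₗ (E M hMq).toLinearMap)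
        (f₂ := ψ ∘ₗ (E M hMq).toLinearMap) fun j => by
          rw [Module.Basis.baseChange_apply]; exact hz j
      exact LinearMap.congr_fun this z
    intro j
    have h1 : ∀ i, SerreDual.thetaLin tW ((Scheme.Modules.pullback g).obj M) (C M ((Scheme.Modules.pullback g).map (f i))) (E M hMq (1 ⊗ₜ b j)) =
        if i = j then 1 else 0 := fun i => by
      show SerreDual.theta tW ((Scheme.Modules.pullback g).obj M) ((Scheme.Modules.pullback g).map (f i) ≫ φ) (E M hMq (1 ⊗ₜ b j)) = _
      rw [SerreDual.theta_comp, LinearMap.comp_apply, hφ, SerreDual.hmap_eq, hE M W hMq hWq (f i) (b j)]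
      show ((Algebra.linearMap k K ∘ₗ t).liftBaseChange K) ((E W hWq).symm ((E W hWq) _)) = _
      rw [LinearEquiv.symm_apply_apply, LinearMap.liftBaseChange_tmul, one_smul]
      show algebraMap k K (t _) = _
      rw [← SerreDual.theta_apply, hf i, b.coord_apply, Module.Basis.repr_self, Finsupp.single_apply]
      simp only [eq_comm (a := j)]
      split <;> simp
    simp only [map_sum, map_smul, LinearMap.sum_apply, LinearMap.smul_apply, h1, smul_eq_mul, mul_ite,
      mul_one, mul_zero, Finset.sum_ite_eq', Finset.mem_univ, if_true]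
  -- injectivity by counting
  have inj : ∀ (M : X.Modules), PicF.IsInvertible M → Function.Injective (C M) := fun M hM => by
    obtain ⟨N, hN, ⟨e⟩⟩ := CurveRR24.exists_inverse k hM
    have hMq : Coh.IsQCoh M := isQCoh_of_isInvertible hM
    have hN' : PicF.IsInvertible ((Scheme.Modules.pullback g).obj N) := PicLoc.isInvertible_pullback g hN
    have hM' : PicF.IsInvertible ((Scheme.Modules.pullback g).obj M) := PicLoc.isInvertible_pullback g hM
    obtain ⟨a⟩ := AmpleLib.exists_pullTensorIso g hM hN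
    obtain ⟨o⟩ := exists_pullStructureIso (X := X) g
    let e' : CohB1.tensorMod ((Scheme.Modules.pullback g).obj M) ((Scheme.Modules.pullback g).obj N) ≅ Coh.structureModule X' := a.symm ≪≫ (Scheme.Modules.pullback g).mapIso e ≪≫ o
    obtain ⟨a2⟩ := nonempty_pullTensor g W N
    haveI := CurveRR24.finite_HH_of_isCoh k (CurveRR24.isCoh_of_isInvertible k hM) d
    haveI : Module.Finite k (M ⟶ W) := Module.Finite.equiv (SerreDual.dualEquiv t (hrep M hMq)).symm
    haveI := CurveRR24.finite_HH_of_isCoh K (CurveRR24.isCoh_of_isInvertible K hM') d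
    haveI : Module.Finite K ((Scheme.Modules.pullback g).obj M ⟶ W') :=
      Module.Finite.equiv (SerreDual.dualEquiv tW (hrep' _ (hGq M hM))).symm
    haveI := CurveRR24.finite_HH_of_isCoh K
      (VarietyLib.isCoh_tensor' hWc (CurveRR24.isCoh_of_isInvertible K hN')) 0
    haveI : Module.Finite K ((Scheme.Modules.pullback g).obj M ⟶ (Scheme.Modules.pullback g).obj W) := by
      let fwd : ((Scheme.Modules.pullback g).obj M ⟶ (Scheme.Modules.pullback g).obj W) →ₗ[K] Coh.HH X' (CohB1.tensorMod ((Scheme.Modules.pullback g).obj W) ((Scheme.Modules.pullback g).obj N)) 0 :=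
        ((Linear.homCongr K e' (Iso.refl _)).trans (SerreDual.homUnitHH K _)).toLinearMap ∘ₗ
          SerreDual.tensorRightHom K ((Scheme.Modules.pullback g).obj M) ((Scheme.Modules.pullback g).obj W) ((Scheme.Modules.pullback g).obj N)
      exact Module.Finite.of_injective fwd fun x y hxy => SerreDual.tensorRightHom_injective K _ _ hN'
        (((Linear.homCongr K e' (Iso.refl _)).trans (SerreDual.homUnitHH K _)).injective hxy)
    have d1 : Module.finrank K ((Scheme.Modules.pullback g).obj M ⟶ (Scheme.Modules.pullback g).obj W) = Module.finrank K ((Scheme.Modules.pullback g).obj M ⟶ W') := by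
      haveI : Coh.IsQCoh (CohB1.tensorMod W N) := (VarietyLib.isCoh_tensor' hW (CurveRR24.isCoh_of_isInvertible k hN)).1
      haveI := hMq
      rw [← (SerreDual.finrank_hom_eq K ((Scheme.Modules.pullback g).obj W) hM' hN' e').2,
        CurveRR24.finrank_HH_congr K a2.symm 0, CurveRR24.finrank_HH_bc h (CohB1.tensorMod W N) 0,
        (SerreDual.finrank_hom_eq k W hM hN e).2,
        (SerreDual.dualEquiv t (hrep M hMq)).finrank_eq, Subspace.dual_finrank_eq,
        (SerreDual.dualEquiv tW (hrep' _ (hGq M hM))).finrank_eq, Subspace.dual_finrank_eq,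
        CurveRR24.finrank_HH_bc h M d]
    exact (LinearMap.injective_iff_surjective_of_finrank_eq_finrank d1).2 (key M hM)
  -- generation by pulled back invertible modules
  have hgen : ∀ F : X'.Modules, Coh.IsCoh F → ∃ (n : ℕ) (N : Fin n → X'.Modules) (π : ⨁ N ⟶ F), Epi π ∧
      ∀ j, ∃ M : X.Modules, PicF.IsInvertible M ∧ Nonempty (N j ≅ (Scheme.Modules.pullback g).obj M) := fun F hF => by
    have hcov : ∀ x : X', ∃ (P : X'.Modules) (a : Γ(P, ⊤)),
        (∃ Q : X.Modules, PicF.IsInvertible Q ∧ P = (Scheme.Modules.pullback g).obj Q) ∧ PicF.IsInvertible P ∧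
          x ∈ glocus P a ∧ IsAffineOpen (glocus P a) := fun x => by
      obtain ⟨-, -, hc⟩ := isAmple_iff_affGlocus.1 hL
      obtain ⟨r, -, s, hxs, -, hs⟩ := hc (g x)
      refine ⟨(Scheme.Modules.pullback g).obj (CohB1.tensorPow L r), pullSec g (U := ⊤) s,
        ⟨_, AmpleLib.isInvertible_tensorPow hL.1 r, rfl⟩,
        PicLoc.isInvertible_pullback g (AmpleLib.isInvertible_tensorPow hL.1 r), ?_, ?_⟩
      · rw [glocus_pullSec g (AmpleLib.isInvertible_tensorPow hL.1 r)]
        exact hxs
      · rw [glocus_pullSec g (AmpleLib.isInvertible_tensorPow hL.1 r)]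
        exact hs.preimage g
    obtain ⟨n, N, π, hπ, hN⟩ := Desc19b.exists_epi_negPow _ hcov F hF
    refine ⟨n, N, π, hπ, fun j => ?_⟩
    obtain ⟨hNi, P, r, ⟨Q, hQ, rfl⟩, -, ⟨eN⟩⟩ := hN j
    obtain ⟨M, hM, ⟨eM⟩⟩ := CurveRR24.exists_inverse k (AmpleLib.isInvertible_tensorPow hQ r)
    have hQr := AmpleLib.isInvertible_tensorPow hQ r
    obtain ⟨ep⟩ := AmpleLib.exists_pullPowIso g hQ r
    obtain ⟨ea⟩ := AmpleLib.exists_pullTensorIso g hQr hM
    obtain ⟨o⟩ := exists_pullStructureIso (X := X) g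
    have hPr : PicF.IsInvertible ((Scheme.Modules.pullback g).obj (CohB1.tensorPow Q r)) := PicLoc.isInvertible_pullback g hQr
    obtain ⟨as⟩ := EulerLib.exists_assocIso' (N j) hPr (PicLoc.isInvertible_pullback g hM)
    let eNQ : CohB1.tensorMod (N j) ((Scheme.Modules.pullback g).obj (CohB1.tensorPow Q r)) ≅ Coh.structureModule X' :=
      AmpleLib.tensorIso (Iso.refl (N j)) ep ≪≫ eN
    refine ⟨M, hM, ⟨?_⟩⟩
    exact (tensorComm _ _ ≪≫ unitTensorIso (N j)).symm ≪≫
      AmpleLib.tensorIso (Iso.refl (N j)) (ea.symm ≪≫ (Scheme.Modules.pullback g).mapIso eM ≪≫ o).symm ≪≫ as.symm ≪≫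
      AmpleLib.tensorIso eNQ (Iso.refl _) ≪≫ unitTensorIso _
  -- the map is an isomorphism
  haveI : Epi φ := by
    obtain ⟨n, N, π, hπ, hN⟩ := hgen W' hW'c
    refine ⟨fun a b hab => ?_⟩
    rw [← cancel_epi π]
    refine biproduct.hom_ext' _ _ fun j => ?_
    obtain ⟨M, hM, ⟨e⟩⟩ := hN j
    obtain ⟨f, hf⟩ := key M hM (e.inv ≫ biproduct.ι N j ≫ π)
    rw [← cancel_epi e.inv]
    simp only [← Category.assoc]
    have hf' : f ≫ φ = (e.inv ≫ biproduct.ι N j) ≫ π := by rw [Category.assoc]; exact hf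
    rw [← hf', Category.assoc, Category.assoc, hab]
  haveI : Mono φ := by
    obtain ⟨n, N, π, hπ, hN⟩ := hgen (kernel φ)
      (isCoh_kernel φ hWc hW'c.1)
    refine Preadditive.mono_of_kernel_zero ?_
    rw [← cancel_epi π, comp_zero]
    refine biproduct.hom_ext' _ _ fun j => ?_
    obtain ⟨M, hM, ⟨e⟩⟩ := hN j
    rw [comp_zero, ← cancel_epi e.inv, comp_zero]
    refine inj M hM ?_
    rw [map_zero]
    show (e.inv ≫ biproduct.ι N j ≫ π ≫ kernel.ι φ) ≫ φ = 0
    simp
  haveI : IsIso φ := isIso_of_mono_of_epi φ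
  refine ⟨t₁, fun F hF => ⟨fun a b hab => ?_, fun ψ => ?_⟩⟩
  · rw [← cancel_mono φ]
    refine (hrep' F hF).1 ?_
    rw [SerreDual.theta_comp, SerreDual.theta_comp, hφ]
    exact hab
  · obtain ⟨f, hf⟩ := (hrep' F hF).2 ψ
    refine ⟨f ≫ inv φ, ?_⟩
    rw [← hf]
    show SerreDual.theta t₁ F (f ≫ inv φ) = _
    conv_rhs => rw [← Category.comp_id f, ← IsIso.inv_hom_id φ, ← Category.assoc, SerreDual.theta_comp, hφ]
    rfl

end Groth.Agent.TFPush7.PullRep
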